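import Cfsg.Agent.PGroups.MaxAbelian
import Cfsg.Agent.PGroups.CyclicMaximal
import Cfsg.Agent.Derange.Fixed
import Cfsg.Agent.H39.Dihedral

/-!
A 2-group with a central involution `z` has a normal four group containing `z`, or a cyclic
self-centralising subgroup `⟨a⟩ ∋ z` with all outer elements inverting `a` up to `z`.
-/

set_option autoImplicit false
set_option linter.style.haveILetI false

namespace Cfsg.Agent.H14.Asch

open Subgroup
open Cfsg.Agent.H39

variable {S : Type*} [Group S]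

theorem eq_one_of_odd_zpow (hS : IsPGroup 2 S) {x : S} {k : ℤ} (hk : Odd k) (h : x ^ k = 1) :
    x = 1 := by
  haveI : Fact (Nat.Prime 2) := ⟨Nat.prime_two⟩
  obtain ⟨n, hn⟩ := IsPGroup.iff_orderOf.mp hS x
  have h1 : (orderOf x : ℤ) ∣ k := orderOf_dvd_iff_zpow_eq_one.mpr h
  rcases n with _ | n
  · rwa [pow_zero, orderOf_eq_one_iff] at hn
  · exfalso
    obtain ⟨j, rfl⟩ := hk
    rw [hn, pow_succ] at h1
    push_cast at h1
    have := (dvd_mul_left (2 : ℤ) _).trans h1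
    omega

theorem eq_one_or_eq_of_sq [Finite S] {a z x : S} (hz2 : orderOf z = 2) (hz : z ∈ zpowers a)
    (hx : x ∈ zpowers a) (h : x * x = 1) : x = 1 ∨ x = z :=
  or_iff_not_imp_left.mpr fun hx1 => PGroups.eq_of_sq_eq_one inferInstance hx hz
    (by rw [sq, h]) (by rw [sq, mul_self_of_orderOf_eq_two hz2]) hx1
    (ne_one_of_orderOf_eq_two hz2)

theorem zpow_even_of_orderOf_two {z : S} (hz2 : orderOf z = 2) {k : ℤ} (hk : Even k) :
    z ^ k = 1 :=
  orderOf_dvd_iff_zpow_eq_one.mp (by rw [hz2]; exact even_iff_two_dvd.mp hk)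

theorem zpow_odd_of_orderOf_two {z : S} (hz2 : orderOf z = 2) {k : ℤ} (hk : Odd k) :
    z ^ k = z := by
  obtain ⟨j, rfl⟩ := hk
  rw [zpow_add_one, zpow_even_of_orderOf_two hz2 (even_two_mul j), one_mul]

theorem conj_eq_zpow_mul {a x y : S} {m n : ℤ} (hx : x * a * x⁻¹ = a ^ m)
    (hy : y * a * y⁻¹ = a ^ n) : x * y * a * (x * y)⁻¹ = a ^ (m * n) := by
  rw [zpow_mul, ← hx, conj_zpow, ← hy]
  group

variable [Finite S]

/-- An element twisting a cyclic self-centralising subgroup by the central involution gives a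
normal four group. -/
theorem exists_normal_four_of_twist (hS : IsPGroup 2 S) {z a x : S} (hz2 : orderOf z = 2)
    (hzc : ∀ s : S, Commute z s) [hN : (zpowers a).Normal] (hza : z ∈ zpowers a)
    (hC : ∀ g : S, Commute g a → g ∈ zpowers a) {q : ℤ} (hq : a ^ (4 * q) = z)
    (hxa : x * a * x⁻¹ = a * z) (hxx : x * x ∈ zpowers a) :
    ∃ t : S, orderOf t = 2 ∧ t ≠ z ∧ ∀ s : S, s * t * s⁻¹ = t ∨ s * t * s⁻¹ = t * z := by
  have hz1 := ne_one_of_orderOf_eq_two hz2
  have haz : ∀ j : ℤ, (a * z) ^ j = a ^ j * z ^ j := fun j => (hzc a).symm.mul_zpow j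
  have hno : ∀ k : ℤ, Odd k → a ^ (2 * k) ≠ z := by
    intro k hk h
    have h1 : (a ^ (2 : ℤ)) ^ (k - 2 * q) = 1 := by
      rw [← zpow_mul, show 2 * (k - 2 * q) = 2 * k + -(4 * q) by ring, zpow_add, h, zpow_neg, hq,
        mul_inv_cancel]
    have h2 := eq_one_of_odd_zpow hS (hk.sub_even (even_two_mul q)) h1
    apply hz1
    rw [← hq, show (4 : ℤ) * q = 2 * (2 * q) by ring, zpow_mul, h2, one_zpow]
  obtain ⟨i, hi⟩ := hxx
  have hi : a ^ i = x * x := hi
  have hie : Even i := by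
    by_contra hodd
    have h1 : x * a ^ i * x⁻¹ = a ^ i := by rw [hi]; group
    rw [← conj_zpow, hxa, haz, zpow_odd_of_orderOf_two hz2 (Int.not_even_iff_odd.mp hodd)] at h1
    exact hz1 (mul_eq_left.mp h1)
  obtain ⟨i', rfl⟩ := hie
  obtain ⟨j, hj⟩ : ∃ j : ℤ, a ^ (2 * (j + i')) * z ^ j = 1 := by
    rcases Int.even_or_odd i' with he | ho
    · exact ⟨-i', by rw [neg_add_cancel, mul_zero, zpow_zero, one_mul,
        zpow_even_of_orderOf_two hz2 he.neg]⟩
    · exact ⟨2 * q - i', by rw [sub_add_cancel, ← mul_assoc, show (2 : ℤ) * 2 = 4 by norm_num, hq,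
        zpow_odd_of_orderOf_two hz2 ((even_two_mul q).sub_odd ho), mul_self_of_orderOf_eq_two hz2]⟩
  set t := a ^ j * x with ht
  have hta : t * a * t⁻¹ = a * z := by
    calc a ^ j * x * a * (a ^ j * x)⁻¹ = a ^ j * (x * a * x⁻¹) * (a ^ j)⁻¹ := by group
      _ = a ^ j * a * (a ^ j)⁻¹ * z := by
        rw [hxa]; simp [mul_assoc, ((hzc a).zpow_right j).inv_right.eq]
      _ = a * z := by group
  have htz : ∀ k : ℤ, t * a ^ k * t⁻¹ = a ^ k * z ^ k := fun k => by rw [← conj_zpow, hta, haz]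
  have ht2 : t * t = 1 := by
    calc a ^ j * x * (a ^ j * x) = a ^ j * (x * a ^ j * x⁻¹) * (x * x) := by group
      _ = a ^ j * (a ^ j * z ^ j) * a ^ (i' + i') := by rw [← conj_zpow, hxa, haz, hi]
      _ = a ^ j * a ^ j * a ^ (i' + i') * z ^ j := by
        simp [mul_assoc, (((hzc a).zpow_left j).zpow_right (i' + i')).eq]
      _ = 1 := by rw [← zpow_add, ← zpow_add, show j + j + (i' + i') = 2 * (j + i') by ring, hj]
  have htA : t ∉ zpowers a := fun h => by
    have h1 : t * a * t⁻¹ = a := by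
      rw [(commute_of_mem_zpowers (Commute.refl a) h).eq.symm, mul_inv_cancel_right]
    rw [hta] at h1
    exact hz1 (mul_eq_left.mp h1)
  refine ⟨t, orderOf_eq_two_of_mul_self ht2 fun h => htA (h ▸ one_mem _),
    fun h => htA (h ▸ hza), fun s => ?_⟩
  obtain ⟨m, hm⟩ : ∃ m : ℤ, a ^ m = s * a * s⁻¹ := hN.conj_mem a (mem_zpowers a) s
  obtain ⟨l, hl⟩ : ∃ l : ℤ, a ^ l = s⁻¹ * a * s⁻¹⁻¹ := hN.conj_mem a (mem_zpowers a) s⁻¹
  have hml : a ^ (m * l) = a := by rw [zpow_mul, hm, conj_zpow, hl]; group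
  have hmodd : Odd m := by
    by_contra he
    obtain ⟨m', rfl⟩ := Int.not_odd_iff_even.mp he
    have h1 : a ^ (2 * (m' * l) - 1) = 1 := by
      rw [zpow_sub_one, show 2 * (m' * l) = (m' + m') * l by ring, hml, mul_inv_cancel]
    have ha1 := eq_one_of_odd_zpow hS ((even_two_mul _).sub_odd odd_one) h1
    exact hz1 (by rw [← hq, ha1, one_zpow])
  set t' := s * t * s⁻¹ with ht'
  have ht'a : t' * a ^ m * t'⁻¹ = a ^ m * z := by
    rw [hm, ht']
    calc s * t * s⁻¹ * (s * a * s⁻¹) * (s * t * s⁻¹)⁻¹ = s * (t * a * t⁻¹) * s⁻¹ := by group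
      _ = s * a * (z * s⁻¹) := by rw [hta]; group
      _ = s * a * s⁻¹ * z := by rw [(hzc s⁻¹).eq]; group
  have hcomm : Commute (t⁻¹ * t') (a ^ m) := by
    have h1 : t' * a ^ m * t'⁻¹ = t * a ^ m * t⁻¹ := by
      rw [ht'a, htz, zpow_odd_of_orderOf_two hz2 hmodd]
    show t⁻¹ * t' * a ^ m = a ^ m * (t⁻¹ * t')
    calc t⁻¹ * t' * a ^ m = t⁻¹ * (t' * a ^ m * t'⁻¹) * t' := by group
      _ = _ := by rw [h1]; group
  have hcomm' : Commute (t⁻¹ * t') a := by
    have := hcomm.zpow_right l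
    rwa [← zpow_mul, hml] at this
  obtain ⟨k, hk⟩ : ∃ k : ℤ, a ^ k = t⁻¹ * t' := hC _ hcomm'
  have ht'2 : t' * t' = 1 := by
    rw [ht']
    calc s * t * s⁻¹ * (s * t * s⁻¹) = s * (t * t) * s⁻¹ := by group
      _ = 1 := by rw [ht2]; group
  have heq : t' = t * a ^ k := by rw [hk]; group
  have hkk : a ^ (2 * k) * z ^ k = 1 := by
    rw [heq] at ht'2
    rw [← ht'2]
    calc a ^ (2 * k) * z ^ k = a ^ k * z ^ k * a ^ k := by
          rw [two_mul, zpow_add]
          simp [mul_assoc, (((hzc a).zpow_left k).zpow_right k).eq]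
      _ = t * a ^ k * t⁻¹ * a ^ k := by rw [htz]
      _ = t * a ^ k * (t * a ^ k) := by rw [inv_eq_of_mul_eq_one_right ht2]; group
  rcases Int.even_or_odd k with he | ho
  · rw [zpow_even_of_orderOf_two hz2 he, mul_one, two_mul, zpow_add] at hkk
    rcases eq_one_or_eq_of_sq hz2 hza (zpow_mem (mem_zpowers a) k) hkk with h | h
    · exact Or.inl (by rw [heq, h, mul_one])
    · exact Or.inr (by rw [heq, h])
  · rw [zpow_odd_of_orderOf_two hz2 ho] at hkk
    exact absurd ((eq_inv_of_mul_eq_one_left hkk).trans (inv_eq_of_orderOf_eq_two hz2)) (hno k ho)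

/-- A 2-group with a central involution `z` has a normal four group containing `z` or is built on a
cyclic group containing `z` which the other elements invert up to `z`. -/
theorem exists_normal_four_or_cyclic (hS : IsPGroup 2 S) {z : S} (hz2 : orderOf z = 2)
    (hzc : ∀ s : S, Commute z s) :
    (∃ t : S, orderOf t = 2 ∧ t ≠ z ∧ ∀ s : S, s * t * s⁻¹ = t ∨ s * t * s⁻¹ = t * z) ∨
      ∃ a : S, z ∈ zpowers a ∧ ∀ y ∉ zpowers a,
        (y * a * y⁻¹ = a⁻¹ ∨ y * a * y⁻¹ = a⁻¹ * z) ∧ ∀ x ∉ zpowers a, y * x ∈ zpowers a := by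
  haveI : Fact (Nat.Prime 2) := ⟨Nat.prime_two⟩
  haveI hZn : (zpowers z).Normal := ⟨fun n hn g => by
    rw [(commute_of_mem_zpowers (hzc g).symm hn).eq, mul_inv_cancel_right]; exact hn⟩
  obtain ⟨A, hAn, hAc, hzA, hmax⟩ :=
    PGroups.exists_maximal_normal_abelian (zpowers z) inferInstance
  haveI := hAn
  have hzA' : z ∈ A := hzA (mem_zpowers z)
  have hcen := PGroups.centralizer_eq_self hS hAc hmax
  by_cases hu : ∀ x ∈ A, x * x = 1 → x ∈ zpowers z
  swap
  · left
    push Not at hu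
    obtain ⟨x₀, hx₀A, hx₀2, hx₀⟩ := hu
    let N : Subgroup S :=
      { carrier := {x | x ∈ A ∧ x * x = 1}
        one_mem' := ⟨one_mem A, one_mul 1⟩
        mul_mem' := fun {x y} hx hy => ⟨mul_mem hx.1 hy.1, by
          calc x * y * (x * y) = x * (y * x) * y := by group
            _ = (x * x) * (y * y) := by
              rw [PGroups.comm_of_isMulCommutative hAc hy.1 hx.1]; group
            _ = 1 := by rw [hx.2, hy.2, mul_one]⟩
        inv_mem' := fun {x} hx => ⟨inv_mem hx.1, by rw [← mul_inv_rev, hx.2, inv_one]⟩ }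
    haveI : N.Normal := ⟨fun x hx g => ⟨hAn.conj_mem x hx.1 g, by
      calc g * x * g⁻¹ * (g * x * g⁻¹) = g * (x * x) * g⁻¹ := by group
        _ = 1 := by rw [hx.2]; group⟩⟩
    have hlt : zpowers z < N :=
      lt_of_le_of_ne (zpowers_le.mpr ⟨hzA', mul_self_of_orderOf_eq_two hz2⟩)
        fun h => hx₀ (h ▸ ⟨hx₀A, hx₀2⟩)
    obtain ⟨M, hMn, hzM, hMN, hcard⟩ := PGroups.exists_normal_card_mul hS (zpowers z) N hlt
    haveI := hMn
    have hlt' : zpowers z < M := lt_of_le_of_ne hzM fun h => by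
      rw [← h, Nat.card_zpowers, hz2] at hcard
      omega
    obtain ⟨t, htM, htz⟩ := SetLike.exists_of_lt hlt'
    refine ⟨t, orderOf_eq_two_of_mul_self (hMN htM).2 fun h => htz (h ▸ one_mem _),
      fun h => htz (h ▸ mem_zpowers z), fun s => ?_⟩
    obtain ⟨e, he⟩ : ∃ e : ℤ, z ^ e = s * t * s⁻¹ * t⁻¹ :=
      PGroups.commutatorElement_mem_of_card hS hzM hcard htM s
    rcases Int.even_or_odd e with hev | hod
    · rw [zpow_even_of_orderOf_two hz2 hev] at he
      exact Or.inl (mul_inv_eq_one.mp he.symm)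
    · rw [zpow_odd_of_orderOf_two hz2 hod] at he
      exact Or.inr (by rw [← (hzc t).eq, he, inv_mul_cancel_right])
  obtain ⟨a, -, rfl⟩ := Derange.isCyclic_of_unique (q := 2) (A := A) (hS.to_subgroup A)
    (fun x hx y hy => PGroups.comm_of_isMulCommutative hAc hx hy)
    fun x hx y hy hx2 hx1 hy2 => by
      rw [sq] at hx2 hy2
      rw [(eq_one_or_eq_of_sq hz2 (mem_zpowers z) (hu x hx hx2) hx2).resolve_left hx1]
      exact hu y hy hy2
  have hC : ∀ g : S, Commute g a → g ∈ zpowers a := fun g hg => by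
    rw [← hcen]
    exact mem_centralizer_iff.mpr fun b hb => (commute_of_mem_zpowers hg hb).eq.symm
  by_cases hK : ∀ (x : S) (k : ℤ), x * a * x⁻¹ = a ^ (4 * k + 1) → x ∈ zpowers a
  swap
  · left
    push Not at hK
    obtain ⟨x, k, hxk, hx⟩ := hK
    induction hn : orderOf x using Nat.strong_induction_on generalizing x k with
    | _ n ih =>
    have hsq : x * x * a * (x * x)⁻¹ = a ^ (4 * (4 * k * k + 2 * k) + 1) := by
      rw [conj_eq_zpow_mul hxk hxk]; ring_nf
    by_cases hxx : x * x ∈ zpowers a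
    · have h1 : ((a ^ (4 * k)) ^ (2 : ℤ)) ^ (2 * k + 1) = 1 := by
        have h2 : a ^ (4 * (4 * k * k + 2 * k) + 1) = a := by
          rw [← hsq, (commute_of_mem_zpowers (Commute.refl a) hxx).eq.symm, mul_inv_cancel_right]
        rw [zpow_add_one] at h2
        rw [← zpow_mul, ← zpow_mul, show 4 * k * (2 * (2 * k + 1)) = 4 * (4 * k * k + 2 * k) by ring]
        exact mul_eq_right.mp h2
      have h3 := eq_one_of_odd_zpow hS (odd_two_mul_add_one k) h1
      rw [zpow_two] at h3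
      rcases eq_one_or_eq_of_sq hz2 hzA' (zpow_mem (mem_zpowers a) _) h3 with h | h
      · exact absurd (hC x (by
          rw [zpow_add_one, h, one_mul] at hxk
          exact mul_inv_eq_iff_eq_mul.mp hxk)) hx
      · exact exists_normal_four_of_twist hS hz2 hzc hzA' hC h
          (by rw [hxk, zpow_add_one, h, (hzc a).eq]) hxx
    · refine ih _ ?_ (x * x) _ hsq hxx rfl
      rw [← hn, ← sq]
      have h2 : 2 ∣ orderOf x := by
        obtain ⟨e, he⟩ := IsPGroup.iff_orderOf.mp hS x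
        rcases e with _ | e
        · rw [pow_zero, orderOf_eq_one_iff] at he
          exact absurd (he ▸ one_mem _) hx
        · rw [he]; exact dvd_pow_self 2 e.succ_ne_zero
      rw [orderOf_pow_of_dvd two_ne_zero h2]
      exact Nat.div_lt_self (orderOf_pos x) one_lt_two
  right
  have hz1 := ne_one_of_orderOf_eq_two hz2
  have hform : ∀ y : S, y ∉ zpowers a → ∃ k : ℤ, y * a * y⁻¹ = a ^ (4 * k + 3) := by
    intro y hy
    obtain ⟨m, hm⟩ : ∃ m : ℤ, a ^ m = y * a * y⁻¹ := hAn.conj_mem a (mem_zpowers a) y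
    obtain ⟨l, hl⟩ : ∃ l : ℤ, a ^ l = y⁻¹ * a * y⁻¹⁻¹ := hAn.conj_mem a (mem_zpowers a) y⁻¹
    rcases Int.even_or_odd' m with ⟨m', rfl | rfl⟩
    · exfalso
      have h1 : a ^ (2 * (m' * l) - 1) = 1 := by
        rw [zpow_sub_one, ← mul_assoc, zpow_mul, hm, conj_zpow, hl]; group
      have ha1 := eq_one_of_odd_zpow hS ((even_two_mul _).sub_odd odd_one) h1
      rw [ha1, mem_zpowers_iff] at hzA'
      obtain ⟨e, he⟩ := hzA'
      exact hz1 (by rw [← he, one_zpow])
    rcases Int.even_or_odd' m' with ⟨k, rfl | rfl⟩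
    · exact absurd (hK y k (by rw [← hm]; ring_nf)) hy
    · exact ⟨k, by rw [← hm]; ring_nf⟩
  refine ⟨a, hzA', fun y hy => ⟨?_, fun x hx => ?_⟩⟩
  · obtain ⟨k, hk⟩ := hform y hy
    have hsq : y * y * a * (y * y)⁻¹ = a ^ (4 * (4 * k * k + 6 * k + 2) + 1) := by
      rw [conj_eq_zpow_mul hk hk]; ring_nf
    have h1 : a ^ (4 * (4 * k * k + 6 * k + 2) + 1) = a := by
      rw [← hsq, (commute_of_mem_zpowers (Commute.refl a) (hK _ _ hsq)).eq.symm,
        mul_inv_cancel_right]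
    have h2 : ((a ^ (4 * (k + 1))) ^ (2 : ℤ)) ^ (2 * k + 1) = 1 := by
      rw [zpow_add_one] at h1
      rw [← zpow_mul, ← zpow_mul,
        show 4 * (k + 1) * (2 * (2 * k + 1)) = 4 * (4 * k * k + 6 * k + 2) by ring]
      exact mul_eq_right.mp h1
    have h3 := eq_one_of_odd_zpow hS (odd_two_mul_add_one k) h2
    rw [zpow_two] at h3
    have h4 : y * a * y⁻¹ = a⁻¹ * a ^ (4 * (k + 1)) := by
      rw [hk, ← zpow_neg_one, ← zpow_add]; ring_nf
    rcases eq_one_or_eq_of_sq hz2 hzA' (zpow_mem (mem_zpowers a) _) h3 with h | h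
    · exact Or.inl (by rw [h4, h, mul_one])
    · exact Or.inr (by rw [h4, h])
  · obtain ⟨k, hk⟩ := hform y hy
    obtain ⟨l, hl⟩ := hform x hx
    exact hK _ (4 * k * l + 3 * k + 3 * l + 2) (by rw [conj_eq_zpow_mul hk hl]; ring_nf)

end Cfsg.Agent.H14.Asch
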