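import Cfsg.Agent.H14.Asch.Crit
import Cfsg.Agent.H14.Asch.TwoGroup
import Cfsg.Agent.H39.Basic
import Cfsg.Agent.H25.InvolutionTransfer

/-!
The bad involutions of rank one (no two distinct commuting members centralise them): a four group
of involutions centralising one of them has a further bad element, Sylow 2-subgroups with a central
member, and the transfer step removing them from the subgroup generated by the members.
-/

set_option autoImplicit false
set_option linter.style.haveILetI false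

namespace Cfsg.Agent.H14.Asch

open Subgroup MulAction
open Cfsg.Agent.H39
open scoped Pointwise

universe u v

variable {G : Type u} [Group G] {Ω : Type v} [MulAction G Ω] {D : Set G}

/-- An element with two fixed points. -/
def Bad (Ω : Type v) [MulAction G Ω] (u : G) : Prop := ∃ x y : Ω, x ≠ y ∧ u • x = x ∧ u • y = y

/-- A bad involution centralising no two distinct commuting members. -/
def RankOne (Ω : Type v) [MulAction G Ω] (D : Set G) (u : G) : Prop :=
  orderOf u = 2 ∧ Bad Ω u ∧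
    ∀ d ∈ D, ∀ e ∈ D, Commute d u → Commute e u → Commute d e → d = e

/-- Members generating a 2-group in the centraliser of a bad involution commute. -/
def LineComm (Ω : Type v) [MulAction G Ω] (D : Set G) : Prop :=
  ∀ t : G, orderOf t = 2 → Bad Ω t → ∀ d ∈ D, ∀ e ∈ D, Commute d t → Commute e t →
    IsPGroup 2 (closure ({d, e} : Set G)) → Commute d e

theorem eq_of_not_bad {w : G} (hw : ¬ Bad Ω w) {p x : Ω} (hp : w • p = p) (hx : w • x = x) :
    x = p := by
  by_contra hne
  exact hw ⟨x, p, hne, hx, hp⟩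

theorem commute_conj {d e : G} (hc : Commute d e) (g : G) :
    Commute (g * d * g⁻¹) (g * e * g⁻¹) := by
  show g * d * g⁻¹ * (g * e * g⁻¹) = g * e * g⁻¹ * (g * d * g⁻¹)
  rw [show g * d * g⁻¹ * (g * e * g⁻¹) = g * (d * e) * g⁻¹ by group, hc.eq]
  group

theorem commute_of_conj_eq {g x : G} (h : g * x * g⁻¹ = x) : Commute g x :=
  mul_inv_eq_iff_eq_mul.mp h

theorem conj_eq_of_commute {g x : G} (h : Commute g x) : g * x * g⁻¹ = x :=
  mul_inv_eq_iff_eq_mul.mpr h.eq

theorem mem_conj_smul {g x : G} (S : Sylow 2 G) :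
    x ∈ ((g • S : Sylow 2 G) : Subgroup G) ↔ g⁻¹ * x * g ∈ (S : Subgroup G) := by
  rw [Sylow.coe_subgroup_smul, Subgroup.mem_pointwise_smul_iff_inv_smul_mem]
  simp [MulAut.smul_def]

theorem mem_closure_pair_of_commute {a b : G} (ha : a * a = 1) (hb : b * b = 1) (hc : Commute a b)
    {x : G} (hx : x ∈ closure ({a, b} : Set G)) : x = 1 ∨ x = a ∨ x = b ∨ x = a * b := by
  have ha3 : ∀ r, a * (a * r) = r := fun r => by rw [← mul_assoc, ha, one_mul]
  have hba : b * a = a * b := hc.eq.symm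
  have hba' : ∀ r, b * (a * r) = a * (b * r) := fun r => by rw [← mul_assoc, hba, mul_assoc]
  induction hx using Subgroup.closure_induction with
  | mem y hy => rcases hy with rfl | rfl <;> simp
  | one => simp
  | mul y z _ _ h h' =>
    rcases h with rfl | rfl | rfl | rfl <;> rcases h' with rfl | rfl | rfl | rfl <;>
      simp [ha, hb, ha3, hba, hba', mul_assoc]
  | inv y _ h =>
    have hai := inv_eq_of_mul_eq_one_right ha
    have hbi := inv_eq_of_mul_eq_one_right hb
    rcases h with rfl | rfl | rfl | rfl <;> simp [hai, hbi, hba]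

theorem isPGroup_closure_pair {a b : G} (ha : a * a = 1) (hb : b * b = 1) (hc : Commute a b) :
    IsPGroup 2 (closure ({a, b} : Set G)) := fun x => by
  refine ⟨1, Subtype.ext ?_⟩
  rw [pow_one, SubmonoidClass.coe_pow, sq, OneMemClass.coe_one]
  rcases mem_closure_pair_of_commute ha hb hc x.2 with h | h | h | h <;> rw [h]
  · rw [one_mul]
  · exact ha
  · exact hb
  · calc a * b * (a * b) = a * (b * a) * b := by group
      _ = (a * a) * (b * b) := by rw [hc.eq.symm]; group
      _ = 1 := by rw [ha, hb, mul_one]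

/-- A maximal 2-subgroup of `K` contains a conjugate, by `K`, of every 2-subgroup of `K`. -/
theorem exists_conj_le_of_maximal [Finite G] {C K R : Subgroup G} (hC : IsPGroup 2 C) (hCK : C ≤ K)
    (hmax : ∀ P : Subgroup G, IsPGroup 2 P → P ≤ K → C ≤ P → P ≤ C) (hR : IsPGroup 2 R)
    (hRK : R ≤ K) : ∃ x ∈ K, ∀ r ∈ R, x * r * x⁻¹ ∈ C := by
  haveI : Fact (Nat.Prime 2) := ⟨Nat.prime_two⟩
  obtain ⟨Q, hQ⟩ := (hC.comap_subtype (K := K)).exists_le_sylow
  obtain ⟨x, hx⟩ := exists_conj_le_sylow (hR.comap_subtype (K := K)) Q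
  have hle : (Q : Subgroup K).map K.subtype ≤ C :=
    hmax _ (Q.isPGroup'.map _) (map_subtype_le _) fun c hc => ⟨⟨c, hCK hc⟩, hQ hc, rfl⟩
  exact ⟨x, x.2, fun r hr => hle ⟨_, hx ⟨r, hRK hr⟩ hr, rfl⟩⟩

namespace Crit

variable (h : Crit G Ω D)
include h

theorem not_bad {d : G} (hd : d ∈ D) : ¬ Bad Ω d :=
  fun ⟨_, _, hne, hx, hy⟩ => hne (h.eq_of_fixed hd hx hy)

theorem not_bad_of_mem_lineGroup {j : G} (hj : orderOf j = 2) (hm : j ∈ lineGroup D j) :
    ¬ Bad Ω j :=
  fun ⟨_, _, hne, hx, hy⟩ => hne (h.eq_of_mem_lineGroup hj hm hx hy)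

theorem not_bad_mul {d e : G} (hd : d ∈ D) (he : e ∈ D) (hne : d ≠ e) (hc : Commute d e) :
    ¬ Bad Ω (e * d) := by
  rintro ⟨x, y, hxy, hx, hy⟩
  obtain ⟨p, hp, -⟩ := h.unique hd
  exact hxy (((h.eq_of_commute_mul hd he hne hc hp).mp hx).trans
    ((h.eq_of_commute_mul hd he hne hc hp).mp hy).symm)

theorem exists_member {u : G} (hu : RankOne Ω D u) : ∃ z ∈ D, Commute z u := by
  obtain ⟨x, -, -, hx, -⟩ := hu.2.1
  obtain ⟨z, hz, -, hzu⟩ := h.comm hu.1 hx
  exact ⟨z, hz, hzu.symm⟩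

theorem rankOne_conj {u : G} (hu : RankOne Ω D u) (g : G) : RankOne Ω D (g * u * g⁻¹) := by
  obtain ⟨x, y, hxy, hx, hy⟩ := hu.2.1
  refine ⟨by rw [orderOf_conj, hu.1], ⟨g • x, g • y, fun e => hxy (MulAction.injective g e),
    H73.Bender.conj_smul_of_smul hx, H73.Bender.conj_smul_of_smul hy⟩,
    fun d hd e he hdu heu hde => ?_⟩
  have hb : g⁻¹ * (g * u * g⁻¹) * g⁻¹⁻¹ = u := by group
  have h1 := hu.2.2 _ (h.conj_mem hd g⁻¹) _ (h.conj_mem he g⁻¹) (hb ▸ commute_conj hdu g⁻¹)
    (hb ▸ commute_conj heu g⁻¹) (commute_conj hde g⁻¹)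
  exact mul_left_cancel (mul_right_cancel h1)

omit h in
/-- A member and a bad involution differ. -/
theorem ne_member (h : Crit G Ω D) {u z : G} (hu : Bad Ω u) (hz : z ∈ D) : u ≠ z :=
  fun e => h.not_bad hz (e ▸ hu)

theorem closure_conj_mem {x : G} (hx : x ∈ closure D) (g : G) : g * x * g⁻¹ ∈ closure D := by
  induction hx using Subgroup.closure_induction with
  | mem y hy => exact subset_closure (h.conj_mem hy g)
  | one => simp
  | mul a b _ _ ha hb =>
    rw [show g * (a * b) * g⁻¹ = (g * a * g⁻¹) * (g * b * g⁻¹) by group]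
    exact mul_mem ha hb
  | inv a _ ha =>
    rw [show g * a⁻¹ * g⁻¹ = (g * a * g⁻¹)⁻¹ by group]
    exact inv_mem ha

variable [Finite G]

omit [Finite G] in
/-- Members centralising a rank one involution and generating a 2-group are equal. -/
theorem eq_of_two_group {u d e : G} (hu : RankOne Ω D u) (hd : d ∈ D) (he : e ∈ D)
    (hdu : Commute d u) (heu : Commute e u) {n : ℕ} (hn : orderOf (e * d) = 2 ^ n) : d = e := by
  have hd2 := h.inv hd
  rcases n with _ | _ | n
  · rw [pow_zero, orderOf_eq_one_iff] at hn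
    rw [eq_inv_of_mul_eq_one_left hn, inv_eq_of_orderOf_eq_two hd2]
  · refine hu.2.2 d hd e he hdu heu ?_
    have h1 := mul_self_of_orderOf_eq_two hn
    show d * e = e * d
    rw [← inv_eq_of_mul_eq_one_right h1, mul_inv_rev, inv_eq_of_orderOf_eq_two hd2,
      inv_eq_of_orderOf_eq_two (h.inv he)]
  · exfalso
    set k := e * d with hk
    have hku : Commute k u := heu.mul_left hdu
    have hinv := conj_mul_involutions hd2 (h.inv he)
    have hr : k ^ ((2 ^ n : ℕ) : ℤ) * d * (k ^ ((2 ^ n : ℕ) : ℤ))⁻¹ = k ^ (2 ^ (n + 1)) * d := by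
      have := zpow_conj_mul hinv ((2 ^ n : ℕ) : ℤ) 0
      rw [zpow_zero, one_mul, zero_add, ← hk] at this
      rw [this, ← zpow_natCast k (2 ^ (n + 1))]
      push_cast
      ring_nf
    set w := k ^ (2 ^ (n + 1)) with hw
    have hw2 : orderOf w = 2 := by
      rw [hw, orderOf_pow_of_dvd (by positivity) (hn ▸ pow_dvd_pow 2 (by omega)), hn,
        Nat.pow_div (by omega) two_pos, show n + 2 - (n + 1) = 1 by omega, pow_one]
    have hwd : Commute w d := by
      refine (commute_of_conj_eq ?_).symm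
      rw [hw, ← conj_pow, hinv, inv_pow, ← hw, inv_eq_of_orderOf_eq_two hw2]
    refine ne_one_of_orderOf_eq_two hw2 (mul_eq_right.mp
      (hu.2.2 _ (hr ▸ h.conj_mem hd _) d hd ((hku.pow_left _).mul_left hdu) hdu
        (hwd.mul_left (Commute.refl d))))

/-- (R): a four group containing a member and centralising a rank one involution has a bad
involution besides. -/
theorem bad_or_bad_mul {u z j : G} (hu : RankOne Ω D u) (hz : z ∈ D) (hzu : Commute z u)
    (hj : orderOf j = 2) (hju : Commute j u) (hjz : Commute j z) (hne : j ≠ z) :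
    Bad Ω j ∨ Bad Ω (j * z) := by
  by_contra hcon
  push Not at hcon
  haveI : Fact (Nat.Prime 2) := ⟨Nat.prime_two⟩
  obtain ⟨p, hp, -⟩ := h.unique hz
  have hz2 := h.inv hz
  set C : Subgroup G := centralizer {u}
  have hmemC : ∀ {g : G}, Commute g u → g ∈ C := fun hg => mem_centralizer_singleton_iff.mpr hg.eq
  haveI : (Cfsg.oddCore C).Characteristic := Cores.pPrimeCore_characteristic
  let zC : C := ⟨z, hmemC hzu⟩
  have hzC : orderOf zC = 2 := by rw [← Subgroup.orderOf_coe]; exact hz2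
  obtain ⟨P, hP⟩ := (IsPGroup.of_card (n := 1) (by rw [Nat.card_zpowers, hzC]; rfl) :
    IsPGroup 2 (zpowers zC)).exists_le_sylow
  have hiso : ∀ g : C, g * zC * g⁻¹ ∈ P → g * zC * g⁻¹ = zC := by
    intro g hg
    obtain ⟨n, hn⟩ := IsPGroup.iff_orderOf.mp P.isPGroup'
      ⟨_, mul_mem hg (hP (mem_zpowers zC))⟩
    rw [Subgroup.orderOf_mk, ← Subgroup.orderOf_coe] at hn
    exact Subtype.ext (h.eq_of_two_group hu hz (h.conj_mem hz (g : G)) hzu
      (show Commute ((g * zC * g⁻¹ : C) : G) u from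
        mem_centralizer_singleton_iff.mp (g * zC * g⁻¹).2) hn).symm
  have hZ := Cores.glaubermanZStar P hzC (hP (mem_zpowers zC)) hiso
  set O : Subgroup G := (Cfsg.oddCore C).map C.subtype with hO
  have hOodd : Odd (Nat.card O) := by
    rw [hO, Subgroup.card_map_of_injective (Subgroup.subtype_injective _)]
    exact Cores.odd_card_oddCore
  have hOn : C ≤ normalizer (O : Set G) := fun c hc => mem_normalizer_of_conj_mem fun _ hx => by
    obtain ⟨m, hm, rfl⟩ := hx
    exact ⟨⟨c, hc⟩ * m * ⟨c, hc⟩⁻¹, Subgroup.Normal.conj_mem inferInstance m hm _, rfl⟩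
  -- the odd core is transitive on the fixed points
  have htr : ∀ q : Ω, u • q = q → ∃ k ∈ O, k • p = q := by
    intro q hq
    obtain ⟨e, he, heq, heu⟩ := h.comm hu.1 hq
    rcases eq_or_ne p q with rfl | hpq
    · exact ⟨1, one_mem O, one_smul _ _⟩
    obtain ⟨k, hk, hkk, hkinv, hkc⟩ :=
      exists_conj_of_odd hz2 (h.inv he) (h.odd_orderOf_mul hz he hp heq hpq)
    have hkC : k ∈ C := zpowers_le.mpr (mul_mem (hmemC heu.symm) (hmemC hzu)) hk
    have h1 : z * k * z⁻¹ * k⁻¹ ∈ O :=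
      ⟨_, hZ ⟨k, hkC⟩, rfl⟩
    rw [hkinv, ← mul_inv_rev, hkk, inv_mem_iff] at h1
    refine ⟨k, zpowers_le.mpr h1 hk, h.eq_of_fixed he ?_ heq⟩
    rw [← hkc]
    exact H73.Bender.conj_smul_of_smul hp
  -- coprime generation
  have hj2 := mul_self_of_orderOf_eq_two hj
  have hzz := mul_self_of_orderOf_eq_two hz2
  set A : Subgroup G := closure ({j, z} : Set G) with hA
  haveI : IsMulCommutative A := Subgroup.isMulCommutative_closure (by
    rintro x (rfl | rfl) y (rfl | rfl) <;> first | rfl | exact hjz.eq | exact hjz.eq.symm)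
  have hjA : j ∈ A := subset_closure (Set.mem_insert _ _)
  have hzA : z ∈ A := subset_closure (Set.mem_insert_of_mem _ rfl)
  have hncyc : ¬ IsCyclic A := fun hc => hne (PGroups.eq_of_sq_eq_one hc hjA hzA
    (by rw [sq, hj2]) (by rw [sq, hzz]) (ne_one_of_orderOf_eq_two hj)
    (ne_one_of_orderOf_eq_two hz2))
  obtain ⟨n, hn⟩ := IsPGroup.iff_card.mp (isPGroup_closure_pair hj2 hzz hjz)
  have hjp : j • p = p := h.fix_of_commute hz hjz hp
  have hle : O ≤ stabilizer G p := by
    refine Cfsg.Agent.Coprime.le_of_centralizer_noncyclic_le hncyc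
      (le_trans ((closure_le C).mpr ?_) hOn) (hn ▸ hOodd.coprime_two_left.pow_left n) ?_
    · rintro x (rfl | rfl)
      exacts [hmemC hju, hmemC hzu]
    rintro x hx hx1 k ⟨-, hkx⟩
    have hkx' : Commute k x := mem_centralizer_singleton_iff.mp hkx
    have hfix : ∀ {w : G}, ¬ Bad Ω w → w • p = p → Commute k w → k • p = p := fun hw hwp hkw =>
      eq_of_not_bad hw hwp (smul_fixed_of_commute hkw hwp)
    rw [mem_stabilizer_iff]
    rcases mem_closure_pair_of_commute hj2 hzz hjz hx with rfl | rfl | rfl | rfl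
    · exact absurd rfl hx1
    · exact hfix hcon.1 hjp hkx'
    · exact hfix (h.not_bad hz) hp hkx'
    · exact hfix hcon.2 (by rw [mul_smul, hp, hjp]) hkx'
  obtain ⟨x, y, hxy, hx, hy⟩ := hu.2.1
  obtain ⟨k, hk, rfl⟩ := htr x hx
  obtain ⟨l, hl, rfl⟩ := htr y hy
  exact hxy (by rw [mem_stabilizer_iff.mp (hle hk), mem_stabilizer_iff.mp (hle hl)])

variable [Finite Ω]

omit [Finite G] in
theorem odd_card : Odd (Nat.card Ω) := by
  haveI : Fact (Nat.Prime 2) := ⟨Nat.prime_two⟩
  obtain ⟨d, hd⟩ := h.nonempty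
  obtain ⟨p, hp, hpu⟩ := h.unique hd
  have hP : IsPGroup 2 (zpowers d) :=
    IsPGroup.of_card (n := 1) (by rw [Nat.card_zpowers, h.inv hd]; rfl)
  have hfix : fixedPoints (zpowers d) Ω = {p} := by
    ext x
    refine ⟨fun hx => hpu x (hx ⟨d, mem_zpowers d⟩), fun hx g => ?_⟩
    rw [Set.mem_singleton_iff.mp hx]
    exact mem_stabilizer_iff.mp
      ((zpowers_le (H := stabilizer G p)).mpr (mem_stabilizer_iff.mpr hp) g.2)
  have h1 := hP.card_modEq_card_fixedPoints Ω
  rw [hfix, Nat.card_coe_set_eq, Set.ncard_singleton] at h1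
  exact Nat.odd_iff.mpr h1

/-- A 2-group centralising a member lies in a Sylow 2-subgroup in which the member is central. -/
theorem exists_sylow_center {d : G} (hd : d ∈ D) {P : Subgroup G} (hP : IsPGroup 2 P)
    (hPd : ∀ g ∈ P, Commute g d) :
    ∃ S : Sylow 2 G, P ≤ S ∧ d ∈ (S : Subgroup G) ∧ ∀ s ∈ (S : Subgroup G), Commute s d := by
  haveI : Fact (Nat.Prime 2) := ⟨Nat.prime_two⟩
  let S₀ : Sylow 2 G := default
  obtain ⟨p, hp⟩ := S₀.isPGroup'.nonempty_fixed_point_of_prime_not_dvd_card Ω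
    h.odd_card.not_two_dvd_nat
  letI : MulAction (S₀ : Subgroup G) (swappers D p p) :=
    { smul := fun g w => ⟨(g : G) * w * (g : G)⁻¹, h.conj_mem w.2.1 _, by
        have hg : (g : G) • p = p := hp g
        rw [mul_smul, mul_smul, inv_smul_eq_iff.mpr hg.symm, w.2.2, hg]⟩
      one_smul := fun w => Subtype.ext
        (show ((1 : (S₀ : Subgroup G)) : G) * w * ((1 : (S₀ : Subgroup G)) : G)⁻¹ = w by simp)
      mul_smul := fun a b w => Subtype.ext
        (show ((a * b : (S₀ : Subgroup G)) : G) * w * ((a * b : (S₀ : Subgroup G)) : G)⁻¹ =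
          (a : G) * ((b : G) * w * (b : G)⁻¹) * (a : G)⁻¹ by simp [mul_assoc]) }
  obtain ⟨d₀, hd₀⟩ := S₀.isPGroup'.nonempty_fixed_point_of_prime_not_dvd_card (swappers D p p)
    (h.odd_card_at p).not_two_dvd_nat
  have hd₀S : ∀ s ∈ (S₀ : Subgroup G), Commute s (d₀ : G) := fun s hs =>
    commute_of_conj_eq (congrArg Subtype.val (hd₀ ⟨s, hs⟩))
  obtain ⟨g, hg⟩ := h.isConj d₀.2.1 hd
  have hS₁ : ((g • S₀ : Sylow 2 G) : Subgroup G) ≤ centralizer {d} := fun s hs => by
    have h1 := commute_conj (hd₀S _ ((mem_conj_smul S₀).mp hs)) g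
    rw [hg, show g * (g⁻¹ * s * g) * g⁻¹ = s by group] at h1
    exact mem_centralizer_singleton_iff.mpr h1.eq
  have hZ : zpowers d ≤ centralizer {d} :=
    zpowers_le.mpr (mem_centralizer_singleton_iff.mpr rfl)
  have hPn : P ≤ normalizer (zpowers d : Set G) := fun x hx =>
    mem_normalizer_of_conj_mem fun y hy => by
      rwa [conj_eq_of_commute (commute_of_mem_zpowers (hPd x hx) hy)]
  obtain ⟨x, hxd, hx⟩ := exists_conj_mem_le_sylow
    (hP.to_sup_of_normal_right' (IsPGroup.of_card (n := 1)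
      (by rw [Nat.card_zpowers, h.inv hd]; rfl) : IsPGroup 2 (zpowers d)) hPn)
    (sup_le (fun a ha => mem_centralizer_singleton_iff.mpr (hPd a ha).eq) hZ) (g • S₀) hS₁
  have hmem : ∀ a, a ∈ ((x⁻¹ • (g • S₀) : Sylow 2 G) : Subgroup G) ↔
      x * a * x⁻¹ ∈ ((g • S₀ : Sylow 2 G) : Subgroup G) := fun a => by
    rw [mem_conj_smul, inv_inv]
  refine ⟨x⁻¹ • (g • S₀), fun a ha => (hmem a).mpr (hx a (mem_sup_left ha)),
    (hmem d).mpr (hx d (mem_sup_right (mem_zpowers d))), fun s hs => ?_⟩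
  have hxd' : Commute x d := mem_centralizer_singleton_iff.mp hxd
  have h1 := commute_conj (mem_centralizer_singleton_iff.mp (hS₁ ((hmem s).mp hs)) : Commute _ d) x⁻¹
  rwa [show x⁻¹ * (x * s * x⁻¹) * x⁻¹⁻¹ = s by group, conj_eq_of_commute hxd'.inv_left] at h1

omit [Finite Ω] in
/-- A member alone in a Sylow 2-subgroup centralising it removes all rank one involutions. -/
theorem not_mem_closure_of_isolated {u z : G} (hu : RankOne Ω D u) (S : Sylow 2 G)
    (hzS : z ∈ (S : Subgroup G)) (hz : z ∈ D)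
    (hiso : ∀ d ∈ D, d ∈ (S : Subgroup G) → d = z) : u ∉ closure D := by
  intro hmem
  haveI : (Cfsg.oddCore G).Characteristic := Cores.pPrimeCore_characteristic
  have hz2 := h.inv hz
  have hZ := Cores.glaubermanZStar S hz2 hzS fun g hg => hiso _ (h.conj_mem hz g) hg
  have hle : closure D ≤ Cfsg.oddCore G ⊔ zpowers z := by
    rw [closure_le]
    intro d hd
    obtain ⟨g, rfl⟩ := h.isConj hz hd
    have h1 := hZ g
    rw [inv_eq_of_orderOf_eq_two hz2] at h1
    have h2 : g * z * g⁻¹ = z * (z * g * z * g⁻¹) := by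
      simp only [← mul_assoc, mul_self_of_orderOf_eq_two hz2, one_mul]
    rw [h2]
    exact mul_mem (mem_sup_right (mem_zpowers z)) (mem_sup_left h1)
  obtain ⟨zu, hzu, hzuc⟩ := h.exists_member hu
  obtain ⟨g, hg⟩ := h.isConj hzu hz
  have hv := h.rankOne_conj hu g
  have hvz : Commute (g * u * g⁻¹) z := hg ▸ (commute_conj hzuc g).symm
  obtain ⟨k, hk, a, ha, hka⟩ := mem_sup_of_normal_left.mp (hle (h.closure_conj_mem hmem g))
  set v := g * u * g⁻¹
  have hav : Commute v a := commute_of_mem_zpowers hvz ha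
  have hk2 : k * k = 1 := by
    have ha2 : a * a = 1 := by
      obtain ⟨i, rfl⟩ := ha
      show z ^ i * z ^ i = 1
      rw [← zpow_add, zpow_even_of_orderOf_two hz2 ⟨i, rfl⟩]
    rw [eq_mul_inv_of_mul_eq hka, inv_eq_of_mul_eq_one_right ha2,
      show v * a * (v * a) = v * (a * v) * a by group, ← hav.eq,
      show v * (v * a) * a = v * v * (a * a) by group, ha2,
      mul_self_of_orderOf_eq_two hv.1, mul_one]
  have hk1 : k = 1 := by
    have hdvd : orderOf k ∣ 2 := orderOf_dvd_of_pow_eq_one (by rw [sq, hk2])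
    have hodd : Odd (orderOf k) :=
      Cores.odd_card_oddCore.of_dvd_nat (Subgroup.orderOf_dvd_natCard _ hk)
    rcases (Nat.dvd_prime Nat.prime_two).mp hdvd with h1 | h1
    · exact orderOf_eq_one_iff.mp h1
    · rw [h1] at hodd; exact absurd hodd (by decide)
  rw [hk1, one_mul] at hka
  rcases eq_one_or_eq_of_sq hz2 (mem_zpowers z) (hka ▸ ha)
    (mul_self_of_orderOf_eq_two hv.1) with h1 | h1
  · exact ne_one_of_orderOf_eq_two hv.1 h1
  · exact h.ne_member hv.2.1 hz h1

omit [Finite Ω] in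
/-- Thompson transfer at a subgroup of index 2 free of rank one involutions. -/
theorem not_mem_closure_of_transfer {u z b : G} (hu : RankOne Ω D u) (hz : z ∈ D) (S : Sylow 2 G)
    (huS : u ∈ (S : Subgroup G)) (Q : Subgroup G) (hQS : Q ≤ S)
    (hQi : Q.relIndex (S : Subgroup G) = 2) (hQ : ∀ v, RankOne Ω D v → v ∉ Q)
    (hb : b * u * b⁻¹ = u * z) : u ∉ closure D := by
  rcases H25.thompson_transfer S Q hQS hQi u hu.1 huS (hQ u hu) with ⟨M, hM, hMi, huM⟩ | ⟨g, hg⟩
  · have huz : u * z ∉ M := fun e => huM (by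
      have := hM.conj_mem _ e b⁻¹
      rwa [← hb, show b⁻¹ * (b * u * b⁻¹) * b⁻¹⁻¹ = u by group] at this)
    have hzM : z ∈ M := by
      rw [Subgroup.mul_mem_iff_of_index_two hMi] at huz
      tauto
    refine fun hmem => huM ((closure_le M).mpr (fun d hd => ?_) hmem)
    obtain ⟨g, rfl⟩ := h.isConj hz hd
    exact hM.conj_mem z hzM g
  · exact absurd hg (hQ _ (h.rankOne_conj hu g))

end Crit

end Cfsg.Agent.H14.Asch
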