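import Cfsg.Agent.H73.Bender.Lines
import Cfsg.Agent.Cores.Basic
import Cfsg.Agent.Cores.GlaubermanZStar
import Mathlib.GroupTheory.PGroup

/-!
The hypothesis of the strong embedding criterion and its first consequences: members at different
points have odd product, products of commuting members are good, every pair of points is swapped
by as many members as fix a point, and a swapper is isolated in the stabiliser of its pair.
-/

set_option autoImplicit false
set_option linter.style.haveILetI false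

namespace Cfsg.Agent.H14.Asch

open Subgroup MulAction
open Cfsg.Agent.H39
open Cfsg.Agent.H73.Bender (SE)

universe u v

variable {G : Type u} [Group G] {Ω : Type v} [MulAction G Ω]

/-- The subgroup generated by the members of `D` commuting with `u`. -/
def lineGroup (D : Set G) (u : G) : Subgroup G :=
  closure (D ∩ (centralizer ({u} : Set G) : Set G))

/-- `D` is a class of involutions, each fixing exactly one point, every involution fixing a point
commutes with a member at it, and the members commuting with an involution with two fixed points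
generate a strongly embedded action on its fixed points. -/
structure Crit (G : Type u) [Group G] (Ω : Type v) [MulAction G Ω] (D : Set G) : Prop where
  conj_mem : ∀ {d : G}, d ∈ D → ∀ g : G, g * d * g⁻¹ ∈ D
  isConj : ∀ {d e : G}, d ∈ D → e ∈ D → ∃ g : G, g * d * g⁻¹ = e
  nonempty : D.Nonempty
  inv : ∀ {d : G}, d ∈ D → orderOf d = 2
  unique : ∀ {d : G}, d ∈ D → ∃! p : Ω, d • p = p
  comm : ∀ {t : G} {p : Ω}, orderOf t = 2 → t • p = p → ∃ d ∈ D, d • p = p ∧ Commute t d
  trans : IsPretransitive G Ω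
  faithful : FaithfulSMul G Ω
  exists_ne : ∃ p q : Ω, p ≠ q
  line : ∀ {u : G} {x y : Ω}, orderOf u = 2 → x ≠ y → u • x = x → u • y = y →
    SE (lineGroup D u) (fixedBy Ω u)

/-- The members mapping `x` to `y`. -/
def swappers (D : Set G) (x y : Ω) : Set G := {d | d ∈ D ∧ d • x = y}

theorem mem_lineGroup {D : Set G} {d u : G} (hd : d ∈ D) (h : Commute d u) :
    d ∈ lineGroup D u :=
  subset_closure ⟨hd, mem_centralizer_singleton_iff.mpr h.eq⟩

theorem smul_fixed_of_commute {g t : G} (hc : Commute g t) {p : Ω} (hp : t • p = p) :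
    t • g • p = g • p := by
  rw [← mul_smul, ← hc.eq, mul_smul, hp]

variable {D : Set G}

namespace Crit

variable (h : Crit G Ω D)
include h

theorem eq_of_fixed {d : G} (hd : d ∈ D) {p q : Ω} (hp : d • p = p) (hq : d • q = q) : p = q :=
  (h.unique hd).unique hp hq

/-- An element commuting with a member fixes its point. -/
theorem fix_of_commute {d g : G} (hd : d ∈ D) (hc : Commute g d) {p : Ω} (hp : d • p = p) :
    g • p = p :=
  h.eq_of_fixed hd (smul_fixed_of_commute hc hp) hp

theorem exists_at (x : Ω) : ∃ d ∈ D, d • x = x := by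
  obtain ⟨d, hd⟩ := h.nonempty
  obtain ⟨p, hp, -⟩ := h.unique hd
  haveI := h.trans
  obtain ⟨g, rfl⟩ := exists_smul_eq G p x
  exact ⟨g * d * g⁻¹, h.conj_mem hd g, H73.Bender.conj_smul_of_smul hp⟩

/-- An involution generated by members commuting with it fixes at most one point. -/
theorem eq_of_mem_lineGroup {j : G} (hj : orderOf j = 2) (hmem : j ∈ lineGroup D j) {p q : Ω}
    (hp : j • p = p) (hq : j • q = q) : p = q := by
  by_contra hne
  exact hne ((h.line hj hne hp hq).fix_unique hmem hj hp hq hp hq)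

/-- A central involution of the dihedral group of two members fixes only their common point. -/
theorem eq_point_of_mem_zpowers {d e w : G} (hd : d ∈ D) (he : e ∈ D) (hw : orderOf w = 2)
    (hwz : w ∈ zpowers (e * d)) (hwd : Commute w d) (hwe : Commute w e) {p x : Ω}
    (hp : d • p = p) (hx : w • x = x) : x = p :=
  h.eq_of_mem_lineGroup hw
    (zpowers_le.mpr (mul_mem (mem_lineGroup he hwe.symm) (mem_lineGroup hd hwd.symm)) hwz)
    hx (h.fix_of_commute hd hwd hp)

/-- G0: members at different points have odd product. -/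
theorem odd_orderOf_mul [Finite G] {d e : G} (hd : d ∈ D) (he : e ∈ D) {p q : Ω}
    (hp : d • p = p) (hq : e • q = q) (hpq : p ≠ q) : Odd (orderOf (e * d)) := by
  rw [← Nat.not_even_iff_odd]
  intro heven
  obtain ⟨w, hw2, hwz, hwd, hwe⟩ := exists_central_involution (h.inv hd) (h.inv he) heven
  exact hpq (h.eq_point_of_mem_zpowers hd he hw2 hwz hwd hwe hp
    (h.fix_of_commute he hwe hq)).symm

/-- G1: the product of two commuting members fixes only their common point. -/
theorem eq_of_commute_mul {d e : G} (hd : d ∈ D) (he : e ∈ D) (hne : d ≠ e) (hc : Commute d e)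
    {p x : Ω} (hp : d • p = p) : (e * d) • x = x ↔ x = p := by
  have hj : orderOf (e * d) = 2 := by
    refine orderOf_eq_two_of_mul_self ?_ fun h1 => hne ?_
    · rw [mul_assoc, ← mul_assoc d e d, hc.eq, mul_assoc e d d,
        mul_self_of_orderOf_eq_two (h.inv hd), mul_one, mul_self_of_orderOf_eq_two (h.inv he)]
    · rw [eq_inv_of_mul_eq_one_right h1, inv_eq_of_orderOf_eq_two (h.inv he)]
  have hjd : Commute (e * d) d := hc.symm.mul_left (Commute.refl d)
  have hje : Commute (e * d) e := (Commute.refl e).mul_left hc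
  constructor
  · exact fun hx => h.eq_point_of_mem_zpowers hd he hj (mem_zpowers _) hjd hje hp hx
  · rintro rfl
    exact h.fix_of_commute hd hjd hp

theorem smul_swap {d : G} (hd : d ∈ D) {x y : Ω} (hx : d • x = y) : d • y = x :=
  H73.Bender.swap_symm (h.inv hd) hx

omit h in
theorem smul_ne {d : G} {x y p : Ω} (hxy : x ≠ y) (hx : d • x = y) (hp : d • p = p) :
    p ≠ x := by
  rintro rfl
  exact hxy (hp.symm.trans hx)

/-- For two members at different points some member conjugates one to the other. -/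
theorem exists_swapper [Finite G] {d e : G} (hd : d ∈ D) (he : e ∈ D) {p q : Ω}
    (hp : d • p = p) (hq : e • q = q) (hpq : p ≠ q) :
    ∃ w ∈ swappers D p q, w * d * w⁻¹ = e := by
  have hd2 := h.inv hd
  have he2 := h.inv he
  obtain ⟨k, hk, -, hkinv, hkc⟩ := exists_conj_of_odd hd2 he2 (h.odd_orderOf_mul hd he hp hq hpq)
  have hkx : k • p = q := h.eq_of_fixed he
    (by rw [← hkc]; exact H73.Bender.conj_smul_of_smul hp) hq
  obtain ⟨n, hn⟩ : ∃ n : ℤ, k = (e * d) ^ (2 * n) := by
    obtain ⟨i, rfl⟩ := hk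
    obtain ⟨j, hj⟩ := h.odd_orderOf_mul hd he hp hq hpq
    refine ⟨i * (j + 1), ?_⟩
    have : (e * d) ^ (i * ((2 * j + 1 : ℕ) : ℤ)) = 1 := by
      rw [mul_comm, zpow_mul, zpow_natCast, ← hj, pow_orderOf_eq_one, one_zpow]
    change (e * d) ^ i = _
    rw [show (2 : ℤ) * (i * (j + 1)) = i + i * ((2 * j + 1 : ℕ) : ℤ) by push_cast; ring, zpow_add,
      this, mul_one]
  refine ⟨k * d, ⟨?_, by rw [mul_smul, hp, hkx]⟩, ?_⟩
  · have := zpow_conj_mul (conj_mul_involutions hd2 he2) n 0
    rw [zpow_zero, one_mul, zero_add, ← hn] at this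
    exact this ▸ h.conj_mem hd _
  · rw [mul_inv_rev, inv_eq_of_orderOf_eq_two hd2]
    calc k * d * d * (d * k⁻¹) = k * (d * d) * d * k⁻¹ := by simp [mul_assoc]
      _ = e := by rw [mul_self_of_orderOf_eq_two hd2, mul_one, hkc]

theorem card_at_eq (x y : Ω) :
    Nat.card (swappers D x x) = Nat.card (swappers D y y) := by
  haveI := h.trans
  obtain ⟨g, rfl⟩ := exists_smul_eq G x y
  refine Nat.card_congr ((MulAut.conj g).toEquiv.subtypeEquiv fun t => ?_)
  simp only [MulEquiv.toEquiv_eq_coe, MulEquiv.coe_toEquiv, MulAut.conj_apply, swappers,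
    Set.mem_ofPred_eq]
  rw [mul_smul, mul_smul, inv_smul_smul]
  exact and_congr ⟨fun hd => h.conj_mem hd g, fun hd => by
    simpa [mul_assoc] using h.conj_mem hd g⁻¹⟩ ⟨fun e => by rw [e], fun e => MulAction.injective g e⟩

/-- G2: as many members map `x` to `y` as fix a point. -/
theorem card_swappers [Finite G] [Finite Ω] (x y : Ω) :
    Nat.card (swappers D x y) = Nat.card (swappers D x x) := by
  classical
  have := Fintype.ofFinite Ω
  set m := Nat.card (swappers D x x) with hm
  have hle : ∀ z : Ω, m ≤ Nat.card (swappers D x z) := by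
    intro z
    by_cases hxz : x = z
    · rw [← hxz]
    obtain ⟨t₀, ht₀, ht₀'⟩ := h.exists_at z
    have : Nonempty (swappers D z z) := ⟨⟨t₀, ht₀, ht₀'⟩⟩
    choose w hw hwc using fun (p : swappers D x x × swappers D z z) =>
      h.exists_swapper p.1.2.1 p.2.2.1 p.1.2.2 p.2.2.2 hxz
    let f : swappers D x x × swappers D z z → swappers D x z × swappers D z z :=
      fun p => (⟨w p, hw p⟩, p.2)
    have hf : Function.Injective f := by
      intro p q hpq
      simp only [f, Prod.mk.injEq, Subtype.mk.injEq] at hpq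
      refine Prod.ext (Subtype.ext ?_) hpq.2
      have h1 := hwc p
      rw [hpq.1, hpq.2, ← hwc q] at h1
      exact mul_left_cancel (mul_right_cancel h1)
    have hcard := Nat.card_le_card_of_injective f hf
    rw [Nat.card_prod, Nat.card_prod] at hcard
    exact Nat.le_of_mul_le_mul_right hcard Nat.card_pos
  choose p hp using fun (d : D) => (h.unique d.2).exists
  let e₁ : D ≃ Σ z : Ω, swappers D x z :=
    { toFun := fun u => ⟨(u : G) • x, u.1, u.2, rfl⟩
      invFun := fun q => ⟨q.2.1, q.2.2.1⟩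
      left_inv := fun u => rfl
      right_inv := fun q => by
        obtain ⟨z, i, hi, hiz⟩ := q
        change i • x = z at hiz
        subst hiz
        rfl }
  let e₂ : D ≃ Σ z : Ω, swappers D z z :=
    { toFun := fun u => ⟨p u, u.1, u.2, hp u⟩
      invFun := fun q => ⟨q.2.1, q.2.2.1⟩
      left_inv := fun u => rfl
      right_inv := fun ⟨z, i, hi, hiz⟩ => by
        obtain rfl : p ⟨i, hi⟩ = z := h.eq_of_fixed hi (hp ⟨i, hi⟩) hiz
        rfl }
  have hsum := Nat.card_congr (e₁.symm.trans e₂)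
  rw [Nat.card_sigma, Nat.card_sigma, Finset.sum_congr rfl fun z _ => h.card_at_eq z x] at hsum
  exact ((Finset.sum_eq_sum_iff_of_le fun z _ => hle z).mp hsum.symm y (Finset.mem_univ _)).symm

theorem exists_mem_swappers [Finite G] [Finite Ω] (x y : Ω) : ∃ d, d ∈ swappers D x y := by
  obtain ⟨d, hd⟩ := h.exists_at x
  have : Nonempty (swappers D x x) := ⟨⟨d, hd⟩⟩
  have h1 := (Nat.card_pos (α := swappers D x x)).trans_le (h.card_swappers x y).ge
  obtain ⟨⟨w, hw⟩⟩ := (Nat.card_pos_iff.mp h1).1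
  exact ⟨w, hw⟩

/-- ISOLATION: two swappers of one pair have odd product. -/
theorem odd_orderOf_mul_swappers [Finite G] {x y : Ω} (hxy : x ≠ y) {w w' : G}
    (hw : w ∈ swappers D x y) (hw' : w' ∈ swappers D x y) : Odd (orderOf (w' * w)) := by
  rw [← Nat.not_even_iff_odd]
  intro heven
  obtain ⟨v, hv2, hvz, hvw, hvw'⟩ :=
    exists_central_involution (h.inv hw.1) (h.inv hw'.1) heven
  obtain ⟨c, hc, -⟩ := h.unique hw.1
  have hvx : v • x = x := by
    have hxx : (w' * w) • x = x := by rw [mul_smul, hw.2, h.smul_swap hw'.1 hw'.2]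
    exact (zpowers_le.mpr (show w' * w ∈ stabilizer G x from hxx)) hvz
  exact smul_ne hxy hw.2 hc
    (h.eq_point_of_mem_zpowers hw.1 hw'.1 hv2 hvz hvw hvw' hc hvx).symm

end Crit

/-- The stabiliser of two points. -/
def pairStab (G : Type u) [Group G] [MulAction G Ω] (x y : Ω) : Subgroup G :=
  stabilizer G x ⊓ stabilizer G y

/-- The setwise stabiliser of two points. -/
def edgeStab (G : Type u) [Group G] [MulAction G Ω] (x y : Ω) : Subgroup G where
  carrier := {g | (g • x = x ∧ g • y = y) ∨ (g • x = y ∧ g • y = x)}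
  one_mem' := Or.inl ⟨one_smul _ _, one_smul _ _⟩
  mul_mem' := by
    rintro a b (⟨a1, a2⟩ | ⟨a1, a2⟩) (⟨b1, b2⟩ | ⟨b1, b2⟩)
    all_goals simp only [Set.mem_ofPred_eq, mul_smul, a1, a2, b1, b2, and_self, true_or, or_true]
  inv_mem' := by
    rintro a (⟨a1, a2⟩ | ⟨a1, a2⟩)
    · exact Or.inl ⟨inv_smul_eq_iff.mpr a1.symm, inv_smul_eq_iff.mpr a2.symm⟩
    · exact Or.inr ⟨inv_smul_eq_iff.mpr a2.symm, inv_smul_eq_iff.mpr a1.symm⟩

/-- The largest normal subgroup of odd order of the stabiliser of two points. -/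
def pairCore (G : Type u) [Group G] [MulAction G Ω] (x y : Ω) : Subgroup G :=
  (Cfsg.oddCore (pairStab G x y)).map (pairStab G x y).subtype

theorem mem_edgeStab {x y : Ω} {g : G} :
    g ∈ edgeStab G x y ↔ (g • x = x ∧ g • y = y) ∨ (g • x = y ∧ g • y = x) := Iff.rfl

theorem mem_pairStab {x y : Ω} {g : G} : g ∈ pairStab G x y ↔ g • x = x ∧ g • y = y := Iff.rfl

theorem pairStab_le_edgeStab (x y : Ω) : pairStab G x y ≤ edgeStab G x y :=
  fun _ hg => Or.inl hg

theorem pairCore_le (x y : Ω) : pairCore G x y ≤ pairStab G x y := map_subtype_le _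

theorem odd_card_pairCore [Finite G] (x y : Ω) : Odd (Nat.card (pairCore G x y)) := by
  rw [pairCore, Subgroup.card_map_of_injective (Subgroup.subtype_injective _)]
  exact Cores.odd_card_oddCore

theorem edgeStab_normalizes {x y : Ω} {g k : G} (hg : g ∈ edgeStab G x y)
    (hk : k ∈ pairStab G x y) : g * k * g⁻¹ ∈ pairStab G x y := by
  have hg' := (edgeStab G x y).inv_mem hg
  rcases mem_edgeStab.mp hg with ⟨a1, a2⟩ | ⟨a1, a2⟩
  · have b1 : g⁻¹ • x = x := inv_smul_eq_iff.mpr a1.symm
    have b2 : g⁻¹ • y = y := inv_smul_eq_iff.mpr a2.symm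
    exact ⟨by simp [SetLike.mem_coe, mem_stabilizer_iff, mul_smul, b1, a1, mem_pairStab.mp hk],
      by simp [SetLike.mem_coe, mem_stabilizer_iff, mul_smul, b2, a2, mem_pairStab.mp hk]⟩
  · have b1 : g⁻¹ • x = y := inv_smul_eq_iff.mpr a2.symm
    have b2 : g⁻¹ • y = x := inv_smul_eq_iff.mpr a1.symm
    exact ⟨by simp [SetLike.mem_coe, mem_stabilizer_iff, mul_smul, b1, a2, mem_pairStab.mp hk],
      by simp [SetLike.mem_coe, mem_stabilizer_iff, mul_smul, b2, a1, mem_pairStab.mp hk]⟩

/-- An element of odd order stabilising a pair fixes both points. -/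
theorem mem_pairStab_of_odd [Finite G] {x y : Ω} {g : G} (hg : g ∈ edgeStab G x y)
    (hodd : Odd (orderOf g)) : g ∈ pairStab G x y := by
  obtain ⟨j, hj⟩ := hodd
  have h2 : g * g ∈ pairStab G x y := by
    rcases mem_edgeStab.mp hg with ⟨a1, a2⟩ | ⟨a1, a2⟩ <;>
      exact mem_pairStab.mpr ⟨by simp [mul_smul, a1, a2], by simp [mul_smul, a1, a2]⟩
  have hgg : g = (g * g) ^ (j + 1) := by
    rw [← sq, ← pow_mul, show 2 * (j + 1) = (2 * j + 1) + 1 by ring, pow_succ, ← hj,
      pow_orderOf_eq_one, one_mul]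
  rw [hgg]
  exact pow_mem h2 _

theorem map_oddCore_edgeStab_le [Finite G] (x y : Ω) :
    (Cfsg.oddCore (edgeStab G x y)).map (edgeStab G x y).subtype ≤ pairCore G x y := by
  set M := edgeStab G x y
  set K := pairStab G x y
  set N : Subgroup G := (Cfsg.oddCore M).map M.subtype with hN
  haveI : (Cfsg.oddCore M).Characteristic := Cores.pPrimeCore_characteristic
  have hNM : N ≤ M := map_subtype_le _
  have hodd : Odd (Nat.card N) := by
    rw [hN, Subgroup.card_map_of_injective (Subgroup.subtype_injective _)]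
    exact Cores.odd_card_oddCore
  have hNK : N ≤ K := fun g hg => mem_pairStab_of_odd (hNM hg)
    (hodd.of_dvd_nat (Subgroup.orderOf_dvd_natCard N hg))
  haveI : (N.subgroupOf K).Normal := ⟨fun n hn k => by
    rw [Subgroup.mem_subgroupOf] at hn ⊢
    obtain ⟨m, hm, hmn⟩ := hn
    refine ⟨⟨k, pairStab_le_edgeStab x y k.2⟩ * m * ⟨k, pairStab_le_edgeStab x y k.2⟩⁻¹,
      Subgroup.Normal.conj_mem inferInstance m hm _, ?_⟩
    simp [← hmn]⟩
  have h1 : N.subgroupOf K ≤ Cfsg.oddCore K := Cores.le_oddCore (by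
    rw [Nat.card_congr (Subgroup.subgroupOfEquivOfLe hNK).toEquiv]; exact hodd)
  intro g hg
  exact ⟨⟨g, hNK hg⟩, h1 (Subgroup.mem_subgroupOf.mpr hg), rfl⟩

namespace Crit

variable [Finite G] (h : Crit G Ω D)
include h

omit [Finite G] in
theorem mem_edgeStab_of_mem {x y : Ω} {w : G} (hw : w ∈ swappers D x y) :
    w ∈ edgeStab G x y :=
  Or.inr ⟨hw.2, h.smul_swap hw.1 hw.2⟩

omit [Finite G] in
theorem conj_mem_swappers {x y : Ω} {w g : G} (hw : w ∈ swappers D x y)
    (hg : g ∈ edgeStab G x y) : g * w * g⁻¹ ∈ swappers D x y := by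
  refine ⟨h.conj_mem hw.1 g, ?_⟩
  rw [mul_smul, mul_smul]
  rcases mem_edgeStab.mp hg with ⟨a1, a2⟩ | ⟨a1, a2⟩
  · rw [inv_smul_eq_iff.mpr a1.symm, hw.2, a2]
  · rw [inv_smul_eq_iff.mpr a2.symm, h.smul_swap hw.1 hw.2, a1]

/-- A swapper centralises the stabiliser of its pair modulo the odd core. -/
theorem commutator_mem_pairCore {x y : Ω} (hxy : x ≠ y) {w : G} (hw : w ∈ swappers D x y)
    {g : G} (hg : g ∈ edgeStab G x y) : w * g * w⁻¹ * g⁻¹ ∈ pairCore G x y := by
  set M := edgeStab G x y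
  let wM : M := ⟨w, h.mem_edgeStab_of_mem hw⟩
  have hw2 : orderOf wM = 2 := by rw [← Subgroup.orderOf_coe]; exact h.inv hw.1
  have hp : IsPGroup 2 (zpowers wM) := IsPGroup.of_card (n := 1) (by rw [Nat.card_zpowers, hw2]; rfl)
  obtain ⟨P, hP⟩ := hp.exists_le_sylow
  have hwP : wM ∈ P := hP (mem_zpowers _)
  refine map_oddCore_edgeStab_le x y ⟨_, Cores.glaubermanZStar P hw2 hwP (fun k hk => ?_) ⟨g, hg⟩,
    rfl⟩
  by_contra hne
  have hodd := h.odd_orderOf_mul_swappers hxy hw (h.conj_mem_swappers hw k.2)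
  have h' : k * wM * k⁻¹ * wM ∈ (P : Subgroup M) := mul_mem hk hwP
  have hcoe : ((k * wM * k⁻¹ * wM : M) : G) = (k : G) * w * (k : G)⁻¹ * w := rfl
  obtain ⟨n, hn⟩ := (IsPGroup.iff_orderOf.mp P.isPGroup') ⟨_, h'⟩
  rw [Subgroup.orderOf_mk, ← Subgroup.orderOf_coe, hcoe] at hn
  rw [hn] at hodd
  rcases n with _ | n
  · rw [pow_zero, orderOf_eq_one_iff] at hn
    refine hne (Subtype.ext ?_)
    show (k : G) * w * (k : G)⁻¹ = w
    rw [eq_inv_of_mul_eq_one_left hn]
    exact inv_eq_of_orderOf_eq_two (h.inv hw.1)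
  · exact absurd hodd (by rw [Nat.not_odd_iff_even, Nat.even_pow]; exact ⟨even_two, by omega⟩)

/-- The swappers of a pair are one orbit of the odd core of the pair stabiliser. -/
theorem exists_pairCore_conj {x y : Ω} (hxy : x ≠ y) {w w' : G} (hw : w ∈ swappers D x y)
    (hw' : w' ∈ swappers D x y) : ∃ k ∈ pairCore G x y, k * w * k⁻¹ = w' := by
  set g := w' * w with hgdef
  have hodd := h.odd_orderOf_mul_swappers hxy hw hw'
  have hgM : g ∈ edgeStab G x y := mul_mem (h.mem_edgeStab_of_mem hw') (h.mem_edgeStab_of_mem hw)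
  have h2 : (g * g)⁻¹ ∈ pairCore G x y := by
    have h0 := h.commutator_mem_pairCore hxy hw hgM
    rwa [conj_mul_involutions (h.inv hw.1) (h.inv hw'.1), ← mul_inv_rev] at h0
  obtain ⟨j, hj⟩ := hodd
  have hgO : g ∈ pairCore G x y := by
    have hgg : g = (g * g) ^ (j + 1) := by
      rw [← sq, ← pow_mul, show 2 * (j + 1) = (2 * j + 1) + 1 by ring, pow_succ, ← hj,
        pow_orderOf_eq_one, one_mul]
    rw [hgg]
    exact pow_mem (inv_mem_iff.mp h2) _
  obtain ⟨k, hk, -, -, hkc⟩ := exists_conj_of_odd (h.inv hw.1) (h.inv hw'.1) ⟨j, hj⟩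
  exact ⟨k, zpowers_le.mpr hgO hk, hkc⟩

/-- The pair stabiliser is the product of its odd core and the centraliser of a swapper. -/
theorem exists_mul_centralizer {x y : Ω} (hxy : x ≠ y) {w : G} (hw : w ∈ swappers D x y)
    {g : G} (hg : g ∈ pairStab G x y) :
    ∃ k ∈ pairCore G x y, ∃ c ∈ pairStab G x y, Commute c w ∧ g = k * c := by
  obtain ⟨k, hk, hkc⟩ :=
    h.exists_pairCore_conj hxy hw (h.conj_mem_swappers hw (pairStab_le_edgeStab x y hg))
  refine ⟨k, hk, k⁻¹ * g, mul_mem (inv_mem (pairCore_le x y hk)) hg, ?_, by group⟩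
  have : k⁻¹ * (g * w * g⁻¹) * k = w := by rw [← hkc]; group
  calc k⁻¹ * g * w = k⁻¹ * (g * w * g⁻¹) * k * (k⁻¹ * g) := by group
    _ = w * (k⁻¹ * g) := by rw [this]

/-- The odd core of the centraliser of a swapper in the pair stabiliser lies in the odd core of the
pair stabiliser. -/
theorem oddCore_centralizer_eq {x y : Ω} (hxy : x ≠ y) {w : G} (hw : w ∈ swappers D x y) :
    (Cfsg.oddCore ↥(pairStab G x y ⊓ centralizer {w})).map
        (pairStab G x y ⊓ centralizer {w}).subtype =
      pairCore G x y ⊓ centralizer {w} := by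
  set K := pairStab G x y
  set C := K ⊓ centralizer ({w} : Set G)
  set O := pairCore G x y
  haveI : (Cfsg.oddCore C).Characteristic := Cores.pPrimeCore_characteristic
  haveI : (Cfsg.oddCore K).Characteristic := Cores.pPrimeCore_characteristic
  have hOn : ∀ k ∈ K, ∀ n ∈ O, k * n * k⁻¹ ∈ O := by
    rintro k hk n ⟨m, hm, rfl⟩
    exact ⟨⟨k, hk⟩ * m * ⟨k, hk⟩⁻¹, Subgroup.Normal.conj_mem inferInstance m hm _, rfl⟩
  apply le_antisymm
  · set R := (Cfsg.oddCore C).map C.subtype with hR
    have hRC : R ≤ C := map_subtype_le _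
    refine le_inf ?_ (hRC.trans inf_le_right)
    haveI : (O.subgroupOf K).Normal := ⟨fun n hn k => by
      rw [Subgroup.mem_subgroupOf] at hn ⊢; exact hOn k k.2 n hn⟩
    set N := O.subgroupOf K ⊔ R.subgroupOf K with hNdef
    haveI hNn : N.Normal := by
      refine ⟨fun n hn g => ?_⟩
      obtain ⟨k, hk, c, hc, hcw, hgkc⟩ := h.exists_mul_centralizer hxy hw g.2
      have hgeq : g = ⟨k, pairCore_le x y hk⟩ * ⟨c, hc⟩ := Subtype.ext hgkc
      have hc' : (⟨c, hc⟩ : K) * n * (⟨c, hc⟩ : K)⁻¹ ∈ N := by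
        have hle : N.map (MulAut.conj (⟨c, hc⟩ : K)).toMonoidHom ≤ N := by
          rw [hNdef, Subgroup.map_sup]
          refine sup_le_sup ?_ ?_
          · rintro _ ⟨m, hm, rfl⟩
            exact Subgroup.Normal.conj_mem inferInstance m hm _
          · rintro _ ⟨m, hm, rfl⟩
            obtain ⟨r, hr, hrm⟩ := hm
            let cC : C := ⟨c, hc, mem_centralizer_singleton_iff.mpr hcw.eq⟩
            refine ⟨cC * r * cC⁻¹, Subgroup.Normal.conj_mem inferInstance r hr _, ?_⟩
            simp [cC]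
            exact hrm
        exact hle ⟨n, hn, rfl⟩
      have hk' : (⟨k, pairCore_le x y hk⟩ : K) ∈ N :=
        le_sup_left (b := R.subgroupOf K) (Subgroup.mem_subgroupOf.mpr hk)
      rw [hgeq]
      have key : ∀ a b m : K, a * b * m * (a * b)⁻¹ = a * (b * m * b⁻¹) * a⁻¹ := by
        intros; group
      rw [key]
      exact mul_mem (mul_mem hk' hc') (inv_mem hk')
    have hodd : Odd (Nat.card N) := by
      have h1 : Odd (Nat.card (O.subgroupOf K)) := by
        rw [Nat.card_congr (Subgroup.subgroupOfEquivOfLe (pairCore_le x y)).toEquiv]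
        exact odd_card_pairCore x y
      have h2 : Odd (Nat.card (R.subgroupOf K)) := by
        rw [Nat.card_congr (Subgroup.subgroupOfEquivOfLe (hRC.trans inf_le_left)).toEquiv, hR,
          Subgroup.card_map_of_injective (Subgroup.subtype_injective _)]
        exact Cores.odd_card_oddCore
      rw [hNdef, sup_comm]
      exact (h2.mul h1).of_dvd_nat (Cores.card_sup_dvd _ _)
    intro r hr
    exact ⟨⟨r, (hRC hr).1⟩, Cores.le_oddCore hodd
      (le_sup_right (a := O.subgroupOf K) (Subgroup.mem_subgroupOf.mpr hr)), rfl⟩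
  · rintro r ⟨hrO, hrw⟩
    haveI : ((O ⊓ centralizer ({w} : Set G)).subgroupOf C).Normal := ⟨fun n hn c => by
      rw [Subgroup.mem_subgroupOf] at hn ⊢
      exact ⟨hOn c c.2.1 n hn.1, Subgroup.mul_mem _ (Subgroup.mul_mem _ c.2.2 hn.2) (Subgroup.inv_mem _ c.2.2)⟩⟩
    have hle : O ⊓ centralizer ({w} : Set G) ≤ C := inf_le_inf_right _ (pairCore_le x y)
    have hodd : Odd (Nat.card ((O ⊓ centralizer ({w} : Set G)).subgroupOf C)) := by
      rw [Nat.card_congr (Subgroup.subgroupOfEquivOfLe hle).toEquiv]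
      exact (odd_card_pairCore x y).of_dvd_nat (Subgroup.card_dvd_of_le inf_le_left)
    exact ⟨⟨r, hle ⟨hrO, hrw⟩⟩, Cores.le_oddCore hodd
      (Subgroup.mem_subgroupOf.mpr ⟨hrO, hrw⟩), rfl⟩

/-- The number of swappers is the index of the centraliser of one of them in the odd core. -/
theorem card_swappers_mul {x y : Ω} (hxy : x ≠ y) {w : G} (hw : w ∈ swappers D x y) :
    Nat.card (swappers D x y) * Nat.card ↥(pairCore G x y ⊓ centralizer {w}) =
      Nat.card (pairCore G x y) := by
  set O := pairCore G x y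
  let f : O → swappers D x y := fun k => ⟨(k : G) * w * (k : G)⁻¹,
    h.conj_mem_swappers hw (pairStab_le_edgeStab x y (pairCore_le x y k.2))⟩
  set C := (centralizer ({w} : Set G)).subgroupOf O with hC
  have hf : ∀ a b : O, f a = f b ↔ a⁻¹ * b ∈ C := by
    intro a b
    simp only [f, Subtype.mk.injEq, hC, Subgroup.mem_subgroupOf, mem_centralizer_singleton_iff,
      Subgroup.coe_mul, Subgroup.coe_inv]
    constructor
    · intro e
      calc (a : G)⁻¹ * b * w = (a : G)⁻¹ * ((b : G) * w * (b : G)⁻¹) * b := by group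
        _ = (a : G)⁻¹ * ((a : G) * w * (a : G)⁻¹) * b := by rw [e]
        _ = w * ((a : G)⁻¹ * b) := by group
    · intro e
      calc (a : G) * w * (a : G)⁻¹ = a * (w * ((a : G)⁻¹ * b)) * (b : G)⁻¹ := by group
        _ = (b : G) * w * (b : G)⁻¹ := by rw [← e]; group
  let φ : O ⧸ C → swappers D x y := Quotient.lift f fun a b hab =>
    (hf a b).mpr (QuotientGroup.leftRel_apply.mp hab)
  have hφ : Function.Bijective φ := by
    constructor
    · intro p q e
      induction p using QuotientGroup.induction_on with | _ a =>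
      induction q using QuotientGroup.induction_on with | _ b =>
      exact QuotientGroup.eq.mpr ((hf a b).mp e)
    · rintro ⟨w', hw'⟩
      obtain ⟨k, hk, hkc⟩ := h.exists_pairCore_conj hxy hw hw'
      exact ⟨QuotientGroup.mk ⟨k, hk⟩, Subtype.ext hkc⟩
  rw [← Nat.card_congr (Equiv.ofBijective φ hφ), ← Nat.card_congr (Subgroup.subgroupOfEquivOfLe
      (inf_le_left : O ⊓ centralizer ({w} : Set G) ≤ O)).toEquiv, inf_subgroupOf_left,
    ← Subgroup.index_eq_card, ← hC, Subgroup.index_mul_card]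

theorem odd_card_swappers [Finite Ω] {x y : Ω} (hxy : x ≠ y) :
    Odd (Nat.card (swappers D x y)) := by
  obtain ⟨w, hw⟩ := h.exists_mem_swappers x y
  exact (odd_card_pairCore x y).of_dvd_nat ⟨_, (h.card_swappers_mul hxy hw).symm⟩

/-- The number of members at a point is odd. -/
theorem odd_card_at [Finite Ω] (x : Ω) : Odd (Nat.card (swappers D x x)) := by
  obtain ⟨p, q, hpq⟩ := h.exists_ne
  rw [h.card_at_eq x p, ← h.card_swappers p q]
  exact h.odd_card_swappers hpq

/-- A 2-group fixing two points centralises a swapper of them. -/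
theorem exists_commuting_swapper [Finite Ω] {x y : Ω} (hxy : x ≠ y) {P : Subgroup G}
    (hP : IsPGroup 2 P) (hPK : P ≤ pairStab G x y) :
    ∃ w ∈ swappers D x y, ∀ p ∈ P, Commute p w := by
  letI : MulAction P (swappers D x y) :=
    { smul := fun p w => ⟨(p : G) * w * (p : G)⁻¹,
        h.conj_mem_swappers w.2 (pairStab_le_edgeStab x y (hPK p.2))⟩
      one_smul := fun w => Subtype.ext (show ((1 : P) : G) * w * ((1 : P) : G)⁻¹ = w by simp)
      mul_smul := fun a b w => Subtype.ext (show ((a * b : P) : G) * w * ((a * b : P) : G)⁻¹ =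
        (a : G) * ((b : G) * w * (b : G)⁻¹) * (a : G)⁻¹ by simp [mul_assoc]) }
  haveI : Fact (Nat.Prime 2) := ⟨Nat.prime_two⟩
  obtain ⟨w, hw⟩ := hP.nonempty_fixed_point_of_prime_not_dvd_card (swappers D x y)
    (h.odd_card_swappers hxy).not_two_dvd_nat
  exact ⟨w, w.2, fun p hp => mul_inv_eq_iff_eq_mul.mp (congrArg Subtype.val (hw ⟨p, hp⟩))⟩

end Crit

end Cfsg.Agent.H14.Asch
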