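import Cfsg.Agent.H73.Asch.Line2
import Cfsg.Agent.H1.Asch.MaximalCrit
import Cfsg.Agent.H14.Asch.RankOne

/-!
P2 of the criterion: consequences of the rank theorem. The involutions of `C(u)` at a fixed point,
good involutions are members, the members of two-groups centralising `u`, and the conjugations
taking `u` to `u * a`.
-/

set_option autoImplicit false
set_option linter.style.haveILetI false

namespace Cfsg.Agent.H14.Asch

open Subgroup MulAction
open Cfsg.Agent.H39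
open Cfsg.Agent.H73.Asch (RankTwoBad Line2 HasLines2 RankOnePairs)
open scoped Pointwise

universe u v

variable {G : Type u} [Group G] {Ω : Type v} [MulAction G Ω] {D : Set G}

theorem mem_conj_smul_subgroup {g a : G} (Q : Subgroup G) :
    a ∈ MulAut.conj g • Q ↔ g⁻¹ * a * g ∈ Q := by
  rw [Subgroup.mem_pointwise_smul_iff_inv_smul_mem]
  simp [MulAut.smul_def]

section Line

variable {u : G} {x : Ω} {E Q : Subgroup G} (hl : Line2 D u x E Q)
include hl

theorem line2_commute {g : G} (hg : g ∈ Q) : Commute g u :=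
  commute_of_mem_lineGroup (hl.Q_le hg).1

theorem line2_smul {g : G} (hg : g ∈ Q) : g • x = x := mem_stabilizer_iff.mp (hl.Q_le hg).2

theorem line2_mul_self [Finite G] (h : Crit G Ω D) {e : G} (he : e ∈ E) : e * e = 1 := by
  rcases hl.mem_E e he with rfl | he'
  · exact one_mul 1
  · exact mul_self_of_orderOf_eq_two (h.inv he'.1)

theorem line2_member {a : G} (ha : a ∈ E) (ha1 : a ≠ 1) : a ∈ commSwap D u x x :=
  (hl.mem_E a ha).resolve_left ha1

/-- A third element of the line. -/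
theorem line2_exists_ne [Finite G] {a : G} : ∃ b ∈ E, b ≠ 1 ∧ b ≠ a := by
  classical
  by_contra hcon
  push Not at hcon
  have hle : (E : Set G).ncard ≤ ({1, a} : Set G).ncard := Set.ncard_le_ncard (fun e he => by
    by_cases h1 : e = 1
    · exact Or.inl h1
    · exact Or.inr (hcon e he h1)) (Set.toFinite _)
  have h2 : ({1, a} : Set G).ncard ≤ 2 :=
    (Set.ncard_insert_le 1 {a}).trans (by rw [Set.ncard_singleton])
  have h4 := hl.four_le
  rw [← Nat.card_coe_set_eq] at hle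
  change Nat.card E ≤ _ at hle
  omega

end Line

namespace Crit

variable [Finite G] [Finite Ω] (h : Crit G Ω D)
include h

omit [Finite G] in
theorem exists_fixed {j : G} (hj : orderOf j = 2) : ∃ x : Ω, j • x = x := by
  haveI : Fact (Nat.Prime 2) := ⟨Nat.prime_two⟩
  obtain ⟨x, hx⟩ := (IsPGroup.of_card (n := 1) (by rw [Nat.card_zpowers, hj]; rfl) :
    IsPGroup 2 (zpowers j)).nonempty_fixed_point_of_prime_not_dvd_card Ω
      h.odd_card.not_two_dvd_nat
  exact ⟨x, hx ⟨j, mem_zpowers j⟩⟩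

/-- A bad involution times a member commuting with it is bad. -/
theorem bad_mul_member {u : G} (hu : orderOf u = 2) (hb : Bad Ω u) {a : G} (ha : a ∈ D)
    (hau : Commute a u) : Bad Ω (u * a) := by
  obtain ⟨x, y, hxy, hx, hy⟩ := hb
  obtain ⟨p, hp⟩ : ∃ p : Ω, u • p ≠ p := by
    by_contra hcon
    push Not at hcon
    haveI := h.faithful
    exact ne_one_of_orderOf_eq_two hu
      (FaithfulSMul.eq_of_smul_eq_smul (α := Ω) fun q => by rw [hcon q, one_smul])
  obtain ⟨d, hd, hdp⟩ := h.exists_at p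
  obtain ⟨b, ⟨hbD, hbu⟩, hbp, -⟩ := h.exists_middle hu hd hdp hp
  obtain ⟨q, hq, -⟩ := h.unique hbD
  have huq : u • q = q := h.fix_of_commute hbD hbu.symm hq
  obtain ⟨g, hgL, hgb⟩ := (h.line hu hxy hx hy).exists_conj (mem_lineGroup hbD hbu)
    (mem_lineGroup ha hau) (h.inv hbD) (h.inv ha)
  have hgu : g * u * g⁻¹ = u := conj_eq_of_commute (commute_of_mem_lineGroup hgL)
  have hconj : u * a = g * (u * b) * g⁻¹ := by
    rw [← hgb, show g * (u * b) * g⁻¹ = g * u * g⁻¹ * (g * b * g⁻¹) by group, hgu]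
  refine ⟨g • p, g • q, fun e => hp ?_, ?_, ?_⟩
  · rw [MulAction.injective g e]; exact huq
  · rw [hconj]
    refine H73.Bender.conj_smul_of_smul ?_
    rw [mul_smul, hbp, ← mul_smul, mul_self_of_orderOf_eq_two hu, one_smul]
  · rw [hconj]
    exact H73.Bender.conj_smul_of_smul (by rw [mul_smul, hq, huq])

/-- The involutions of `C(u)` fixing a fixed point of `u`: `u`, members and `u` times members. -/
theorem involution_cases (hP : RankOnePairs (G := G) Ω) {u v : G} {x : Ω} (hu : orderOf u = 2)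
    (hb : Bad Ω u) (hx : u • x = x) (hv : orderOf v = 2) (hvu : Commute v u) (hvx : v • x = x) :
    v = u ∨ v ∈ commSwap D u x x ∨ ∃ d ∈ commSwap D u x x, v = u * d := by
  obtain ⟨p, q, hpq, hp, hq⟩ := hb
  have huu := mul_self_of_orderOf_eq_two hu
  have hfix : ∀ {r : Ω}, u • r = r → r ∈ H1.Asch.fixSet (Ω := Ω) (zpowers u) := fun hr e he =>
    mem_stabilizer_iff.mp (zpowers_le.mpr (mem_stabilizer_iff.mpr hr) he)
  have hEe : Cfsg.IsElementaryAbelian 2 (zpowers u) := by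
    refine ⟨inferInstance, fun e he => ?_⟩
    obtain ⟨i, rfl⟩ := he
    show (u ^ i) ^ 2 = 1
    rw [sq, ← zpow_add, zpow_even_of_orderOf_two hu ⟨i, rfl⟩]
  have hmax : ∀ E' : Subgroup G, zpowers u < E' → Cfsg.IsElementaryAbelian 2 E' →
      (H1.Asch.fixSet (Ω := Ω) E').Subsingleton := by
    intro E' hlt hE' a ha b hb'
    by_contra hab
    obtain ⟨w, hwE, hwu⟩ := SetLike.exists_of_lt hlt
    have huE : u ∈ E' := hlt.le (mem_zpowers u)
    have hw2 : orderOf w = 2 := orderOf_eq_two_of_mul_self (by rw [← sq]; exact hE'.2 w hwE)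
      fun e => hwu (e ▸ one_mem _)
    haveI := hE'.1
    exact hwu (hP u w a b hu hw2 (PGroups.comm_of_isMulCommutative inferInstance huE hwE)
      hab (ha u huE) (hb' u huE) (ha w hwE) (hb' w hwE) ▸ mem_zpowers u)
  have hmem : ∀ {d : G}, d ∈ H1.Asch.memCent D (zpowers u) → d ∈ D ∧ Commute d u := fun hd =>
    ⟨hd.1, hd.2 u (mem_zpowers u)⟩
  rcases H1.Asch.involution_centralizing_of_crit h hEe
      (zpowers_ne_bot.mpr (ne_one_of_orderOf_eq_two hu))
      ⟨p, hfix hp, q, hfix hq, hpq⟩ hmax hv (fun e he => commute_of_mem_zpowers hvu he) with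
    hvE | hvD | ⟨e, he, d, hd, rfl⟩
  · rcases eq_one_or_eq_of_sq hu (mem_zpowers u) hvE (mul_self_of_orderOf_eq_two hv) with e | e
    · exact absurd e (ne_one_of_orderOf_eq_two hv)
    · exact Or.inl e
  · exact Or.inr (Or.inl ⟨(hmem hvD).1, (hmem hvD).2, hvx⟩)
  · have hee : e * e = 1 := by rw [← sq]; exact hEe.2 e he
    rcases eq_one_or_eq_of_sq hu (mem_zpowers u) he hee with rfl | rfl
    · rw [one_mul] at hvx ⊢
      exact Or.inr (Or.inl ⟨(hmem hd).1, (hmem hd).2, hvx⟩)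
    · refine Or.inr (Or.inr ⟨d, ⟨(hmem hd).1, (hmem hd).2, ?_⟩, rfl⟩)
      rw [mul_smul] at hvx
      exact MulAction.injective e (hvx.trans hx.symm)

/-- A good involution is a member. -/
theorem mem_of_not_bad (hP : RankOnePairs (G := G) Ω) {j : G} (hj : orderOf j = 2) (hg : ¬ Bad Ω j) :
    j ∈ D := by
  obtain ⟨x, hx⟩ := h.exists_fixed hj
  obtain ⟨p, q, hpq⟩ := h.exists_ne
  obtain ⟨y, hyx⟩ : ∃ y : Ω, y ≠ x := by
    rcases eq_or_ne p x with e | e
    · exact ⟨q, fun e' => hpq (e.trans e'.symm)⟩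
    · exact ⟨p, e⟩
  obtain ⟨d, hd, hdy⟩ := h.exists_at y
  rcases Nat.even_or_odd (orderOf (j * d)) with heven | hodd
  · exfalso
    obtain ⟨k, hk2, -, hkd, hkj⟩ := exists_central_involution (h.inv hd) hj heven
    have hky : k • y = y := h.fix_of_commute hd hkd hdy
    have hkx : k • x = x := eq_of_not_bad hg hx (smul_fixed_of_commute hkj hx)
    have hkb : Bad Ω k := ⟨x, y, hyx.symm, hkx, hky⟩
    rcases h.involution_cases hP hk2 hkb hkx hj hkj.symm hx with e | e | ⟨a, ha, e⟩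
    · exact hg (e ▸ hkb)
    · exact Nat.not_odd_iff_even.mpr heven (h.odd_orderOf_mul hd e.1 hdy hx hyx)
    · exact hg (e ▸ h.bad_mul_member hk2 hkb ha.1 ha.2.1)
  · obtain ⟨g, -, -, -, hgd⟩ := exists_conj_of_odd (h.inv hd) hj hodd
    exact hgd ▸ h.conj_mem hd g

/-- Products of commuting members are members. -/
theorem mul_mem_of_commute (hP : RankOnePairs (G := G) Ω) {a b : G} (ha : a ∈ D) (hb : b ∈ D)
    (hne : a ≠ b) (hc : Commute a b) : a * b ∈ D := by
  refine h.mem_of_not_bad hP (orderOf_eq_two_of_mul_self ?_ fun e => hne ?_)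
    (h.not_bad_mul hb ha hne.symm hc.symm)
  · calc a * b * (a * b) = a * (b * a) * b := by group
      _ = (a * a) * (b * b) := by rw [hc.symm.eq]; group
      _ = 1 := by
        rw [mul_self_of_orderOf_eq_two (h.inv ha), mul_self_of_orderOf_eq_two (h.inv hb), mul_one]
  · rw [eq_inv_of_mul_eq_one_left e, inv_eq_of_orderOf_eq_two (h.inv hb)]

section Line

variable {u : G} {x : Ω} {E Q : Subgroup G} (hl : Line2 D u x E Q)
include hl

omit [Finite G] [Finite Ω] in
/-- Lift uniqueness: the members of a 2-group of `C(u)` at `x` lie in one conjugate of `E`. -/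
theorem exists_conj_members {P : Subgroup G} (hPp : IsPGroup 2 P)
    (hPu : ∀ g ∈ P, Commute g u) (hPx : ∀ g ∈ P, g • x = x) :
    ∃ g ∈ lineGroup D u ⊓ stabilizer G x,
      ∀ d ∈ D, d ∈ P → g⁻¹ * d * g ∈ E := by
  obtain ⟨g, hg, hle⟩ := hl.sylow (closure {d | d ∈ D ∧ d ∈ P})
    (hPp.to_le ((closure_le P).mpr fun d hd => hd.2))
    ((closure_le _).mpr fun d hd => ⟨mem_lineGroup hd.1 (hPu d hd.2), hPx d hd.2⟩)
  refine ⟨g, hg, fun d hd hdP => hl.omega _
    ((mem_conj_smul_subgroup Q).mp (hle (subset_closure ⟨hd, hdP⟩))) ?_⟩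
  rw [show g⁻¹ * d * g = g⁻¹ * d * g⁻¹⁻¹ by rw [inv_inv], orderOf_conj, h.inv hd]

/-- A member at `x` commuting with `u` is conjugate into `E` in `lineGroup D u` at `x`. -/
theorem exists_conj_mem_E {a : G} (ha : a ∈ commSwap D u x x) :
    ∃ g ∈ lineGroup D u ⊓ stabilizer G x, g⁻¹ * a * g ∈ E := by
  obtain ⟨g, hg, hgE⟩ := h.exists_conj_members hl
    (IsPGroup.of_card (n := 1) (by rw [Nat.card_zpowers, h.inv ha.1]; rfl) :
      IsPGroup 2 (zpowers a))
    (fun b hb => (commute_of_mem_zpowers ha.2.1.symm hb).symm)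
    fun b hb => mem_stabilizer_iff.mp (zpowers_le.mpr (mem_stabilizer_iff.mpr ha.2.2) hb)
  exact ⟨g, hg, hgE a ha.1 (mem_zpowers a)⟩

/-- The involutions of a 2-group of `C(u)` at `x` containing `u` and `E` lie in `E ∪ u E`. -/
theorem involutions_two_group (hP : RankOnePairs (G := G) Ω) {P : Subgroup G} (hPp : IsPGroup 2 P)
    (hPu : ∀ g ∈ P, Commute g u) (hPx : ∀ g ∈ P, g • x = x) (hEP : E ≤ P) (huP : u ∈ P)
    {v : G} (hvP : v ∈ P) (hv : orderOf v = 2) : v ∈ E ∨ u * v ∈ E := by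
  obtain ⟨hu2, hb, -⟩ := hl.bad
  obtain ⟨g, -, hgE⟩ := h.exists_conj_members hl hPp hPu hPx
  set W : Subgroup G := MulAut.conj g • E
  have hW : ∀ d ∈ D, d ∈ P → d ∈ W := fun d hd hdP =>
    (mem_conj_smul_subgroup E).mpr (hgE d hd hdP)
  have hEW : E ≤ W := fun e he => by
    by_cases he1 : e = 1
    · rw [he1]; exact one_mem _
    · exact hW e (line2_member hl he he1).1 (hEP he)
  have hcard : Nat.card W ≤ Nat.card E :=
    (Nat.card_congr (Subgroup.equivSMul (MulAut.conj g) E).toEquiv).ge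
  have hWE : W = E := (Subgroup.eq_of_le_of_card_ge hEW hcard).symm
  rcases h.involution_cases hP hu2 hb hl.fix hv (hPu v hvP) (hPx v hvP) with rfl | e | ⟨d, hd, rfl⟩
  · exact Or.inr (by rw [mul_self_of_orderOf_eq_two hu2]; exact one_mem E)
  · exact Or.inl (hWE ▸ hW v e.1 hvP)
  · refine Or.inr ?_
    rw [← mul_assoc, mul_self_of_orderOf_eq_two hu2, one_mul, ← hWE]
    refine hW d hd.1 ?_
    have := mul_mem (inv_mem huP) hvP
    rwa [inv_mul_cancel_left] at this

/-- `u * a` is conjugate to `u` at `x` for a member `a` of `E`. -/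
theorem exists_conj_mul {c : G} (hc : c ∈ E) (_hc1 : c ≠ 1) :
    ∃ g : G, g • x = x ∧ g * u * g⁻¹ = u * c := by
  obtain ⟨hu2, hb, -⟩ := hl.bad
  obtain ⟨a, ha, ha1, hac⟩ := line2_exists_ne hl (a := c)
  have haa := line2_mul_self hl h ha
  have hab1 : a * c ≠ 1 := fun e => hac (by
    rw [eq_inv_of_mul_eq_one_right e, inv_eq_of_mul_eq_one_right haa])
  have haD := line2_member hl ha ha1
  have hbD := line2_member hl (mul_mem ha hc) hab1
  have hbad := h.bad_mul_member hu2 hb haD.1 haD.2.1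
  have haw : Commute a (u * a) := haD.2.1.mul_right (Commute.refl a)
  have hbw : Commute (a * c) (u * a) :=
    hbD.2.1.mul_right (hl.central _ (mul_mem ha hc) a (hl.E_le ha))
  have hw2 : orderOf (u * a) = 2 := by
    refine orderOf_eq_two_of_mul_self ?_ fun e => ?_
    · calc u * a * (u * a) = u * (a * u) * a := by group
        _ = (u * u) * (a * a) := by rw [haD.2.1.eq]; group
        _ = 1 := by rw [mul_self_of_orderOf_eq_two hu2, haa, mul_one]
    · obtain ⟨p, q, hpq, hp, hq⟩ := hb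
      have e1 : u = a := by rw [eq_inv_of_mul_eq_one_left e, inv_eq_of_mul_eq_one_right haa]
      exact hpq (h.eq_of_fixed haD.1 (e1 ▸ hp) (e1 ▸ hq))
  obtain ⟨p, q, hpq, hp, hq⟩ := hbad
  have hwx : (u * a) • x = x := by rw [mul_smul, haD.2.2, hl.fix]
  obtain ⟨g, hgL, hga⟩ := (h.line hw2 hpq hp hq).exists_conj (mem_lineGroup haD.1 haw)
    (mem_lineGroup hbD.1 hbw) (h.inv haD.1) (h.inv hbD.1)
  refine ⟨g, ?_, ?_⟩
  · refine h.eq_of_fixed hbD.1 ?_ hbD.2.2
    rw [← hga]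
    exact H73.Bender.conj_smul_of_smul haD.2.2
  · calc g * u * g⁻¹ = g * (u * a * a) * g⁻¹ := by rw [mul_assoc u a a, haa, mul_one]
      _ = (g * (u * a) * g⁻¹) * (g * a * g⁻¹) := by group
      _ = u * a * (a * c) := by rw [conj_eq_of_commute (commute_of_mem_lineGroup hgL), hga]
      _ = u * c := by rw [mul_assoc, ← mul_assoc a, haa, one_mul]

/-- The conjugates `u * c` are bad of rank two. -/
theorem rankTwoBad_mul {c : G} (hc : c ∈ E) (hc1 : c ≠ 1) : RankTwoBad Ω D (u * c) := by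
  obtain ⟨g, -, hgu⟩ := h.exists_conj_mul hl hc hc1
  obtain ⟨hu2, ⟨p, q, hpq, hp, hq⟩, -⟩ := hl.bad
  obtain ⟨a, ha, ha1, hac⟩ := line2_exists_ne hl (a := c)
  have hcD := line2_member hl hc hc1
  have haD := line2_member hl ha ha1
  refine ⟨by rw [← hgu, orderOf_conj, hu2], ⟨g • p, g • q, fun e => hpq (MulAction.injective g e),
    hgu ▸ H73.Bender.conj_smul_of_smul hp, hgu ▸ H73.Bender.conj_smul_of_smul hq⟩,
    c, hcD.1, a, haD.1, fun e => hac e.symm, hl.central c hc a (hl.E_le ha),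
    hcD.2.1.mul_right (Commute.refl c), haD.2.1.mul_right (hl.central a ha c (hl.E_le hc))⟩

omit h in
theorem line2_isMulCommutative : IsMulCommutative E :=
  ⟨⟨fun a b => Subtype.ext (hl.central a a.2 b (hl.E_le b.2)).eq⟩⟩

/-- A conjugation taking `u` to `u * c` fixes `x`, centralises `c` and normalises `E`. -/
theorem exists_conj_mul_normalizing {c : G} (hc : c ∈ E) (hc1 : c ≠ 1) :
    ∃ g : G, g • x = x ∧ g * u * g⁻¹ = u * c ∧ Commute g c ∧ ∀ e ∈ E, g * e * g⁻¹ ∈ E := by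
  obtain ⟨g₀, hg₀x, hg₀u⟩ := h.exists_conj_mul hl hc hc1
  obtain ⟨hu2, hb, -⟩ := hl.bad
  have hcD := line2_member hl hc hc1
  have hbad := h.bad_mul_member hu2 hb hcD.1 hcD.2.1
  have hw2 : orderOf (u * c) = 2 := by rw [← hg₀u, orderOf_conj, hu2]
  set w := u * c with hw
  -- first centralise `c`
  have ha' : g₀ * c * g₀⁻¹ ∈ lineGroup D w :=
    mem_lineGroup (h.conj_mem hcD.1 g₀) (hg₀u ▸ commute_conj hcD.2.1 g₀)
  have hcw : Commute c w := hcD.2.1.mul_right (Commute.refl c)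
  obtain ⟨p, q, hpq, hp, hq⟩ := hbad
  obtain ⟨l, hlL, hlc⟩ := (h.line hw2 hpq hp hq).exists_conj ha' (mem_lineGroup hcD.1 hcw)
    (by rw [orderOf_conj, h.inv hcD.1]) (h.inv hcD.1)
  set g₁ := l * g₀ with hg₁
  have hg₁c : g₁ * c * g₁⁻¹ = c := by
    rw [hg₁, show l * g₀ * c * (l * g₀)⁻¹ = l * (g₀ * c * g₀⁻¹) * l⁻¹ by group, hlc]
  have hg₁u : g₁ * u * g₁⁻¹ = w := by
    rw [hg₁, show l * g₀ * u * (l * g₀)⁻¹ = l * (g₀ * u * g₀⁻¹) * l⁻¹ by group, hg₀u,
      conj_eq_of_commute (commute_of_mem_lineGroup hlL)]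
  have hg₁x : g₁ • x = x := h.fix_of_commute hcD.1 (commute_of_conj_eq hg₁c) hcD.2.2
  -- then move the lift of the members back to `E`
  set X : Subgroup G := lineGroup D w ⊓ stabilizer G x ⊓ centralizer {c} with hX
  set Q' : Subgroup G := MulAut.conj g₁ • Q
  have hQ'X : Q' ≤ X := by
    intro a ha
    have ha' := (mem_conj_smul_subgroup Q).mp ha
    have hmap : ∀ b ∈ lineGroup D u, g₁ * b * g₁⁻¹ ∈ lineGroup D w := by
      intro b hb'
      induction hb' using Subgroup.closure_induction with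
      | mem y hy =>
        exact mem_lineGroup (h.conj_mem hy.1 g₁)
          (hg₁u ▸ commute_conj (mem_centralizer_singleton_iff.mp hy.2 : Commute y u) g₁)
      | one => simp
      | mul a b _ _ iha ihb =>
        rw [show g₁ * (a * b) * g₁⁻¹ = (g₁ * a * g₁⁻¹) * (g₁ * b * g₁⁻¹) by group]
        exact mul_mem iha ihb
      | inv a _ iha =>
        rw [show g₁ * a⁻¹ * g₁⁻¹ = (g₁ * a * g₁⁻¹)⁻¹ by group]
        exact inv_mem iha
    suffices g₁ * (g₁⁻¹ * a * g₁) * g₁⁻¹ ∈ X by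
      rwa [show g₁ * (g₁⁻¹ * a * g₁) * g₁⁻¹ = a by group] at this
    refine ⟨⟨hmap _ (hl.Q_le ha').1, ?_⟩, mem_centralizer_singleton_iff.mpr ?_⟩
    · refine mem_stabilizer_iff.mpr ?_
      rw [mul_smul, mul_smul,
        inv_smul_eq_iff.mpr hg₁x.symm, line2_smul hl ha', hg₁x]
    · have h1 := commute_conj (hl.central c hc _ ha').symm g₁
      rw [hg₁c] at h1
      exact h1.eq
  have hQ'p : IsPGroup 2 Q' :=
    hl.isPGroup.of_equiv (Subgroup.equivSMul (MulAut.conj g₁) Q)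
  have hmax : ∀ P : Subgroup G, IsPGroup 2 P → P ≤ X → Q' ≤ P → P ≤ Q' := by
    intro P hPp hPX hQP
    have hPu : ∀ a ∈ MulAut.conj g₁⁻¹ • P, a ∈ lineGroup D u ⊓ stabilizer G x := by
      intro a ha
      have ha' : g₁ * a * g₁⁻¹ ∈ P := by simpa using (mem_conj_smul_subgroup P).mp ha
      obtain ⟨⟨haL, hax⟩, -⟩ := hPX ha'
      have hback : ∀ b ∈ lineGroup D w, g₁⁻¹ * b * g₁⁻¹⁻¹ ∈ lineGroup D u := by
        intro b hb'
        induction hb' using Subgroup.closure_induction with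
        | mem y hy =>
          have h1 := commute_conj (mem_centralizer_singleton_iff.mp hy.2 : Commute y w) g₁⁻¹
          rw [← hg₁u, show g₁⁻¹ * (g₁ * u * g₁⁻¹) * g₁⁻¹⁻¹ = u by group] at h1
          exact mem_lineGroup (h.conj_mem hy.1 g₁⁻¹) h1
        | one => simp
        | mul a b _ _ iha ihb =>
          rw [show g₁⁻¹ * (a * b) * g₁⁻¹⁻¹ = (g₁⁻¹ * a * g₁⁻¹⁻¹) * (g₁⁻¹ * b * g₁⁻¹⁻¹) by
            group]
          exact mul_mem iha ihb
        | inv a _ iha =>
          rw [show g₁⁻¹ * a⁻¹ * g₁⁻¹⁻¹ = (g₁⁻¹ * a * g₁⁻¹⁻¹)⁻¹ by group]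
          exact inv_mem iha
      have e : a = g₁⁻¹ * (g₁ * a * g₁⁻¹) * g₁⁻¹⁻¹ := by group
      refine ⟨e ▸ hback _ haL, ?_⟩
      refine mem_stabilizer_iff.mpr ?_
      have := mem_stabilizer_iff.mp hax
      rw [mul_smul, mul_smul, inv_smul_eq_iff.mpr hg₁x.symm] at this
      exact MulAction.injective g₁ (this.trans hg₁x.symm)
    obtain ⟨k, -, hk⟩ := hl.sylow _ (hPp.of_equiv (Subgroup.equivSMul (MulAut.conj g₁⁻¹) P))
      fun a ha => hPu a ha
    refine (Subgroup.eq_of_le_of_card_ge hQP ?_).ge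
    rw [Nat.card_congr (Subgroup.equivSMul (MulAut.conj g₁⁻¹) P).toEquiv,
      Nat.card_congr (Subgroup.equivSMul (MulAut.conj g₁) Q).symm.toEquiv,
      Nat.card_congr (Subgroup.equivSMul (MulAut.conj k) Q).toEquiv]
    exact Subgroup.card_le_of_le hk
  have hEX : E ≤ X := fun e he => by
    have hce : Commute c e := hl.central c hc e (hl.E_le he)
    refine ⟨⟨?_, hl.Q_le (hl.E_le he) |>.2⟩, mem_centralizer_singleton_iff.mpr hce.symm.eq⟩
    by_cases he1 : e = 1
    · rw [he1]; exact one_mem _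
    · have heD := line2_member hl he he1
      exact mem_lineGroup heD.1 (heD.2.1.mul_right hce.symm)
  obtain ⟨k, hk, hkE⟩ := exists_conj_le_of_maximal hQ'p hQ'X hmax
    (hl.isPGroup.to_le hl.E_le) hEX
  have hkc : Commute k c := mem_centralizer_singleton_iff.mp hk.2
  have hkw : Commute k w := commute_of_mem_lineGroup hk.1.1
  have hkx : k • x = x := mem_stabilizer_iff.mp hk.1.2
  set g := k⁻¹ * g₁ with hg
  have hinto : ∀ e ∈ E, g⁻¹ * e * g ∈ E := by
    intro e he
    have h1 := (mem_conj_smul_subgroup Q).mp (hkE e he)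
    rw [show g₁⁻¹ * (k * e * k⁻¹) * g₁ = g⁻¹ * e * g by rw [hg]; group] at h1
    by_cases he1 : e = 1
    · simp [he1]
    · refine hl.omega _ h1 ?_
      rw [show g⁻¹ * e * g = g⁻¹ * e * g⁻¹⁻¹ by rw [inv_inv], orderOf_conj,
        h.inv (line2_member hl he he1).1]
  refine ⟨g, ?_, ?_, ?_, fun e he => ?_⟩
  · rw [hg, mul_smul, hg₁x]; exact inv_smul_eq_iff.mpr hkx.symm
  · rw [hg, show k⁻¹ * g₁ * u * (k⁻¹ * g₁)⁻¹ = k⁻¹ * (g₁ * u * g₁⁻¹) * k⁻¹⁻¹ by group, hg₁u,
      conj_eq_of_commute hkw.inv_left]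
  · exact hkc.inv_left.mul_left (commute_of_conj_eq hg₁c)
  · have hn : g⁻¹ ∈ normalizer (E : Set G) :=
      mem_normalizer_of_conj_mem fun a ha => by rw [inv_inv]; exact hinto a ha
    exact (Subgroup.mem_normalizer_iff.mp (inv_mem_iff.mp hn) e).mp he

end Line

end Crit

end Cfsg.Agent.H14.Asch
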