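import Cfsg.Agent.H14.Asch.ShapesBase

/-!
Several layers with `Q` in the second centre modulo `E` (shape two): `M / Q` has the data of a line
with `Q = E`, and the centraliser of an element of `⁅M, A⁆` is large.
-/

set_option autoImplicit false
set_option linter.style.haveILetI false
set_option linter.unusedSectionVars false

namespace Cfsg.Agent.H14.Asch

open Subgroup
open Cfsg.Agent.H51.Asch (nxt nxt_le nxt_lt sq_mem_nxt comm_mem_nxt norm_nxt TorusData
  card_le_centralized_mul)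
open scoped commutatorElement Classical

universe u

variable {G : Type u} [Group G]

/-- The image of a subgroup in `normalizer Q / Q`. -/
def img (Q S : Subgroup G) :
    Subgroup (normalizer (Q : Set G) ⧸ Q.subgroupOf (normalizer (Q : Set G))) :=
  (S.subgroupOf (normalizer (Q : Set G))).map (QuotientGroup.mk' _)

theorem mem_img {Q S : Subgroup G} (hQS : Q ≤ S) (x : normalizer (Q : Set G)) :
    (x : normalizer (Q : Set G) ⧸ Q.subgroupOf (normalizer (Q : Set G))) ∈ img Q S ↔ (x : G) ∈ S := by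
  refine ⟨fun ⟨y, hy, hyx⟩ => ?_, fun hx => ⟨x, mem_subgroupOf.mpr hx, rfl⟩⟩
  have h1 : (y : G)⁻¹ * x ∈ Q := mem_subgroupOf.mp (QuotientGroup.eq.mp hyx)
  have h2 := S.mul_mem (mem_subgroupOf.mp hy) (hQS h1)
  rwa [mul_inv_cancel_left] at h2

theorem mem_img_iff {Q S : Subgroup G}
    {z : normalizer (Q : Set G) ⧸ Q.subgroupOf (normalizer (Q : Set G))} :
    z ∈ img Q S ↔ ∃ x : normalizer (Q : Set G), (x : G) ∈ S ∧ (x : _ ⧸ _) = z :=
  ⟨fun ⟨x, hx, e⟩ => ⟨x, mem_subgroupOf.mp hx, e⟩, fun ⟨x, hx, e⟩ => ⟨x, mem_subgroupOf.mpr hx, e⟩⟩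

theorem card_img [Finite G] {Q S : Subgroup G} (hQS : Q ≤ S)
    (hSN : S ≤ normalizer (Q : Set G)) : Nat.card S = Nat.card Q * Nat.card (img Q S) := by
  set H := normalizer (Q : Set G) with hH
  set θ := (QuotientGroup.mk' (Q.subgroupOf H)).comp (Subgroup.inclusion hSN) with hθ
  have hr : θ.range = img Q S := by
    ext z
    rw [mem_img_iff]
    exact ⟨fun ⟨s, hs⟩ => ⟨Subgroup.inclusion hSN s, s.2, hs⟩,
      fun ⟨x, hx, e⟩ => ⟨⟨x, hx⟩, e⟩⟩
  have hk : θ.ker = Q.subgroupOf S := by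
    ext s
    rw [MonoidHom.mem_ker, hθ, MonoidHom.comp_apply, QuotientGroup.mk'_apply,
      QuotientGroup.eq_one_iff]
    rfl
  have h1 := θ.ker.card_mul_index
  rw [Subgroup.index_ker, hr, hk, Nat.card_congr (Subgroup.subgroupOfEquivOfLe hQS).toEquiv] at h1
  exact h1.symm

namespace ShapeData

variable {M Q E A : Subgroup G} {u : G} (h : ShapeData M Q E A u)
include h

/-- A commutator with `u` in `Q` lies in `E`. -/
theorem comm_u_mem_E {g : G} (hg : ⁅g, u⁆ ∈ Q) : ⁅g, u⁆ ∈ E := by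
  refine h.omega _ hg ?_
  have hcu : Commute ⁅g, u⁆ u := h.commute _ hg
  have e : u * ⁅g, u⁆ * u = ⁅g, u⁆⁻¹ := by
    simp only [commutatorElement_def, mul_inv_rev, inv_inv, h.inv_u, mul_assoc]
    rw [h.sq_u, mul_one]
  rw [← hcu.eq, mul_assoc, h.sq_u, mul_one] at e
  calc ⁅g, u⁆ * ⁅g, u⁆ = ⁅g, u⁆⁻¹ * ⁅g, u⁆ := by rw [← e]
    _ = 1 := inv_mul_cancel _

theorem M_le_normalizer_Q [Finite G] (hQX : Q ≤ h.zTwo) : M ≤ normalizer (Q : Set G) :=
  fun g hg => Cfsg.Agent.H39.mem_normalizer_of_conj_mem fun q hq => by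
    rw [show g * q * g⁻¹ = ⁅g, q⁆ * q by simp [commutatorElement_def]]
    exact Q.mul_mem (h.le_E ((hQX hq).2 g hg)) hq

/-- The data of `M / Q`. -/
theorem exists_torusData [Finite G] (hs : Squaring Q E) (hQX : Q ≤ h.zTwo) (hmulti : u ∉ h.zTwo) :
    ∃ (hu : u ∈ normalizer (Q : Set G)) (R : Subgroup G),
      TorusData (img Q M) (img Q R) (img Q A)
        ((⟨u, hu⟩ : normalizer (Q : Set G)) : _ ⧸ Q.subgroupOf (normalizer (Q : Set G))) ∧
      Nat.card (img Q R) = Nat.card E := by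
  haveI : Fact (Nat.Prime 2) := ⟨Nat.prime_two⟩
  have huK : u ∉ ⁅M, A⁆ := h.u_notMem_commutator (Or.inl hs)
  set K := ⁅M, A⁆ with hK
  have hKM : K ≤ M := h.commutator_le
  have hQK : Q ≤ K := h.Q_le_commutator
  set H := normalizer (Q : Set G) with hH
  have hMH : M ≤ H := h.M_le_normalizer_Q hQX
  have hAH : A ≤ H := h.normQ
  have huH : u ∈ H := hMH h.u_mem
  have hME : M ≤ normalizer (E : Set G) := le_normalizer_iff.mpr fun r hr e he => by
    rw [h.conj_E hr he]; exact he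
  obtain ⟨R1, hAR1, hR1⟩ := exists_into (P := zpowers u) (A := A) hME (le_normalizer_iff.mpr
    fun a ha g hg => by
      obtain ⟨i, rfl⟩ := mem_zpowers_iff.mp hg
      rw [((h.commute_A ha).zpow_right i).eq, mul_inv_cancel_right]
      exact zpow_mem (mem_zpowers u) i) h.normM h.normE
  have hR1' : ∀ {g}, g ∈ M → (g ∈ R1 ↔ ⁅g, u⁆ ∈ E) := fun {g} hg => by
    rw [hR1]
    constructor
    · intro h1
      have h2 := h1.2 u (mem_zpowers u)
      rw [← commutatorElement_inv]
      exact inv_mem h2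
    · refine fun h1 => ⟨hg, fun r hr => ?_⟩
      rcases h.zpowers_u_cases hr with rfl | rfl
      · rw [commutatorElement_one_left]; exact E.one_mem
      · rw [← commutatorElement_inv]; exact inv_mem h1
  set K1 := K ⊓ R1 with hK1
  have hK1iff : ∀ {g}, g ∈ K1 ↔ g ∈ K ∧ ⁅g, u⁆ ∈ E := fun {g} =>
    ⟨fun hg => ⟨hg.1, (hR1' (hKM hg.1)).mp hg.2⟩, fun hg => ⟨hg.1, (hR1' (hKM hg.1)).mpr hg.2⟩⟩
  have hAK1 : A ≤ normalizer (K1 : Set G) :=
    Cfsg.Agent.H51.Asch.inf_norm h.normA_commutator hAR1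
  have hQK1 : Q ≤ K1 := fun q hq => hK1iff.mpr ⟨hQK hq, by
    rw [commutatorElement_eq_one_iff_mul_comm.mpr (h.commute q hq).eq]; exact E.one_mem⟩
  have hK1M : K1 ≤ M := inf_le_left.trans hKM
  -- a layer over `Q`
  have hKQ : ¬ K ≤ Q := fun hle => hmulti ⟨h.u_mem, fun r hr => by
    have hru : Commute r u := by
      rcases h.mem_or_mul_mem hr with h1 | h1
      · exact h.commute r (hle h1)
      · have h2 := (h.commute _ (hle h1)).mul_left (Commute.refl u)
        rwa [mul_assoc, h.sq_u, mul_one] at h2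
    rw [commutatorElement_eq_one_iff_mul_comm.mpr hru.eq]; exact E.one_mem⟩
  obtain ⟨g, hgK, hgQ, hgc⟩ := exists_mem_layer h.two hKM h.normM_commutator hKQ
  have hguE : ⁅g, u⁆ ∈ E := h.comm_u_mem_E (by
    rw [← commutatorElement_inv]; exact inv_mem (hgc u h.u_mem))
  have hg1 : ⁅g, u⁆ ≠ 1 := fun e =>
    hgQ (h.mem_Q_of_commute huK hgK (commutatorElement_eq_one_iff_mul_comm.mp e))
  obtain ⟨T, hAT, hT⟩ := exists_into (P := M) (S := Q) hMH h.normM h.normM h.normQ
  have hQT : ∀ q ∈ Q, q ∈ T := fun q hq => (hT q).mpr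
    ⟨h.le hq, fun r hr => h.le_E ((hQX hq).2 r hr)⟩
  have hgT : g ∈ T := (hT g).mpr ⟨hKM hgK, hgc⟩
  have hpre : ∀ e ∈ E, ∃ k ∈ K1, k ∈ T ∧ ⁅k, u⁆ = e := by
    intro e he
    by_cases he1 : e = 1
    · exact ⟨1, K1.one_mem, T.one_mem, by rw [he1, commutatorElement_one_left]⟩
    obtain ⟨a, ha, hae⟩ := h.trans _ hguE hg1 e he he1
    refine ⟨a * g * a⁻¹, ?_, (mem_normalizer_iff.mp (hAT ha) g).mp hgT, by
      rw [← h.conj_comm_u ha, hae]⟩
    exact (mem_normalizer_iff.mp (hAK1 ha) g).mp (hK1iff.mpr ⟨hgK, hguE⟩)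
  have hdiff : ∀ {k l}, k ∈ K1 → l ∈ K1 → ⁅k, u⁆ = ⁅l, u⁆ → l⁻¹ * k ∈ Q := fun {k l} hk hl e => by
    refine h.mem_Q_of_commute huK (K.mul_mem (inv_mem hl.1) hk.1) ?_
    refine mul_inv_eq_iff_eq_mul.mp ?_
    rw [commutatorElement_def, commutatorElement_def] at e
    calc l⁻¹ * k * u * (l⁻¹ * k)⁻¹ = l⁻¹ * (k * u * k⁻¹ * u⁻¹) * u * l := by group
      _ = l⁻¹ * (l * u * l⁻¹ * u⁻¹) * u * l := by rw [e]
      _ = u := by group
  have hcentral : ∀ k ∈ K1, ∀ r ∈ M, ⁅r, k⁆ ∈ Q := by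
    intro k hk r hr
    obtain ⟨l, hl, hlT, hle⟩ := hpre _ (hK1iff.mp hk).2
    have h1 : k ∈ T := by
      have := T.mul_mem hlT (hQT _ (hdiff hk hl hle.symm))
      rwa [mul_inv_cancel_left] at this
    exact ((hT k).mp h1).2 r hr
  have hsq : ∀ k ∈ K1, k * k ∈ Q := fun k hk => by
    refine h.mem_Q_of_commute huK (K.mul_mem hk.1 hk.1) ?_
    refine commutatorElement_eq_one_iff_mul_comm.mp ?_
    rw [h.comm_mul_left (hK1M hk) (hK1iff.mp hk).2, h.sq _ (hK1iff.mp hk).2]
  -- the quotient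
  set π := QuotientGroup.mk' (Q.subgroupOf H) with hπ
  have hnorm : ∀ S : Subgroup G, A ≤ normalizer (S : Set G) →
      img Q A ≤ normalizer (img Q S : Set _) := by
    intro S hS
    refine le_normalizer_iff.mpr fun a ha z hz => ?_
    obtain ⟨a, haA, rfl⟩ := mem_img_iff.mp ha
    obtain ⟨x, hxS, rfl⟩ := mem_img_iff.mp hz
    exact mem_img_iff.mpr ⟨a * x * a⁻¹, (mem_normalizer_iff.mp (hS haA) _).mp hxS, rfl⟩
  choose pre hpreK hpreT hpreu using fun e : E => hpre e e.2
  have hcard : Nat.card (img Q K1) = Nat.card E := by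
    refine (Nat.card_eq_of_bijective (fun e : E => (⟨(⟨pre e, hMH (hK1M (hpreK e))⟩ : H),
      (mem_img hQK1 _).mpr (hpreK e)⟩ : img Q K1)) ⟨fun e e' he => ?_, fun z => ?_⟩).symm
    · have h1 : (pre e)⁻¹ * pre e' ∈ Q :=
        mem_subgroupOf.mp (QuotientGroup.eq.mp (congrArg Subtype.val he))
      refine Subtype.ext ?_
      rw [← hpreu e, ← hpreu e', show pre e' = pre e * ((pre e)⁻¹ * pre e') by group,
        h.comm_mul_left (hK1M (hpreK e)) (hK1iff.mp (hQK1 h1)).2,
        commutatorElement_eq_one_iff_mul_comm.mpr (h.commute _ h1).eq, one_mul]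
    · obtain ⟨z, hz⟩ := z
      obtain ⟨x, hx, rfl⟩ := mem_img_iff.mp hz
      refine ⟨⟨_, (hK1iff.mp hx).2⟩, Subtype.ext (QuotientGroup.eq.mpr (mem_subgroupOf.mpr ?_))⟩
      have := hdiff hx (hpreK ⟨_, (hK1iff.mp hx).2⟩) (hpreu ⟨_, (hK1iff.mp hx).2⟩).symm
      exact this
  refine ⟨huH, K1, ?_, hcard⟩
  refine
    { two := (h.two.comap_of_injective _ H.subtype_injective).map π
      u_mem := mem_img_iff.mpr ⟨⟨u, huH⟩, h.u_mem, rfl⟩
      sq_u := by
        rw [← QuotientGroup.mk_mul, show (⟨u, huH⟩ : H) * ⟨u, huH⟩ = 1 from Subtype.ext h.sq_u,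
          QuotientGroup.mk_one]
      u_notMem := fun h1 => huK ((mem_img hQK1 _).mp h1).1
      comm := fun a b => Subtype.ext (by
        obtain ⟨x, hx, hxe⟩ := mem_img_iff.mp a.2
        obtain ⟨y, hy, hye⟩ := mem_img_iff.mp b.2
        push_cast
        rw [← hxe, ← hye, ← QuotientGroup.mk_mul, ← QuotientGroup.mk_mul]
        exact congrArg _ (Subtype.ext (congrArg Subtype.val (h.comm ⟨_, hx⟩ ⟨_, hy⟩) : (x : G) * y = y * x)))
      odd := by
        refine h.odd.of_dvd_nat ?_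
        rw [← Nat.card_congr (Subgroup.subgroupOfEquivOfLe hAH).toEquiv]
        exact Subgroup.card_map_dvd _ _
      fix := fun a ha => by
        obtain ⟨x, hx, rfl⟩ := mem_img_iff.mp ha
        rw [← QuotientGroup.mk_inv, ← QuotientGroup.mk_mul, ← QuotientGroup.mk_mul]
        exact congrArg _ (Subtype.ext (h.fix _ hx))
      normM := hnorm M h.normM
      normE := hnorm K1 hAK1
      le := map_mono (comap_mono hK1M)
      central := fun e he z hz => by
        obtain ⟨k, hk, rfl⟩ := mem_img_iff.mp he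
        obtain ⟨r, hr, rfl⟩ := mem_img_iff.mp hz
        refine (show Commute (r : H ⧸ Q.subgroupOf H) k from ?_).symm
        refine commutatorElement_eq_one_iff_mul_comm.mp ?_
        rw [← QuotientGroup.mk'_apply, ← QuotientGroup.mk'_apply, ← map_commutatorElement,
          QuotientGroup.mk'_apply, QuotientGroup.eq_one_iff]
        exact mem_subgroupOf.mpr (hcentral _ hk _ hr)
      sq := fun e he => by
        obtain ⟨k, hk, rfl⟩ := mem_img_iff.mp he
        rw [← QuotientGroup.mk_mul, QuotientGroup.eq_one_iff]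
        exact mem_subgroupOf.mpr (hsq _ hk)
      four_le := hcard ▸ h.four_le
      trans := fun e he he1 e' he' he'1 => by
        obtain ⟨k, hk, rfl⟩ := mem_img_iff.mp he
        obtain ⟨l, hl, rfl⟩ := mem_img_iff.mp he'
        have hne : ∀ {k : H}, (k : H ⧸ Q.subgroupOf H) ≠ 1 → (k : G) ∈ K1 → ⁅(k : G), u⁆ ≠ 1 :=
          fun {k} hk1 hkK e => hk1 ((QuotientGroup.eq_one_iff _).mpr (mem_subgroupOf.mpr
            (h.mem_Q_of_commute huK hkK.1 (commutatorElement_eq_one_iff_mul_comm.mp e))))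
        obtain ⟨a, ha, hae⟩ := h.trans _ (hK1iff.mp hk).2 (hne he1 hk)
          _ (hK1iff.mp hl).2 (hne he'1 hl)
        refine ⟨((⟨a, hAH ha⟩ : H) : H ⧸ Q.subgroupOf H), mem_img_iff.mpr ⟨_, ha, rfl⟩, ?_⟩
        rw [← QuotientGroup.mk_inv, ← QuotientGroup.mk_mul, ← QuotientGroup.mk_mul,
          QuotientGroup.eq]
        refine mem_subgroupOf.mpr ?_
        rw [h.conj_comm_u ha] at hae
        exact hdiff hl ((mem_normalizer_iff.mp (hAK1 ha) _).mp hk) hae.symm
      cent := fun z hz hzu => by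
        obtain ⟨r, hr, rfl⟩ := mem_img_iff.mp hz
        have h1 := commutatorElement_eq_one_iff_mul_comm.mpr hzu.eq
        rw [← QuotientGroup.mk'_apply, ← QuotientGroup.mk'_apply, ← map_commutatorElement,
          QuotientGroup.mk'_apply, QuotientGroup.eq_one_iff, mem_subgroupOf] at h1
        have h2 : ⁅(r : G), u⁆ ∈ E := h.comm_u_mem_E h1
        rcases h.mem_or_mul_mem hr with h3 | h3
        · exact Or.inl ((mem_img hQK1 _).mpr (hK1iff.mpr ⟨h3, h2⟩))
        · refine Or.inr ?_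
          rw [← QuotientGroup.mk_mul, mem_img hQK1]
          refine hK1iff.mpr ⟨h3, ?_⟩
          show ⁅(r : G) * u, u⁆ ∈ E
          rw [h.comm_mul_left hr (by rw [commutatorElement_self]; exact E.one_mem),
            commutatorElement_self, one_mul]
          exact h2 }

/-- Several layers with `Q` in the second centre: no element of `⁅M, A⁆` has a centraliser of
order at most `2 |Q|` there. -/
theorem not_small_of_le_zTwo [Finite G] (hs : Squaring Q E) (hQX : Q ≤ h.zTwo)
    (hmulti : u ∉ h.zTwo) {v : G} (hv : v ∈ ⁅M, A⁆) :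
    ¬ Nat.card (⁅M, A⁆ ⊓ centralizer {v} : Subgroup G) ≤ 2 * Nat.card Q := by
  intro hsmall
  obtain ⟨huH, R, htd, hcardE⟩ := h.exists_torusData hs hQX hmulti
  set K := ⁅M, A⁆ with hK
  have hKM : K ≤ M := h.commutator_le
  have hQK : Q ≤ K := h.Q_le_commutator
  set H := normalizer (Q : Set G) with hH
  have hMH : M ≤ H := h.M_le_normalizer_Q hQX
  set π := QuotientGroup.mk' (Q.subgroupOf H) with hπ
  have hKbar : img Q K = ⁅img Q M, img Q A⁆ := by
    rw [img, img, img, ← map_commutator]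
    congr 1
    apply map_injective H.subtype_injective
    rw [map_commutator, map_subgroupOf_eq_of_le hMH, map_subgroupOf_eq_of_le h.normQ,
      map_subgroupOf_eq_of_le (hKM.trans hMH)]
  set N := nxt (img Q M) (img Q M) with hN
  set N2 := nxt N (img Q M) with hN2
  have hcardK : Nat.card (img Q K) = Nat.card (img Q R) * Nat.card N := by
    rw [hKbar]; exact htd.frattini_data.1
  -- the commutators with `v`
  set T := (N2.comap π).map H.subtype ⊓ centralizer (Q : Set G) with hT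
  have hvmem : ∀ k ∈ K, ⁅k, v⁆ ∈ T := by
    intro k hk
    refine ⟨⟨⁅(⟨k, hMH (hKM hk)⟩ : H), (⟨v, hMH (hKM hv)⟩ : H)⁆, ?_, rfl⟩, mem_centralizer_iff.mpr fun q hq =>
      (h.commute_nxt (hQX hq) (comm_mem_nxt (hKM hk) (hKM hv))).symm.eq⟩
    show π _ ∈ N2
    rw [map_commutatorElement]
    refine htd.commutator_mem_nxt_nxt ?_ ?_ <;> rw [← hKbar]
    exacts [(mem_img hQK _).mpr hk, (mem_img hQK _).mpr hv]
  have hTcard : Nat.card T ≤ Nat.card E * Nat.card N2 := by
    have hTH : T ≤ H := fun t ht => by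
      obtain ⟨x, -, rfl⟩ := ht.1
      exact x.2
    let θ : T →* H ⧸ Q.subgroupOf H := π.comp (Subgroup.inclusion hTH)
    have hrange : Nat.card θ.range ≤ Nat.card N2 := card_le_of_le fun z ⟨t, ht⟩ => by
      obtain ⟨x, hx, hxe⟩ := t.2.1
      rw [← ht]
      show π (Subgroup.inclusion hTH t) ∈ N2
      rw [show Subgroup.inclusion hTH t = x from Subtype.ext hxe.symm]
      exact hx
    have hker : Nat.card θ.ker ≤ Nat.card E := by
      refine Nat.card_le_card_of_injective (fun t => (⟨((t : T) : G), ?_⟩ : E)) fun a b e => ?_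
      · have h1 : ((t : T) : G) ∈ Q := by
          have h2 := t.2
          exact mem_subgroupOf.mp ((QuotientGroup.eq_one_iff (Subgroup.inclusion hTH _)).mp h2)
        refine h.abelian_le (Or.inl hs) (B := Q ⊓ centralizer (Q : Set G)) inf_le_left ?_
          (le_inf h.le_E fun e he => mem_centralizer_iff.mpr fun q hq =>
            ((h.central e he q (h.le hq)).symm).eq)
          (fun a ha b hb => (mem_centralizer_iff.mp hb.2 a ha.1)) ⟨h1, (t : T).2.2⟩
        refine Cfsg.Agent.H51.Asch.inf_norm h.normQ (le_normalizer_iff.mpr fun a ha c hc => ?_)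
        refine mem_centralizer_iff.mpr fun q hq => ?_
        have h1 := mem_centralizer_iff.mp hc _
          ((mem_normalizer_iff.mp (h.normQ (inv_mem ha)) q).mp hq)
        have h2 := commute_conj (show Commute _ c from h1) a
        rw [show a * (a⁻¹ * q * a⁻¹⁻¹) * a⁻¹ = q by group] at h2
        exact h2.eq
      · exact Subtype.ext (Subtype.ext (congrArg (fun z : E => (z : G)) e :))
    have h1 := θ.ker.card_mul_index
    rw [Subgroup.index_ker] at h1
    rw [← h1]
    exact Nat.mul_le_mul hker hrange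
  have hcnt := (card_le_centralized_mul (K := K) (T := T) v hvmem).1
  have h1 : Nat.card E * Nat.card N ≤ 2 * (Nat.card E * Nat.card N2) := by
    refine Nat.le_of_mul_le_mul_left ?_ (Nat.card_pos (α := Q))
    calc Nat.card Q * (Nat.card E * Nat.card N) = Nat.card K := by
          rw [card_img hQK (hKM.trans hMH), hcardK, hcardE]
      _ ≤ _ := hcnt
      _ ≤ 2 * Nat.card Q * (Nat.card E * Nat.card N2) := Nat.mul_le_mul hsmall hTcard
      _ = _ := by ring
  have hne : N ≠ ⊥ := by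
    intro hbot
    refine hmulti ⟨h.u_mem, fun r hr => h.comm_u_mem_E ?_⟩
    have h2 := comm_mem_nxt (mem_img_iff.mpr ⟨⟨r, hMH hr⟩, hr, rfl⟩ :
      _ ∈ img Q M) htd.u_mem
    rw [← hN, hbot, mem_bot, ← QuotientGroup.mk'_apply, ← QuotientGroup.mk'_apply,
      ← map_commutatorElement, QuotientGroup.mk'_apply, QuotientGroup.eq_one_iff,
      mem_subgroupOf] at h2
    exact h2
  have hlt : N2 < N := nxt_lt htd.two (nxt_le le_normalizer) (norm_nxt le_normalizer le_normalizer) hne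
  obtain ⟨g, hg, hgN⟩ := SetLike.exists_of_lt hlt
  have h2 := (htd.card_mul_le (S := N2) (K := N) hlt.le (nxt_le le_normalizer)
    (norm_nxt (norm_nxt htd.normM htd.normM) htd.normM) (norm_nxt htd.normM htd.normM)
    (Or.inr fun h3 => htd.u_notMem_commutator (htd.nxt_le_commutator h3)) hg hgN).1
  rw [hcardE] at h2
  have h4 := h.four_le
  have hpos : 0 < Nat.card N2 := Nat.card_pos
  have h5 : Nat.card E * Nat.card N ≤ 2 * Nat.card N :=
    h1.trans (Nat.mul_le_mul_left 2 h2)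
  have := Nat.le_of_mul_le_mul_right h5 Nat.card_pos
  omega

end ShapeData

end Cfsg.Agent.H14.Asch
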