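import Cfsg.Agent.H51.Asch.Top
import Cfsg.Agent.H14.Asch.RankOne

/-!
The lines of shape two and three (notes/aschbacher.md v3, P4): a `2`-group `M` with an odd
commutative group `A` fixing an involution `u` with `C_M(u) = Q⟨u⟩`, where `Q` has its involutions,
squares and commutators in a central elementary group `E`. The involution `u` lies outside
`⁅M, A⁆`.
-/

set_option autoImplicit false
set_option linter.style.haveILetI false
set_option linter.unusedSectionVars false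

namespace Cfsg.Agent.H14.Asch

open Subgroup
open Cfsg.Agent.H51.Asch (nxt nxt_le nxt_lt norm_nxt comm_mem_nxt sq_mem_nxt TorusData)
open scoped commutatorElement Classical

universe u

variable {G : Type u} [Group G]

/-- The configuration. -/
structure ShapeData (M Q E A : Subgroup G) (u : G) : Prop where
  two : IsPGroup 2 M
  u_mem : u ∈ M
  sq_u : u * u = 1
  u_notMem : u ∉ Q
  comm : ∀ a b : A, a * b = b * a
  odd : Odd (Nat.card A)
  fix : ∀ a ∈ A, a * u * a⁻¹ = u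
  normM : A ≤ normalizer (M : Set G)
  normE : A ≤ normalizer (E : Set G)
  normQ : A ≤ normalizer (Q : Set G)
  le_E : E ≤ Q
  le : Q ≤ M
  central : ∀ e ∈ E, ∀ g ∈ M, Commute e g
  sq : ∀ e ∈ E, e * e = 1
  four_le : 4 ≤ Nat.card E
  trans : ∀ e ∈ E, e ≠ 1 → ∀ e' ∈ E, e' ≠ 1 → ∃ a ∈ A, a * e * a⁻¹ = e'
  commute : ∀ g ∈ Q, Commute g u
  omega : ∀ g ∈ Q, g * g = 1 → g ∈ E
  sq_mem : ∀ g ∈ Q, g * g ∈ E
  comm_mem : ∀ g ∈ Q, ∀ k ∈ Q, ⁅g, k⁆ ∈ E
  cent : ∀ g ∈ M, Commute g u → g ∈ Q ∨ g * u ∈ Q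

/-- Squaring is injective on `Q / E` and no element outside `E` has fewer than two non-trivial
commutators. -/
structure Squaring (Q E : Subgroup G) : Prop where
  inj : ∀ g ∈ Q, ∀ k ∈ Q, g * g = k * k → g * k⁻¹ ∈ E
  rank : ∀ g ∈ Q, g ∉ E → ∃ k ∈ Q, ∃ l ∈ Q, ⁅g, k⁆ ≠ 1 ∧ ⁅g, l⁆ ≠ 1 ∧ ⁅g, k⁆ ≠ ⁅g, l⁆

/-- Some element of `A` centralises `E` and has no other fixed point in `Q`. -/
def Twisted (A E Q : Subgroup G) : Prop :=
  ∃ a ∈ A, (∀ e ∈ E, Commute a e) ∧ ∀ g ∈ Q, Commute a g → g ∈ E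

/-- A normal subgroup outside `S` has an element outside `S` with all its commutators in `S`. -/
theorem exists_mem_layer [Finite G] {M K S : Subgroup G} (hM : IsPGroup 2 M) (hKM : K ≤ M)
    (hMK : M ≤ normalizer (K : Set G)) (hKS : ¬ K ≤ S) :
    ∃ g ∈ K, g ∉ S ∧ ∀ r ∈ M, ⁅r, g⁆ ∈ S := by
  haveI : Fact (Nat.Prime 2) := ⟨Nat.prime_two⟩
  induction K using WellFoundedLT.induction with
  | ind K ih =>
    have hne : K ≠ ⊥ := fun e => hKS (e ▸ bot_le)
    have hlt := Coprime.commutator_lt_of_isPGroup (hM.to_le hKM) hM hMK hne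
    by_cases hle : ⁅K, M⁆ ≤ S
    · obtain ⟨g, hg, hgS⟩ := SetLike.not_le_iff_exists.mp hKS
      refine ⟨g, hg, hgS, fun r hr => ?_⟩
      rw [← commutatorElement_inv]
      exact inv_mem (hle (commutator_mem_commutator hg hr))
    · obtain ⟨g, hg, h1⟩ :=
        ih _ hlt (hlt.le.trans hKM) (normalizer_commutator_ge_right K M) hle
      exact ⟨g, hlt.le hg, h1⟩

/-- An odd element whose commutator with `g` squares to `1` and is fixed fixes `g`. -/
theorem commute_of_sq_commutator [Finite G] {a g : G} (ha : Odd (orderOf a))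
    (ht : g⁻¹ * (a * g * a⁻¹) * (g⁻¹ * (a * g * a⁻¹)) = 1)
    (hat : Commute a (g⁻¹ * (a * g * a⁻¹))) : Commute a g := by
  set t := g⁻¹ * (a * g * a⁻¹) with htdef
  have hpow : ∀ n : ℕ, a ^ n * g * (a ^ n)⁻¹ = g * t ^ n := by
    intro n
    induction n with
    | zero => simp
    | succ n ih =>
      calc a ^ (n + 1) * g * (a ^ (n + 1))⁻¹ = a * (a ^ n * g * (a ^ n)⁻¹) * a⁻¹ := by
            rw [pow_succ']; group
        _ = a * g * a⁻¹ * (a * t ^ n * a⁻¹) := by rw [ih]; group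
        _ = a * g * a⁻¹ * t ^ n := by rw [(hat.pow_right n).eq, mul_inv_cancel_right]
        _ = g * t * t ^ n := by rw [htdef, mul_inv_cancel_left]
        _ = g * t ^ (n + 1) := by rw [pow_succ', mul_assoc]
  have h1 := hpow (orderOf a)
  rw [pow_orderOf_eq_one, one_mul, inv_one, mul_one] at h1
  obtain ⟨k, hk⟩ := ha
  rw [hk, pow_succ, pow_mul, pow_two, ht, one_pow, one_mul] at h1
  have ht1 : t = 1 := mul_left_cancel (h1.symm.trans (mul_one g).symm)
  have h2 := hpow 1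
  rw [pow_one, pow_one, ht1, mul_one] at h2
  exact mul_inv_eq_iff_eq_mul.mp h2

namespace ShapeData

variable {M Q E A : Subgroup G} {u : G} (h : ShapeData M Q E A u)
include h

theorem inv_u : u⁻¹ = u := inv_eq_of_mul_eq_one_right h.sq_u

theorem u_notMem_E : u ∉ E := fun hu => h.u_notMem (h.le_E hu)

theorem le_M : E ≤ M := h.le_E.trans h.le

theorem inv_E {e : G} (he : e ∈ E) : e⁻¹ = e := inv_eq_of_mul_eq_one_right (h.sq e he)

theorem conj_E {r : G} (hr : r ∈ M) {e : G} (he : e ∈ E) : r * e * r⁻¹ = e := by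
  rw [← (h.central e he r hr).eq, mul_inv_cancel_right]

theorem exists_ne_one : ∃ e ∈ E, e ≠ 1 := by
  by_contra hc
  push Not at hc
  have : E = ⊥ := (eq_bot_iff_forall _).mpr hc
  have h4 := h.four_le
  rw [this, card_bot] at h4
  omega

theorem exists_moving [Finite G] : ∃ a ∈ A, ∃ e ∈ E, a * e * a⁻¹ ≠ e := by
  obtain ⟨e, he, he1⟩ := h.exists_ne_one
  obtain ⟨e', he', he'1, hne⟩ : ∃ e' ∈ E, e' ≠ 1 ∧ e' ≠ e := by
    by_contra hc
    push Not at hc
    have : Nat.card E ≤ 2 := by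
      refine le_trans (Nat.card_le_card_of_injective
        (fun x : E => decide ((x : G) = 1)) fun x x' hx => ?_) (by simp)
      by_cases hx1 : (x : G) = 1
      · simp only [hx1, decide_true] at hx
        exact Subtype.ext (hx1.trans (of_decide_eq_true hx.symm).symm)
      · simp only [hx1, decide_false] at hx
        exact Subtype.ext ((hc x x.2 hx1).trans
          (hc x' x'.2 (of_decide_eq_false hx.symm)).symm)
    have := h.four_le
    omega
  obtain ⟨a, ha, hae⟩ := h.trans e he he1 e' he' he'1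
  exact ⟨a, ha, e, he, fun hfx => hne (hae.symm.trans hfx)⟩

theorem fixed_of_fix_one {a : G} (ha : a ∈ A) {e : G} (he : e ∈ E) (he1 : e ≠ 1)
    (hfix : a * e * a⁻¹ = e) {e' : G} (he' : e' ∈ E) : a * e' * a⁻¹ = e' := by
  by_cases h1 : e' = 1
  · rw [h1]; group
  obtain ⟨c, hc, rfl⟩ := h.trans e he he1 e' he' h1
  have hac : a * c = c * a := congrArg Subtype.val (h.comm ⟨a, ha⟩ ⟨c, hc⟩)
  calc a * (c * e * c⁻¹) * a⁻¹ = (a * c) * e * (a * c)⁻¹ := by group
    _ = (c * a) * e * (c * a)⁻¹ := by rw [hac]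
    _ = c * (a * e * a⁻¹) * c⁻¹ := by group
    _ = _ := by rw [hfix]

theorem odd_orderOf [Finite G] {a : G} (ha : a ∈ A) : Odd (orderOf a) :=
  h.odd.of_dvd_nat (Subgroup.orderOf_dvd_natCard A ha)

theorem coprime_zpowers [Finite G] {a : G} (ha : a ∈ A) :
    (Nat.card (zpowers a)).Coprime (Nat.card M) := by
  haveI : Fact (Nat.Prime 2) := ⟨Nat.prime_two⟩
  obtain ⟨n, hn⟩ := IsPGroup.iff_card.mp h.two
  rw [hn, Nat.card_zpowers]
  exact (Nat.coprime_two_right.mpr (h.odd_orderOf ha)).pow_right n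

theorem coprime_all [Finite G] : (Nat.card A).Coprime (Nat.card M) := by
  haveI : Fact (Nat.Prime 2) := ⟨Nat.prime_two⟩
  obtain ⟨n, hn⟩ := IsPGroup.iff_card.mp h.two
  rw [hn]
  exact (Nat.coprime_two_right.mpr h.odd).pow_right n

theorem isSolvable [Finite G] : Group.IsSolvable M := by
  haveI : Fact (Nat.Prime 2) := ⟨Nat.prime_two⟩
  haveI := h.two.isNilpotent
  infer_instance

theorem zpowers_u_cases {x : G} (hx : x ∈ zpowers u) : x = 1 ∨ x = u := by
  obtain ⟨i, rfl⟩ := mem_zpowers_iff.mp hx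
  rcases Int.even_or_odd i with ⟨j, rfl⟩ | ⟨j, rfl⟩
  · left; rw [← two_mul, zpow_mul, zpow_two, h.sq_u, one_zpow]
  · right; rw [zpow_add, zpow_mul, zpow_two, h.sq_u, one_zpow, one_mul, zpow_one]

/-- The fixed points of an element of `A` moving `E`. -/
theorem eq_one_or_eq [Finite G] {a : G} (ha : a ∈ A) {e : G} (he : e ∈ E)
    (hmove : a * e * a⁻¹ ≠ e) {c : G} (hc : c ∈ M) (hca : a * c * a⁻¹ = c) : c = 1 ∨ c = u := by
  haveI : Fact (Nat.Prime 2) := ⟨Nat.prime_two⟩
  have hau : Commute a u := mul_inv_eq_iff_eq_mul.mp (h.fix a ha)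
  have hfree : ∀ x ∈ E, a * x * a⁻¹ = x → x = 1 := fun x hx hfx => by
    by_contra hx1
    exact hmove (h.fixed_of_fix_one ha hx hx1 hfx he)
  have hfreeQ : ∀ x ∈ Q, a * x * a⁻¹ = x → x = 1 := fun x hx hfx => by
    have h1 : x * x = 1 := hfree _ (h.sq_mem x hx) (by
      rw [show a * (x * x) * a⁻¹ = a * x * a⁻¹ * (a * x * a⁻¹) by group, hfx])
    exact hfree x (h.omega x hx h1) hfx
  set X := M ⊓ centralizer ({a} : Set G) with hX
  refine h.zpowers_u_cases ?_
  by_contra hcn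
  have hne : (zpowers u).subgroupOf X ≠ ⊤ := fun e1 =>
    hcn (subgroupOf_eq_top.mp e1
      ⟨hc, mem_centralizer_singleton_iff.mpr (mul_inv_eq_iff_eq_mul.mp hca).symm⟩)
  obtain ⟨y, hy, hyn⟩ := SetLike.exists_of_lt
    (PGroups.lt_normalizer (h.two.to_le inf_le_left) hne)
  have huX : u ∈ X := ⟨h.u_mem, mem_centralizer_singleton_iff.mpr hau.symm.eq⟩
  have hyu : Commute (y : G) u := by
    have h1 := (mem_normalizer_iff.mp hy ⟨u, huX⟩).mp (mem_zpowers u)
    rcases h.zpowers_u_cases h1 with h2 | h2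
    · exfalso
      have h3 : (y : G) * u * (y : G)⁻¹ = 1 := h2
      rw [conj_eq_one_iff] at h3
      exact h.u_notMem (h3 ▸ Q.one_mem)
    · exact mul_inv_eq_iff_eq_mul.mp h2
  have hya : a * (y : G) * a⁻¹ = y := by
    rw [← mem_centralizer_singleton_iff.mp y.2.2, mul_inv_cancel_right]
  apply hyn
  show (y : G) ∈ zpowers u
  rcases h.cent y y.2.1 hyu with h1 | h1
  · rw [hfreeQ y h1 hya]; exact one_mem _
  · have h2 : (y : G) * u = 1 := hfreeQ _ h1 (by
      rw [show a * ((y : G) * u) * a⁻¹ = (a * y * a⁻¹) * (a * u * a⁻¹) by group, hya, h.fix a ha])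
    rw [eq_inv_of_mul_eq_one_left h2, h.inv_u]
    exact mem_zpowers u

theorem eq_one_or_eq_of_centralized [Finite G] {c : G} (hc : c ∈ M)
    (hca : ∀ a ∈ A, a * c * a⁻¹ = c) : c = 1 ∨ c = u := by
  obtain ⟨a, ha, e, he, hmove⟩ := h.exists_moving
  exact h.eq_one_or_eq ha he hmove hc (hca a ha)

/-- An `A`-invariant subgroup of `C_M(u)` without `u` lies in `Q`. -/
theorem le_Q [Finite G] {S : Subgroup G} (hSM : S ≤ M) (hAS : A ≤ normalizer (S : Set G))
    (hSu : ∀ g ∈ S, Commute g u) (hu : u ∉ S) : S ≤ Q := by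
  intro g hg
  rcases h.cent g (hSM hg) (hSu g hg) with h1 | h1
  · exact h1
  obtain ⟨c, hc, hcs⟩ := Coprime.exists_centralizer_mem_coset (h.normM) h.coprime_all
    (Or.inr h.isSolvable) (N := S ⊓ Q) (inf_le_left.trans hSM)
    (Cfsg.Agent.H51.Asch.inf_norm hAS h.normQ) (hSM hg) fun a ha => by
      have hga : a * g * a⁻¹ ∈ S := (mem_normalizer_iff.mp (hAS ha) g).mp hg
      refine ⟨S.mul_mem (inv_mem hg) hga, ?_⟩
      have h2 : a * g * a⁻¹ * u ∈ Q := by
        have h3 := (mem_normalizer_iff.mp (h.normQ ha) _).mp h1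
        rwa [show a * (g * u) * a⁻¹ = a * g * a⁻¹ * (a * u * a⁻¹) by group, h.fix a ha] at h3
      have h4 := Q.mul_mem (inv_mem h1) h2
      rwa [show (g * u)⁻¹ * (a * g * a⁻¹ * u) = u⁻¹ * (g⁻¹ * (a * g * a⁻¹) * u) by group,
        ((hSu g hg).inv_left.mul_left (hSu _ hga)).eq, inv_mul_cancel_left] at h4
  have hcS : c ∈ S := by
    have := S.mul_mem hg hcs.1
    rwa [mul_inv_cancel_left] at this
  rcases h.eq_one_or_eq_of_centralized hc.1 (fun a ha => by
    rw [mem_centralizer_iff.mp hc.2 a ha, mul_inv_cancel_right]) with rfl | rfl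
  · rw [mul_one] at hcs
    exact inv_mem_iff.mp hcs.2
  · exact absurd hcS hu

/-- If `u ∈ ⁅M, A⁆` then `u` lies in the Frattini part. -/
theorem mem_nxt_of_mem_commutator [Finite G] (hu : u ∈ ⁅M, A⁆) : u ∈ nxt M M := by
  have hQM : ⁅M, A⁆ ≤ M := Coprime.commutator_le_left_of_normalizer h.normM
  have hMeq : ⁅M, A⁆ = M := by
    refine le_antisymm hQM ?_
    conv_lhs => rw [← Coprime.commutator_sup_centralizer h.normM h.coprime_all (Or.inr h.isSolvable)]
    refine sup_le le_rfl fun c hc => ?_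
    rcases h.eq_one_or_eq_of_centralized hc.1 (fun a ha => by
      rw [mem_centralizer_iff.mp hc.2 a ha, mul_inv_cancel_right]) with rfl | rfl
    · exact one_mem _
    · exact hu
  have h1 := Cfsg.Agent.H51.Asch.fpf_self (P := A) (Q := M) h.normM hMeq u h.u_mem
  have hev : ∀ l : List A, Cfsg.Agent.H51.Asch.ev l u = u ^ l.length := fun l => by
    induction l with
    | nil => simp [Cfsg.Agent.H51.Asch.ev]
    | cons b l ih => rw [Cfsg.Agent.H51.Asch.ev_cons, ih, h.fix b b.2, List.length_cons, pow_succ']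
  rw [hev, Cfsg.Agent.H51.Asch.length_elems] at h1
  obtain ⟨k, hk⟩ := h.odd
  rwa [hk, pow_succ, pow_mul, pow_two, h.sq_u, one_pow, one_mul] at h1

/-- The elements of `M` with all their commutators in `E`. -/
def zTwo : Subgroup G where
  carrier := {g | g ∈ M ∧ ∀ r ∈ M, ⁅r, g⁆ ∈ E}
  one_mem' := ⟨M.one_mem, fun r _ => by rw [commutatorElement_one_right]; exact E.one_mem⟩
  mul_mem' := by
    rintro a b ⟨ha, ha'⟩ ⟨hb, hb'⟩
    refine ⟨M.mul_mem ha hb, fun r hr => ?_⟩
    have e : ⁅r, a * b⁆ = ⁅r, a⁆ * (a * ⁅r, b⁆ * a⁻¹) := by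
      simp [commutatorElement_def, mul_assoc]
    rw [e, h.conj_E ha (hb' r hr)]
    exact E.mul_mem (ha' r hr) (hb' r hr)
  inv_mem' := by
    rintro a ⟨ha, ha'⟩
    refine ⟨M.inv_mem ha, fun r hr => ?_⟩
    have e : ⁅r, a⁻¹⁆ = a⁻¹ * ⁅r, a⁆⁻¹ * a⁻¹⁻¹ := by
      simp [commutatorElement_def, mul_assoc]
    rw [e, h.conj_E (M.inv_mem ha) (inv_mem (ha' r hr))]
    exact inv_mem (ha' r hr)

theorem mem_zTwo {g : G} : g ∈ h.zTwo ↔ g ∈ M ∧ ∀ r ∈ M, ⁅r, g⁆ ∈ E := Iff.rfl

theorem zTwo_le : h.zTwo ≤ M := fun _ hg => hg.1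

theorem E_le_zTwo : E ≤ h.zTwo := fun e he => ⟨h.le_M he, fun r hr => by
  rw [commutatorElement_def, h.conj_E hr he, mul_inv_cancel]; exact E.one_mem⟩

theorem conj_zTwo {r g : G} (hr : r ∈ M) (hg : g ∈ h.zTwo) : r * g * r⁻¹ ∈ h.zTwo := by
  have e : r * g * r⁻¹ = ⁅r, g⁆ * g := by simp [commutatorElement_def]
  rw [e]
  exact mul_mem (h.E_le_zTwo (hg.2 r hr)) hg

theorem normA_zTwo : A ≤ normalizer (h.zTwo : Set G) := by
  refine le_normalizer_iff.mpr fun a ha g hg => ⟨(mem_normalizer_iff.mp (h.normM ha) g).mp hg.1,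
    fun r hr => ?_⟩
  have hr' : a⁻¹ * r * a ∈ M := by
    have := (mem_normalizer_iff.mp (h.normM (inv_mem ha)) r).mp hr
    rwa [inv_inv] at this
  rw [show ⁅r, a * g * a⁻¹⁆ = a * ⁅a⁻¹ * r * a, g⁆ * a⁻¹ by simp [commutatorElement_def, mul_assoc]]
  exact (mem_normalizer_iff.mp (h.normE ha) _).mp (hg.2 _ hr')

/-- The Frattini part centralises the elements with all their commutators in `E`. -/
theorem commute_nxt {g : G} (hg : g ∈ h.zTwo) {n : G} (hn : n ∈ nxt M M) : Commute n g := by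
  have hmul : ∀ {r s}, r ∈ M → s ∈ M → ⁅r * s, g⁆ = ⁅s, g⁆ * ⁅r, g⁆ := fun {r s} hr hs => by
    have e : ⁅r * s, g⁆ = r * ⁅s, g⁆ * r⁻¹ * ⁅r, g⁆ := by simp [commutatorElement_def, mul_assoc]
    rw [e, h.conj_E hr (hg.2 s hs)]
  let S : Subgroup G :=
    { carrier := {r | r ∈ M ∧ ⁅r, g⁆ = 1}
      one_mem' := ⟨M.one_mem, commutatorElement_one_left g⟩
      mul_mem' := fun {a b} ha hb => ⟨M.mul_mem ha.1 hb.1, by
        rw [hmul ha.1 hb.1, ha.2, hb.2, one_mul]⟩
      inv_mem' := fun {a} ha => ⟨M.inv_mem ha.1, by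
        have h1 := hmul (M.inv_mem ha.1) ha.1
        rwa [inv_mul_cancel, commutatorElement_one_left, ha.2, one_mul, eq_comm] at h1⟩ }
  have hsq : ∀ {r}, r ∈ M → r * r ∈ S := fun {r} hr =>
    ⟨M.mul_mem hr hr, by rw [hmul hr hr, h.sq _ (hg.2 r hr)]⟩
  have hle : nxt M M ≤ S := by
    refine sup_le (Subgroup.commutator_le.mpr fun x hx y hy => ?_) ((closure_le _).mpr ?_)
    · have e : ⁅x, y⁆ = x * x * (x⁻¹ * y * (x⁻¹ * y)) * (y⁻¹ * y⁻¹) := by
        rw [commutatorElement_def]; group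
      rw [e]
      exact mul_mem (mul_mem (hsq hx) (hsq (mul_mem (inv_mem hx) hy))) (hsq (inv_mem hy))
    · rintro _ ⟨x, hx, rfl⟩
      exact hsq hx
  exact commutatorElement_eq_one_iff_mul_comm.mp (hle hn).2

/-- The squares generate the Frattini part. -/
theorem nxt_le_of_sq {S : Subgroup G} (hsq : ∀ g ∈ M, g * g ∈ S) : nxt M M ≤ S := by
  refine sup_le (Subgroup.commutator_le.mpr fun x hx y hy => ?_) ((closure_le _).mpr ?_)
  · have e : ⁅x, y⁆ = x * x * (x⁻¹ * y * (x⁻¹ * y)) * (y⁻¹ * y⁻¹) := by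
      rw [commutatorElement_def]; group
    rw [e]
    exact mul_mem (mul_mem (hsq x hx) (hsq _ (mul_mem (inv_mem hx) hy))) (hsq _ (inv_mem hy))
  · rintro _ ⟨x, hx, rfl⟩
    exact hsq x hx

/-! ### The shape with squaring injective -/

/-- An `A`-invariant subgroup with an element of `Q` outside `E` contains `Q`. -/
theorem Q_le_of_mem (hs : Squaring Q E) {S : Subgroup G} (hAS : A ≤ normalizer (S : Set G))
    (hES : E ≤ S) {g : G} (hgS : g ∈ S) (hgQ : g ∈ Q) (hgE : g ∉ E) : Q ≤ S := by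
  intro k hk
  by_cases hkE : k ∈ E
  · exact hES hkE
  obtain ⟨a, ha, hae⟩ := h.trans _ (h.sq_mem g hgQ) (fun e => hgE (h.omega g hgQ e))
    _ (h.sq_mem k hk) (fun e => hkE (h.omega k hk e))
  have hgQ' := (mem_normalizer_iff.mp (h.normQ ha) g).mp hgQ
  have h1 := hs.inj _ hgQ' k hk (by rw [← hae]; group)
  have h2 := S.mul_mem (inv_mem (hES h1)) ((mem_normalizer_iff.mp (hAS ha) g).mp hgS)
  simpa [mul_assoc] using h2

/-- An element of `Q` fixed modulo `E` by a twist lies in `E`. -/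
theorem mem_E_of_commute_conj [Finite G] {a : G} (ha : a ∈ A) (haE : ∀ e ∈ E, Commute a e)
    (haQ : ∀ g ∈ Q, Commute a g → g ∈ E) {g : G} (hg : g ∈ Q)
    (hc : Commute g (a * g * a⁻¹)) : g ∈ E := by
  have hgQ' := (mem_normalizer_iff.mp (h.normQ ha) g).mp hg
  set t := g⁻¹ * (a * g * a⁻¹) with ht
  have htQ : t ∈ Q := Q.mul_mem (inv_mem hg) hgQ'
  have ht2 : t * t = 1 := by
    have h2 : a * g * a⁻¹ * (a * g * a⁻¹) = g * g := by
      rw [show a * g * a⁻¹ * (a * g * a⁻¹) = a * (g * g) * a⁻¹ by group,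
        (haE _ (h.sq_mem g hg)).eq, mul_inv_cancel_right]
    rw [ht, hc.inv_left.symm.mul_mul_mul_comm, h2]
    group
  exact haQ g hg (commute_of_sq_commutator (h.odd_orderOf ha) ht2 (haE t (h.omega t htQ ht2)))

/-- A commutative `A`-invariant subgroup of `Q` lies in `E`. -/
theorem abelian_le [Finite G] (hs : Squaring Q E ∨ Twisted A E Q) {B : Subgroup G} (hBQ : B ≤ Q)
    (hAB : A ≤ normalizer (B : Set G)) (hEB : E ≤ B) (hc : ∀ g ∈ B, ∀ k ∈ B, Commute g k) :
    B ≤ E := by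
  intro g hg
  by_contra hgE
  rcases hs with hs | ⟨a, ha, haE, haQ⟩
  · obtain ⟨k, hk, -, -, h1, -, -⟩ := hs.rank g (hBQ hg) hgE
    have hkB := h.Q_le_of_mem hs hAB hEB hg (hBQ hg) hgE hk
    exact h1 (commutatorElement_eq_one_iff_mul_comm.mpr (hc g hg k hkB))
  · exact hgE (h.mem_E_of_commute_conj ha haE haQ (hBQ hg)
      (hc g hg _ ((mem_normalizer_iff.mp (hAB ha) g).mp hg)))

/-- The first layer with squaring injective is elementary modulo `E`. -/
theorem sq_mem_E_of_layer (hs : Squaring Q E) (hu : ∀ g ∈ M, ⁅g, u⁆ ∈ E) :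
    ∀ g ∈ M, g * g ∈ E := by
  intro g hg
  set e := ⁅g, u⁆ with hedef
  have he : e ∈ E := hu g hg
  have hgu : g * u * g⁻¹ = e * u := by rw [hedef, commutatorElement_def, inv_mul_cancel_right]
  -- the conjugates of `b ∈ Q`
  have hb : ∀ b ∈ Q, ∃ d ∈ E, g * b * g⁻¹ = b * d ∨ g * b * g⁻¹ = b * d * u := by
    intro b hb
    have hbM : g * b * g⁻¹ ∈ M := M.mul_mem (M.mul_mem hg (h.le hb)) (inv_mem hg)
    have hcu : Commute (g * b * g⁻¹) u := by
      have h1 : Commute (g * b * g⁻¹) (g * u * g⁻¹) := commute_conj (h.commute b hb) g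
      rw [hgu] at h1
      have h2 := ((h.central e he _ hbM).symm.inv_right).mul_right h1
      rwa [inv_mul_cancel_left] at h2
    have hsq : g * b * g⁻¹ * (g * b * g⁻¹) = b * b := by
      rw [show g * b * g⁻¹ * (g * b * g⁻¹) = g * (b * b) * g⁻¹ by group,
        h.conj_E hg (h.sq_mem b hb)]
    rcases h.cent _ hbM hcu with h1 | h1
    · refine ⟨_, hs.inj _ h1 b hb hsq, Or.inl ?_⟩
      rw [← (h.central _ (hs.inj _ h1 b hb hsq) b (h.le hb)).eq, inv_mul_cancel_right]
    · have hsq' : g * b * g⁻¹ * u * (g * b * g⁻¹ * u) = b * b := by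
        rw [hcu.symm.mul_mul_mul_comm, h.sq_u, mul_one, hsq]
      refine ⟨_, hs.inj _ h1 b hb hsq', Or.inr ?_⟩
      rw [← (h.central _ (hs.inj _ h1 b hb hsq') b (h.le hb)).eq, inv_mul_cancel_right,
        mul_assoc (g * b * g⁻¹), h.sq_u, mul_one]
  -- so the commutators with `g * g` have rank at most one
  have hgg : ∀ b ∈ Q, ⁅g * g, b⁆ = 1 ∨ ⁅g * g, b⁆ = e := by
    intro b hb'
    have hbM := h.le hb'
    obtain ⟨d, hd, h1 | h1⟩ := hb b hb'
    · left
      have h2 : g * g * b * (g * g)⁻¹ = b := by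
        calc g * g * b * (g * g)⁻¹ = g * (g * b * g⁻¹) * g⁻¹ := by group
          _ = g * (b * d) * g⁻¹ := by rw [h1]
          _ = g * b * g⁻¹ * (g * d * g⁻¹) := by group
          _ = b := by rw [h1, h.conj_E hg hd, mul_assoc, h.sq d hd, mul_one]
      rw [commutatorElement_def, h2, mul_inv_cancel]
    · right
      have h2 : g * g * b * (g * g)⁻¹ = e * b := by
        calc g * g * b * (g * g)⁻¹ = g * (g * b * g⁻¹) * g⁻¹ := by group
          _ = g * (b * d * u) * g⁻¹ := by rw [h1]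
          _ = g * b * g⁻¹ * (g * d * g⁻¹) * (g * u * g⁻¹) := by group
          _ = b * d * (u * d) * (e * u) := by rw [h1, h.conj_E hg hd, hgu]; group
          _ = b * d * (d * u) * (e * u) := by rw [(h.central d hd u h.u_mem).eq]
          _ = b * (d * d) * (u * e) * u := by group
          _ = b * (e * (u * u)) := by
            rw [h.sq d hd, mul_one, ← (h.central e he u h.u_mem).eq]; group
          _ = e * b := by rw [h.sq_u, mul_one, (h.central e he b hbM).eq]
      rw [commutatorElement_def, h2, mul_inv_cancel_right]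
  -- `g * g` commutes with `u`
  have hggu : Commute (g * g) u := by
    refine mul_inv_eq_iff_eq_mul.mp ?_
    calc g * g * u * (g * g)⁻¹ = g * (g * u * g⁻¹) * g⁻¹ := by group
      _ = g * (e * u) * g⁻¹ := by rw [hgu]
      _ = g * e * g⁻¹ * (g * u * g⁻¹) := by group
      _ = u := by rw [h.conj_E hg he, hgu, ← mul_assoc, h.sq e he, one_mul]
  have key : ∀ q ∈ Q, (∀ b ∈ Q, ⁅g * g, b⁆ = ⁅q, b⁆) → q ∈ E := by
    intro q hq hq'
    by_contra hqE
    obtain ⟨k, hk, l, hl, hk1, hl1, hne⟩ := hs.rank q hq hqE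
    rw [← hq' k hk] at hk1 hne
    rw [← hq' l hl] at hl1 hne
    exact hne (((hgg k hk).resolve_left hk1).trans ((hgg l hl).resolve_left hl1).symm)
  rcases h.cent _ (M.mul_mem hg hg) hggu with h1 | h1
  · exact key _ h1 fun _ _ => rfl
  · exfalso
    have hq : g * g * u ∈ E := key _ h1 fun b hb' => by
      rw [commutatorElement_def, commutatorElement_def]
      congr 1
      rw [show g * g * u * b * (g * g * u)⁻¹ = g * g * (u * b * u⁻¹) * (g * g)⁻¹ by group,
        ← (h.commute b hb').eq, mul_inv_cancel_right]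
    have hgg' : g * g = g * g * u * u := by rw [mul_assoc (g * g), h.sq_u, mul_one]
    -- `g` centralises `g * g`, so `u`
    have hcg : Commute g u := by
      have h2 : Commute g (g * g * u * u) := hgg' ▸ (Commute.refl g).mul_right (Commute.refl g)
      have h3 := ((h.central _ hq g hg).symm.inv_right).mul_right h2
      rwa [inv_mul_cancel_left] at h3
    rcases h.cent g hg hcg with h2 | h2
    · exact h.u_notMem (by
        have h4 := Q.mul_mem (inv_mem (h.le_E (h.sq_mem g h2))) (h.le_E hq)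
        rwa [inv_mul_cancel_left] at h4)
    · exact h.u_notMem (by
        have h3 : g * u * (g * u) = g * g := by rw [hcg.symm.mul_mul_mul_comm, h.sq_u, mul_one]
        have h4 := Q.mul_mem (inv_mem (h.le_E (h.sq_mem _ h2))) (h.le_E hq)
        rwa [h3, inv_mul_cancel_left] at h4)

/-! ### The shape with a twist -/

/-- An element of `C_M(a)` normalising `Q` centralises it. -/
theorem commute_Q_of_normalizes [Finite G] {a : G} (ha : a ∈ A) (haE : ∀ e ∈ E, Commute a e)
    (haQ : ∀ g ∈ Q, Commute a g → g ∈ E) {x : G} (hx : x ∈ M) (hax : Commute a x)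
    (hxQ : x ∈ normalizer (Q : Set G)) : ∀ q ∈ Q, Commute x q := by
  haveI : Fact (Nat.Prime 2) := ⟨Nat.prime_two⟩
  have hxz : zpowers x ≤ normalizer (Q : Set G) := zpowers_le.mpr hxQ
  -- an element moved into `E` commutes with the commutators
  have hJ : ∀ w ∈ Q, ⁅x, w⁆ ∈ E → ∀ v ∈ Q, Commute ⁅x, v⁆ w := by
    intro w hw hwE v hv
    set y := x * v * x⁻¹ with hy
    have hyQ : y ∈ Q := (mem_normalizer_iff.mp hxQ v).mp hv
    set d := ⁅x, w⁆ with hd
    have hxw : x * w * x⁻¹ = d * w := by rw [hd, commutatorElement_def, inv_mul_cancel_right]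
    have he0 : ⁅v, w⁆ ∈ E := h.comm_mem v hv w hw
    have h1 : y * w * y⁻¹ = ⁅v, w⁆ * w := by
      have h2 : y * (d * w) * y⁻¹ = ⁅v, w⁆ * (d * w) := by
        rw [← hxw, hy]
        calc x * v * x⁻¹ * (x * w * x⁻¹) * (x * v * x⁻¹)⁻¹ = x * (⁅v, w⁆ * w) * x⁻¹ := by
              rw [commutatorElement_def]; group
          _ = x * ⁅v, w⁆ * x⁻¹ * (x * w * x⁻¹) := by group
          _ = _ := by rw [h.conj_E hx he0]
      rw [show y * (d * w) * y⁻¹ = (y * d * y⁻¹) * (y * w * y⁻¹) by group,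
        h.conj_E (h.le hyQ) hwE, ← mul_assoc ⁅v, w⁆ d w, ← (h.central d hwE _ (h.le_M he0)).eq,
        mul_assoc d ⁅v, w⁆ w] at h2
      exact mul_left_cancel h2
    refine mul_inv_eq_iff_eq_mul.mp ?_
    have h3 : v⁻¹ * w * v = ⁅v, w⁆⁻¹ * w := by
      calc v⁻¹ * w * v = v⁻¹ * (⁅v, w⁆⁻¹ * (v * w * v⁻¹)) * v := by
            rw [commutatorElement_def]; group
        _ = (v⁻¹ * ⁅v, w⁆⁻¹ * v⁻¹⁻¹) * w := by group
        _ = _ := by rw [h.conj_E (inv_mem (h.le hv)) (inv_mem he0)]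
    calc ⁅x, v⁆ * w * ⁅x, v⁆⁻¹ = y * (v⁻¹ * w * v) * y⁻¹ := by
          rw [hy, commutatorElement_def]; group
      _ = (y * ⁅v, w⁆⁻¹ * y⁻¹) * (y * w * y⁻¹) := by rw [h3]; group
      _ = w := by rw [h.conj_E (h.le hyQ) (inv_mem he0), h1, inv_mul_cancel_left]
  set L := ⁅zpowers x, Q⁆ ⊔ E with hL
  have hLQ : L ≤ Q := sup_le (le_normalizer_iff_commutator_le_right.mp hxz) h.le_E
  have hJL : ∀ w ∈ Q, ⁅x, w⁆ ∈ E → ∀ l ∈ L, Commute l w := by
    intro w hw hwE
    have hle : L ≤ centralizer ({w} : Set G) := by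
      refine sup_le (Subgroup.commutator_le.mpr fun y hy v hv => ?_) fun e he =>
        mem_centralizer_singleton_iff.mpr (h.central e he w (h.le hw)).eq
      obtain ⟨i, rfl⟩ : ∃ i : ℕ, x ^ i = y :=
        (isOfFinOrder_of_finite x).mem_powers_iff_mem_zpowers.mpr hy
      rw [mem_centralizer_singleton_iff]
      induction i generalizing v with
      | zero => simp
      | succ i ih =>
        have hv' : x ^ i * v * (x ^ i)⁻¹ ∈ Q :=
          (mem_normalizer_iff.mp (pow_mem hxQ i) v).mp hv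
        have e : ⁅x ^ (i + 1), v⁆ = ⁅x, x ^ i * v * (x ^ i)⁻¹⁆ * ⁅x ^ i, v⁆ := by
          rw [pow_succ', commutatorElement_def, commutatorElement_def, commutatorElement_def]
          group
        rw [e]
        exact ((hJ w hw hwE _ hv').mul_left (show Commute _ _ from ih v hv (pow_mem (mem_zpowers x) i))).eq
    exact fun l hl => mem_centralizer_singleton_iff.mp (hle hl)
  have hE : ∀ S : Subgroup G, S ≤ L → x ∈ normalizer (S : Set G) → S ≤ E := by
    intro S
    induction S using WellFoundedLT.induction with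
    | ind S ih =>
      intro hSL hxS w hw
      by_cases hS : S = ⊥
      · rw [hS, mem_bot] at hw; rw [hw]; exact one_mem _
      have hlt := Coprime.commutator_lt_of_isPGroup (h.two.to_le ((hSL.trans hLQ).trans h.le))
        (h.two.to_le (zpowers_le.mpr hx)) (zpowers_le.mpr hxS) hS
      have h1 := ih _ hlt (hlt.le.trans hSL)
        (normalizer_commutator_ge_right S (zpowers x) (mem_zpowers x))
      have hwx : ⁅x, w⁆ ∈ E := by
        rw [← commutatorElement_inv]
        exact inv_mem (h1 (commutator_mem_commutator hw (mem_zpowers x)))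
      have hwQ : w ∈ Q := hLQ (hSL hw)
      have hw' : ⁅x, a * w * a⁻¹⁆ ∈ E := by
        have e : ⁅x, a * w * a⁻¹⁆ = a * ⁅x, w⁆ * a⁻¹ := by
          conv_lhs => rw [show x = a * x * a⁻¹ by rw [hax.eq, mul_inv_cancel_right]]
          simp [commutatorElement_def, mul_assoc]
        rw [e]
        exact (mem_normalizer_iff.mp (h.normE ha) _).mp hwx
      exact h.mem_E_of_commute_conj ha haE haQ hwQ
        (hJL _ ((mem_normalizer_iff.mp (h.normQ ha) w).mp hwQ) hw' w (hSL hw))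
  have hxL : x ∈ normalizer (L : Set G) := Cfsg.Agent.H39.mem_normalizer_of_conj_mem (fun l hl => by
    have hlQ := hLQ hl
    rw [show x * l * x⁻¹ = ⁅x, l⁆ * l by simp [commutatorElement_def]]
    exact L.mul_mem (mem_sup_left (commutator_mem_commutator (mem_zpowers x) hlQ)) hl)
  have hall : ∀ v ∈ Q, ⁅x, v⁆ ∈ E := fun v hv =>
    hE L le_rfl hxL (mem_sup_left (commutator_mem_commutator (mem_zpowers x) hv))
  -- the twist kills the homomorphism into `E`
  have hmul : ∀ {v v'}, v ∈ Q → v' ∈ Q → ⁅x, v * v'⁆ = ⁅x, v⁆ * ⁅x, v'⁆ := fun {v v'} hv hv' => by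
    have e : ⁅x, v * v'⁆ = ⁅x, v⁆ * (v * ⁅x, v'⁆ * v⁻¹) := by
      simp [commutatorElement_def, mul_assoc]
    rw [e, h.conj_E (h.le hv) (hall v' hv')]
  let S : Subgroup G :=
    { carrier := {v | v ∈ Q ∧ ⁅x, v⁆ = 1}
      one_mem' := ⟨Q.one_mem, commutatorElement_one_right x⟩
      mul_mem' := fun {b c} hb hc => ⟨Q.mul_mem hb.1 hc.1, by
        rw [hmul hb.1 hc.1, hb.2, hc.2, one_mul]⟩
      inv_mem' := fun {b} hb => ⟨Q.inv_mem hb.1, by
        have h1 := hmul (Q.inv_mem hb.1) hb.1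
        rwa [inv_mul_cancel, commutatorElement_one_right, hb.2, mul_one, eq_comm] at h1⟩ }
  have hES : ∀ e ∈ E, e ∈ S := fun e he => ⟨h.le_E he, by
    rw [commutatorElement_def, h.conj_E hx he, mul_inv_cancel]⟩
  have hazQ : zpowers a ≤ normalizer (Q : Set G) := zpowers_le.mpr (h.normQ ha)
  have hQS : Q ≤ S := by
    conv_lhs => rw [← Coprime.commutator_sup_centralizer hazQ
      ((h.coprime_zpowers ha).coprime_dvd_right (card_dvd_of_le h.le))
      (Or.inr (Coprime.isSolvable_of_le h.le h.isSolvable))]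
    refine sup_le (Subgroup.commutator_le.mpr fun v hv b hb => ?_) fun c hc => ?_
    · have hv' : b * v⁻¹ * b⁻¹ ∈ Q := (mem_normalizer_iff.mp (hazQ hb) _).mp (inv_mem hv)
      have hbx : Commute b x := by
        obtain ⟨i, rfl⟩ := mem_zpowers_iff.mp hb
        exact hax.zpow_left i
      have hbE : ∀ e ∈ E, Commute b e := by
        obtain ⟨i, rfl⟩ := mem_zpowers_iff.mp hb
        exact fun e he => (haE e he).zpow_left i
      have e : ⁅v, b⁆ = v * (b * v⁻¹ * b⁻¹) := by simp [commutatorElement_def, mul_assoc]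
      refine ⟨e ▸ Q.mul_mem hv hv', ?_⟩
      have e2 : ⁅x, b * v⁻¹ * b⁻¹⁆ = b * ⁅x, v⁻¹⁆ * b⁻¹ := by
        conv_lhs => rw [show x = b * x * b⁻¹ by rw [hbx.eq, mul_inv_cancel_right]]
        simp [commutatorElement_def, mul_assoc]
      rw [e, hmul hv hv', e2, (hbE _ (hall _ (inv_mem hv))).eq, mul_inv_cancel_right,
        ← hmul hv (inv_mem hv), mul_inv_cancel, commutatorElement_one_right]
    · exact hES c (haQ c hc.1 (mem_centralizer_iff.mp hc.2 a (mem_zpowers a)))
  exact fun q hq => commutatorElement_eq_one_iff_mul_comm.mp (hQS hq).2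

/-- `C_M(a)` has the data of a line with `Q = E`. -/
theorem torusData_twist [Finite G] {a : G} (ha : a ∈ A) (haE : ∀ e ∈ E, Commute a e)
    (haQ : ∀ g ∈ Q, Commute a g → g ∈ E) :
    TorusData (M ⊓ centralizer ({a} : Set G)) E A u where
  two := h.two.to_le inf_le_left
  u_mem := ⟨h.u_mem, mem_centralizer_singleton_iff.mpr (mul_inv_eq_iff_eq_mul.mp (h.fix a ha)).symm⟩
  sq_u := h.sq_u
  u_notMem := h.u_notMem_E
  comm := h.comm
  odd := h.odd
  fix := h.fix
  normM := by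
    refine le_normalizer_iff.mpr fun b hb g hg => ⟨(mem_normalizer_iff.mp (h.normM hb) g).mp hg.1, ?_⟩
    show b * g * b⁻¹ ∈ centralizer {a}
    rw [mem_centralizer_singleton_iff]
    have hab : Commute a b := congrArg Subtype.val (h.comm ⟨a, ha⟩ ⟨b, hb⟩)
    have hga : Commute a g := (mem_centralizer_singleton_iff.mp hg.2).symm
    exact ((hab.mul_right hga).mul_right hab.inv_right).symm.eq
  normE := h.normE
  le := fun e he => ⟨h.le_M he, mem_centralizer_singleton_iff.mpr (haE e he).symm.eq⟩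
  central := fun e he g hg => h.central e he g hg.1
  sq := h.sq
  four_le := h.four_le
  trans := h.trans
  cent := fun g hg hgu => by
    have hga : Commute a g := (mem_centralizer_singleton_iff.mp hg.2).symm
    rcases h.cent g hg.1 hgu with h1 | h1
    · exact Or.inl (haQ g h1 hga)
    · exact Or.inr (haQ _ h1 (hga.mul_right (mul_inv_eq_iff_eq_mul.mp (h.fix a ha))))

/-- `C_M(a)` centralises `Q`. -/
theorem twist_centralizes [Finite G] {a : G} (ha : a ∈ A) (haE : ∀ e ∈ E, Commute a e)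
    (haQ : ∀ g ∈ Q, Commute a g → g ∈ E) :
    ∀ k ∈ M ⊓ centralizer ({a} : Set G), ∀ q ∈ Q, Commute k q := by
  haveI : Fact (Nat.Prime 2) := ⟨Nat.prime_two⟩
  set Rk := M ⊓ centralizer ({a} : Set G) with hRk
  have htd := h.torusData_twist ha haE haQ
  intro k hk
  by_contra hkQ
  set K := Rk ⊓ centralizer (Q : Set G) with hK
  have hne : K.subgroupOf Rk ≠ ⊤ := fun e => hkQ fun q hq =>
    ((mem_centralizer_iff.mp (subgroupOf_eq_top.mp e hk).2) q hq).symm
  obtain ⟨x, hx, hxn⟩ := SetLike.exists_of_lt (PGroups.lt_normalizer htd.two hne)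
  have huK : u ∈ K := ⟨htd.u_mem, mem_centralizer_iff.mpr fun q hq => (h.commute q hq).eq⟩
  have hxa : Commute a (x : G) := (mem_centralizer_singleton_iff.mp x.2.2).symm
  have hau : Commute a u := mul_inv_eq_iff_eq_mul.mp (h.fix a ha)
  have hxu : ∀ v ∈ Q, Commute ((x : G) * v * (x : G)⁻¹) u := by
    intro v hv
    have h1 := (mem_normalizer_iff.mp (inv_mem hx) ⟨u, htd.u_mem⟩).mp huK
    have h1' : (x : G)⁻¹ * u * (x : G)⁻¹⁻¹ ∈ K := h1
    have h2 : Commute v ((x : G)⁻¹ * u * (x : G)) := by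
      have := mem_centralizer_iff.mp h1'.2 v hv
      rwa [inv_inv] at this
    have h3 := commute_conj h2 (x : G)
    rwa [show (x : G) * ((x : G)⁻¹ * u * (x : G)) * (x : G)⁻¹ = u by group] at h3
  let S : Subgroup G := Q ⊓ Q.comap (MulAut.conj (x : G)).toMonoidHom
  have hazQ : zpowers a ≤ normalizer (Q : Set G) := zpowers_le.mpr (h.normQ ha)
  have hQS : Q ≤ S := by
    conv_lhs => rw [← Coprime.commutator_sup_centralizer hazQ
      ((h.coprime_zpowers ha).coprime_dvd_right (card_dvd_of_le h.le))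
      (Or.inr (Coprime.isSolvable_of_le h.le h.isSolvable))]
    refine sup_le (Subgroup.commutator_le.mpr fun v hv b hb => ?_) fun c hc => ?_
    · have hv' : b * v⁻¹ * b⁻¹ ∈ Q := (mem_normalizer_iff.mp (hazQ hb) _).mp (inv_mem hv)
      have e : ⁅v, b⁆ = v * (b * v⁻¹ * b⁻¹) := by simp [commutatorElement_def, mul_assoc]
      refine ⟨e ▸ Q.mul_mem hv hv', ?_⟩
      show (x : G) * ⁅v, b⁆ * (x : G)⁻¹ ∈ Q
      have hbx : Commute b (x : G) := by
        obtain ⟨i, rfl⟩ := mem_zpowers_iff.mp hb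
        exact hxa.zpow_left i
      have hbu : Commute b u := by
        obtain ⟨i, rfl⟩ := mem_zpowers_iff.mp hb
        exact hau.zpow_left i
      set y := (x : G) * v * (x : G)⁻¹ with hy
      have hyM : y ∈ M := M.mul_mem (M.mul_mem x.2.1 (h.le hv)) (inv_mem x.2.1)
      have e2 : (x : G) * ⁅v, b⁆ * (x : G)⁻¹ = y * (b * y⁻¹ * b⁻¹) := by
        rw [hy, commutatorElement_def]
        calc (x : G) * (v * b * v⁻¹ * b⁻¹) * (x : G)⁻¹
            = (x : G) * v * (b * v⁻¹) * (b⁻¹ * (x : G)⁻¹) := by group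
          _ = (x : G) * v * ((x : G)⁻¹ * (x : G)) * b * v⁻¹ * ((x : G)⁻¹ * b⁻¹) := by
            rw [(hbx.inv_inv).eq]; group
          _ = (x : G) * v * (x : G)⁻¹ * ((x : G) * b) * v⁻¹ * (x : G)⁻¹ * b⁻¹ := by group
          _ = _ := by rw [← hbx.eq]; group
      rw [e2]
      rcases h.cent y hyM (hxu v hv) with h1 | h1
      · exact Q.mul_mem h1 ((mem_normalizer_iff.mp (hazQ hb) _).mp (inv_mem h1))
      · have e3 : y * (b * y⁻¹ * b⁻¹) = y * u * (b * (y * u)⁻¹ * b⁻¹) := by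
          calc y * (b * y⁻¹ * b⁻¹) = y * (u * u⁻¹) * (b * y⁻¹ * b⁻¹) := by group
            _ = y * u * (b * u⁻¹ * b⁻¹) * (b * y⁻¹ * b⁻¹) := by
              rw [hbu.inv_right.eq]; group
            _ = _ := by group
        rw [e3]
        exact Q.mul_mem h1 ((mem_normalizer_iff.mp (hazQ hb) _).mp (inv_mem h1))
    · refine ⟨hc.1, ?_⟩
      show (x : G) * c * (x : G)⁻¹ ∈ Q
      rw [h.conj_E x.2.1 (haQ c hc.1 (mem_centralizer_iff.mp hc.2 a (mem_zpowers a)))]
      exact hc.1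
  have hxQ : (x : G) ∈ normalizer (Q : Set G) :=
    Cfsg.Agent.H39.mem_normalizer_of_conj_mem fun v hv => (hQS hv).2
  exact hxn ⟨x.2, mem_centralizer_iff.mpr fun q hq =>
    (h.commute_Q_of_normalizes ha haE haQ x.2.1 hxa hxQ q hq).symm.eq⟩

/-- The first layer with a twist is the product of `Q` and `C_M(a)`. -/
theorem exists_mul_of_layer [Finite G] {a : G} (ha : a ∈ A) (haE : ∀ e ∈ E, Commute a e)
    (haQ : ∀ g ∈ Q, Commute a g → g ∈ E) (hu : ∀ g ∈ M, ⁅g, u⁆ ∈ E) :
    ∀ g ∈ M, ∃ q ∈ Q, ∃ k ∈ M ⊓ centralizer ({a} : Set G), g = q * k := by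
  intro g hg
  have hau : Commute a u := mul_inv_eq_iff_eq_mul.mp (h.fix a ha)
  have hcomm := h.twist_centralizes ha haE haQ
  have huk : u ∈ M ⊓ centralizer ({a} : Set G) :=
    ⟨h.u_mem, mem_centralizer_singleton_iff.mpr hau.symm.eq⟩
  have hnormu : zpowers a ≤ normalizer ((M ⊓ centralizer ({u} : Set G) : Subgroup G) : Set G) := by
    refine le_normalizer_iff.mpr fun b hb y hy => ?_
    have hbA : b ∈ A := zpowers_le.mpr ha hb
    refine ⟨(mem_normalizer_iff.mp (h.normM hbA) y).mp hy.1, mem_centralizer_singleton_iff.mpr ?_⟩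
    have h1 := commute_conj
      (show Commute y u from mem_centralizer_singleton_iff.mp hy.2) b
    rw [h.fix b hbA] at h1
    exact h1.eq
  obtain ⟨c, hc, hcs⟩ := Coprime.exists_centralizer_mem_coset
    ((zpowers_le.mpr ha).trans h.normM) (h.coprime_zpowers ha) (Or.inr h.isSolvable)
    (N := M ⊓ centralizer ({u} : Set G)) inf_le_left hnormu hg fun b hb => by
      have hbA : b ∈ A := zpowers_le.mpr ha hb
      have hgb : b * g * b⁻¹ ∈ M := (mem_normalizer_iff.mp (h.normM hbA) g).mp hg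
      refine ⟨M.mul_mem (inv_mem hg) hgb, mem_centralizer_singleton_iff.mpr ?_⟩
      have hbe : Commute b ⁅g, u⁆ := by
        obtain ⟨i, rfl⟩ := mem_zpowers_iff.mp hb
        exact (haE _ (hu g hg)).zpow_left i
      refine mul_inv_eq_iff_eq_mul.mp ?_
      calc g⁻¹ * (b * g * b⁻¹) * u * (g⁻¹ * (b * g * b⁻¹))⁻¹
          = g⁻¹ * (b * g * (b⁻¹ * u * b⁻¹⁻¹) * g⁻¹ * b⁻¹) * g := by group
        _ = g⁻¹ * (b * ⁅g, u⁆ * b⁻¹ * (b * u * b⁻¹)) * g := by
          rw [h.fix b⁻¹ (inv_mem hbA), commutatorElement_def]; group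
        _ = u := by
          rw [hbe.eq, mul_inv_cancel_right, h.fix b hbA, commutatorElement_def]; group
  have hcRk : c ∈ M ⊓ centralizer ({a} : Set G) := ⟨hc.1, mem_centralizer_singleton_iff.mpr
    (mem_centralizer_iff.mp hc.2 a (mem_zpowers a)).symm⟩
  set n := g⁻¹ * c with hn
  have hgc : g = c * n⁻¹ := by rw [hn]; group
  have hnu : Commute n⁻¹ u := (show Commute n u from mem_centralizer_singleton_iff.mp hcs.2).inv_left
  rcases h.cent n⁻¹ (M.inv_mem hcs.1) hnu with h1 | h1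
  · exact ⟨_, h1, c, hcRk, by rw [hgc, (hcomm c hcRk _ h1).eq]⟩
  · refine ⟨_, h1, c * u, mul_mem hcRk huk, ?_⟩
    rw [← (hcomm _ (mul_mem hcRk huk) _ h1).eq, hgc, mul_assoc, ← mul_assoc u, ← hnu.eq, mul_assoc,
      h.sq_u, mul_one]

/-- **The first half for the shapes two and three**: `u` is not in the Frattini part. -/
theorem u_notMem_nxt [Finite G] (hs : Squaring Q E ∨ Twisted A E Q) : u ∉ nxt M M := by
  intro huN
  have hcu : ∀ g ∈ h.zTwo, Commute g u := fun g hg => (h.commute_nxt hg huN).symm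
  by_cases huX : u ∈ h.zTwo
  · have hlayer : ∀ g ∈ M, ⁅g, u⁆ ∈ E := huX.2
    rcases hs with hs | ⟨a, ha, haE, haQ⟩
    · exact h.u_notMem_E (h.nxt_le_of_sq (h.sq_mem_E_of_layer hs hlayer) huN)
    · have htd := h.torusData_twist ha haE haQ
      refine htd.u_notMem_commutator (h.nxt_le_of_sq (fun g hg => ?_) huN)
      obtain ⟨q, hq, k, hk, rfl⟩ := h.exists_mul_of_layer ha haE haQ hlayer g hg
      rw [(h.twist_centralizes ha haE haQ k hk q hq).mul_mul_mul_comm]
      exact mul_mem (htd.le_commutator (h.sq_mem q hq)) (htd.nxt_le_commutator (sq_mem_nxt hk))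
  · have hXQ : h.zTwo ≤ Q := h.le_Q h.zTwo_le h.normA_zTwo hcu huX
    set C := M ⊓ centralizer ((h.zTwo : Subgroup G) : Set G) with hC
    have hCM : M ≤ normalizer (C : Set G) := le_normalizer_iff.mpr fun r hr c hc =>
      ⟨M.mul_mem (M.mul_mem hr hc.1) (inv_mem hr), mem_centralizer_iff.mpr fun g hg => by
        have h1 := mem_centralizer_iff.mp hc.2 _ (h.conj_zTwo (inv_mem hr) hg)
        have h2 := commute_conj (show Commute _ c from h1) r
        rwa [show r * (r⁻¹ * g * r⁻¹⁻¹) * r⁻¹ = g by group] at h2⟩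
    have hnle : ¬ C ≤ E := fun hle => h.u_notMem_E (hle ⟨h.u_mem, mem_centralizer_iff.mpr
      fun g hg => (hcu g hg).eq⟩)
    obtain ⟨g, hg, hgE, hgc⟩ := exists_mem_layer h.two inf_le_left hCM hnle
    refine hgE (h.abelian_le hs (inf_le_left.trans hXQ) ?_ ?_ ?_ (show g ∈ h.zTwo ⊓ C from
      ⟨⟨hg.1, hgc⟩, hg⟩))
    · refine Cfsg.Agent.H51.Asch.inf_norm h.normA_zTwo
        (le_normalizer_iff.mpr fun b hb c hc => ⟨(mem_normalizer_iff.mp (h.normM hb) c).mp hc.1,
          mem_centralizer_iff.mpr fun y hy => ?_⟩)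
      have h1 := mem_centralizer_iff.mp hc.2 _
        ((mem_normalizer_iff.mp (h.normA_zTwo (inv_mem hb)) y).mp hy)
      have h2 := commute_conj (show Commute _ c from h1) b
      rwa [show b * (b⁻¹ * y * b⁻¹⁻¹) * b⁻¹ = y by group] at h2
    · exact le_inf h.E_le_zTwo fun e he => ⟨h.le_M he, mem_centralizer_iff.mpr fun y hy =>
        (h.central e he y (h.zTwo_le hy)).symm.eq⟩
    · exact fun y hy k hk => mem_centralizer_iff.mp hk.2.2 y hy.1

/-- **The first half for the shapes two and three**: `u` is not in `⁅M, A⁆`. -/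
theorem u_notMem_commutator [Finite G] (hs : Squaring Q E ∨ Twisted A E Q) : u ∉ ⁅M, A⁆ :=
  fun hu => h.u_notMem_nxt hs (h.mem_nxt_of_mem_commutator hu)

end ShapeData

end Cfsg.Agent.H14.Asch
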