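import Cfsg.Agent.H14.Asch.Shapes

/-!
Basic facts on a `ShapeData`: `⁅M, A⁆` has index two, invariant subgroups without `u` lie in it, and
the arithmetic of `Q / E` when squaring is injective on it.
-/

set_option autoImplicit false
set_option linter.style.haveILetI false
set_option linter.unusedSectionVars false

namespace Cfsg.Agent.H14.Asch

open Subgroup
open Cfsg.Agent.H51.Asch (nxt nxt_le sq_mem_nxt comm_mem_nxt norm_nxt)
open scoped commutatorElement Classical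

universe u

variable {G : Type u} [Group G]

theorem commutator_mem_right {T : Subgroup G} {r t : G} (hr : r ∈ normalizer (T : Set G))
    (ht : t ∈ T) : ⁅r, t⁆ ∈ T :=
  T.mul_mem ((mem_normalizer_iff.mp hr t).mp ht) (inv_mem ht)

theorem commutator_mem_left {T : Subgroup G} {r t : G} (hr : r ∈ normalizer (T : Set G))
    (ht : t ∈ T) : ⁅t, r⁆ ∈ T := by
  rw [← commutatorElement_inv]
  exact inv_mem (commutator_mem_right hr ht)

/-- The elements of `K` moved into `S` by `P` form a subgroup. -/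
theorem exists_into {P K S A : Subgroup G} (hKS : K ≤ normalizer (S : Set G))
    (hP : A ≤ normalizer (P : Set G)) (hK : A ≤ normalizer (K : Set G))
    (hS : A ≤ normalizer (S : Set G)) :
    ∃ T : Subgroup G, A ≤ normalizer (T : Set G) ∧ ∀ g, g ∈ T ↔ g ∈ K ∧ ∀ r ∈ P, ⁅r, g⁆ ∈ S := by
  let T : Subgroup G :=
    { carrier := {g | g ∈ K ∧ ∀ r ∈ P, ⁅r, g⁆ ∈ S}
      one_mem' := ⟨K.one_mem, fun r _ => by rw [commutatorElement_one_right]; exact S.one_mem⟩
      mul_mem' := fun {a b} ha hb => ⟨K.mul_mem ha.1 hb.1, fun r hr => by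
        have e : ⁅r, a * b⁆ = ⁅r, a⁆ * (a * ⁅r, b⁆ * a⁻¹) := by
          simp [commutatorElement_def, mul_assoc]
        rw [e]
        exact S.mul_mem (ha.2 r hr) ((mem_normalizer_iff.mp (hKS ha.1) _).mp (hb.2 r hr))⟩
      inv_mem' := fun {a} ha => ⟨K.inv_mem ha.1, fun r hr => by
        have e : ⁅r, a⁻¹⁆ = a⁻¹ * ⁅r, a⁆⁻¹ * a⁻¹⁻¹ := by
          simp [commutatorElement_def, mul_assoc]
        rw [e]
        exact (mem_normalizer_iff.mp (hKS (K.inv_mem ha.1)) _).mp (inv_mem (ha.2 r hr))⟩ }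
  refine ⟨T, le_normalizer_iff.mpr fun a ha g hg =>
    ⟨(mem_normalizer_iff.mp (hK ha) g).mp hg.1, fun r hr => ?_⟩, fun g => Iff.rfl⟩
  have hr' : a⁻¹ * r * a ∈ P := by
    have := (mem_normalizer_iff.mp (hP (inv_mem ha)) r).mp hr
    rwa [inv_inv] at this
  rw [show ⁅r, a * g * a⁻¹⁆ = a * ⁅a⁻¹ * r * a, g⁆ * a⁻¹ by
    simp [commutatorElement_def, mul_assoc]]
  exact (mem_normalizer_iff.mp (hS ha) _).mp (hg.2 _ hr')

namespace ShapeData

variable {M Q E A : Subgroup G} {u : G} (h : ShapeData M Q E A u)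
include h

theorem conj_mem_M {a g : G} (ha : a ∈ A) (hg : g ∈ M) : a * g * a⁻¹ ∈ M :=
  (mem_normalizer_iff.mp (h.normM ha) g).mp hg

theorem commute_A {a : G} (ha : a ∈ A) : Commute a u := mul_inv_eq_iff_eq_mul.mp (h.fix a ha)

theorem commutator_le : ⁅M, A⁆ ≤ M := Coprime.commutator_le_left_of_normalizer h.normM

theorem normA_commutator : A ≤ normalizer ((⁅M, A⁆ : Subgroup G) : Set G) :=
  normalizer_commutator_ge_right M A

theorem normM_commutator : M ≤ normalizer ((⁅M, A⁆ : Subgroup G) : Set G) :=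
  normalizer_commutator_ge_left M A

theorem mem_or_mul_mem [Finite G] {g : G} (hg : g ∈ M) : g ∈ ⁅M, A⁆ ∨ g * u ∈ ⁅M, A⁆ := by
  have hs := Coprime.commutator_sup_centralizer h.normM h.coprime_all (Or.inr h.isSolvable)
  have hg' : g ∈ ⁅M, A⁆ ⊔ (M ⊓ centralizer (A : Set G)) := by rw [hs]; exact hg
  obtain ⟨q, hq, c, hc, rfl⟩ := (Coprime.mem_sup_iff
    (inf_le_left.trans h.normM_commutator)).mp hg'
  rcases h.eq_one_or_eq_of_centralized hc.1 (fun a ha => by
    rw [mem_centralizer_iff.mp hc.2 a ha, mul_inv_cancel_right]) with rfl | rfl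
  · left; rwa [mul_one]
  · right; rwa [mul_assoc, h.sq_u, mul_one]

/-- An `A`-invariant subgroup without `u` lies in `⁅M, A⁆`. -/
theorem le_commutator [Finite G] {S : Subgroup G} (hSM : S ≤ M) (hAS : A ≤ normalizer (S : Set G))
    (hu : u ∉ S) : S ≤ ⁅M, A⁆ := by
  intro g hg
  have hs := Coprime.commutator_sup_centralizer hAS
    (h.coprime_all.coprime_dvd_right (card_dvd_of_le hSM))
    (Or.inr (Coprime.isSolvable_of_le hSM h.isSolvable))
  rw [← hs] at hg
  refine (sup_le (commutator_mono hSM le_rfl) fun c hc => ?_) hg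
  rcases h.eq_one_or_eq_of_centralized (hSM hc.1) (fun a ha => by
    rw [mem_centralizer_iff.mp hc.2 a ha, mul_inv_cancel_right]) with rfl | rfl
  · exact one_mem _
  · exact absurd hc.1 hu

theorem Q_le_commutator [Finite G] : Q ≤ ⁅M, A⁆ := h.le_commutator h.le h.normQ h.u_notMem

theorem E_le_commutator [Finite G] : E ≤ ⁅M, A⁆ := h.le_E.trans h.Q_le_commutator

theorem nxt_le_commutator [Finite G] : nxt M M ≤ ⁅M, A⁆ := h.nxt_le_of_sq fun g hg => by
  rcases h.mem_or_mul_mem hg with h1 | h1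
  · exact mul_mem h1 h1
  · have e : g * g = g * u * (u * (g * u) * u⁻¹) := by
      calc g * g = g * (u * u) * g * (u * u⁻¹) := by rw [h.sq_u]; group
        _ = _ := by group
    rw [e]
    exact mul_mem h1 ((mem_normalizer_iff.mp (h.normM_commutator h.u_mem) _).mp h1)

/-- The centraliser of `u` in `⁅M, A⁆` lies in `Q`. -/
theorem mem_Q_of_commute [Finite G] (hu : u ∉ ⁅M, A⁆) {g : G} (hg : g ∈ ⁅M, A⁆)
    (hgu : Commute g u) : g ∈ Q := by
  refine (h.cent g (h.commutator_le hg) hgu).resolve_right fun h1 => hu ?_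
  have := (⁅M, A⁆).mul_mem ((⁅M, A⁆).inv_mem hg) (h.Q_le_commutator h1)
  rwa [inv_mul_cancel_left] at this

theorem card_eq_two_mul [Finite G] (hu : u ∉ ⁅M, A⁆) :
    Nat.card M = 2 * Nat.card (⁅M, A⁆ : Subgroup G) := by
  let f : Bool × (⁅M, A⁆ : Subgroup G) → M := fun q => if q.1 then ⟨q.2, h.commutator_le q.2.2⟩
    else ⟨(q.2 : G) * u, M.mul_mem (h.commutator_le q.2.2) h.u_mem⟩
  have hf : Function.Bijective f := by
    constructor
    · rintro ⟨b, t⟩ ⟨b', t'⟩ e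
      have e' := congrArg Subtype.val e
      cases b <;> cases b' <;> simp [f] at e' ⊢
      · exact e'
      · exact hu (by
          rw [show u = (t : G)⁻¹ * t' by rw [← e', inv_mul_cancel_left]]
          exact mul_mem (inv_mem t.2) t'.2)
      · exact hu (by
          rw [show u = (t' : G)⁻¹ * t by rw [e', inv_mul_cancel_left]]
          exact mul_mem (inv_mem t'.2) t.2)
      · exact e'
    · rintro ⟨g, hg⟩
      rcases h.mem_or_mul_mem hg with h1 | h1
      · exact ⟨(true, ⟨g, h1⟩), rfl⟩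
      · exact ⟨(false, ⟨g * u, h1⟩), Subtype.ext (by
          simp only [f, Bool.false_eq_true, ↓reduceIte]
          rw [mul_assoc, h.sq_u, mul_one])⟩
  rw [← Nat.card_eq_of_bijective f hf, Nat.card_prod, Nat.card_eq_fintype_card (α := Bool),
    Fintype.card_bool]

theorem comm_E {g e : G} (hg : g ∈ M) (he : e ∈ E) : ⁅g, e⁆ = 1 := by
  rw [commutatorElement_def, h.conj_E hg he, mul_inv_cancel]

theorem comm_mul_right {g a b : G} (ha : a ∈ M) (hb : ⁅g, b⁆ ∈ E) :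
    ⁅g, a * b⁆ = ⁅g, a⁆ * ⁅g, b⁆ := by
  have e : ⁅g, a * b⁆ = ⁅g, a⁆ * (a * ⁅g, b⁆ * a⁻¹) := by simp [commutatorElement_def, mul_assoc]
  rw [e, h.conj_E ha hb]

theorem comm_mul_left {a b g : G} (ha : a ∈ M) (hbg : ⁅b, g⁆ ∈ E) :
    ⁅a * b, g⁆ = ⁅b, g⁆ * ⁅a, g⁆ := by
  have e : ⁅a * b, g⁆ = a * ⁅b, g⁆ * a⁻¹ * ⁅a, g⁆ := by simp [commutatorElement_def, mul_assoc]
  rw [e, h.conj_E ha hbg]

theorem comm_symm {a b : G} (hab : ⁅a, b⁆ ∈ E) : ⁅b, a⁆ = ⁅a, b⁆ := by
  rw [← commutatorElement_inv, h.inv_E hab]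

theorem conj_comm {a g k : G} : a * ⁅g, k⁆ * a⁻¹ = ⁅a * g * a⁻¹, a * k * a⁻¹⁆ := by
  simp [commutatorElement_def, mul_assoc]

theorem conj_comm_u {a g : G} (ha : a ∈ A) : a * ⁅g, u⁆ * a⁻¹ = ⁅a * g * a⁻¹, u⁆ := by
  conv_rhs => rw [← h.fix a ha]
  exact h.conj_comm

/-- An element whose commutators with all elements lie in `E` has elementary image. -/
theorem mul_self_conj {g r : G} (hr : r ∈ M) (hg : g * g ∈ E) :
    r * g * r⁻¹ * (r * g * r⁻¹) = g * g := by
  rw [show r * g * r⁻¹ * (r * g * r⁻¹) = r * (g * g) * r⁻¹ by group, h.conj_E hr hg]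

/-! ### Squaring injective -/

theorem trans_Q (hs : Squaring Q E) {g k : G} (hg : g ∈ Q) (hgE : g ∉ E) (hk : k ∈ Q)
    (hkE : k ∉ E) : ∃ a ∈ A, (a * g * a⁻¹)⁻¹ * k ∈ E := by
  obtain ⟨a, ha, hae⟩ := h.trans _ (h.sq_mem g hg) (fun e => hgE (h.omega g hg e))
    _ (h.sq_mem k hk) (fun e => hkE (h.omega k hk e))
  refine ⟨a, ha, ?_⟩
  have hgQ' := (mem_normalizer_iff.mp (h.normQ ha) g).mp hg
  have h1 : a * g * a⁻¹ * k⁻¹ ∈ E := hs.inj _ hgQ' k hk (by rw [← hae]; group)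
  have h2 := h.conj_E (M.inv_mem (h.le hgQ')) (inv_mem h1)
  rw [show (a * g * a⁻¹)⁻¹ * k =
    (a * g * a⁻¹)⁻¹ * (a * g * a⁻¹ * k⁻¹)⁻¹ * (a * g * a⁻¹)⁻¹⁻¹ by group, h2]
  exact inv_mem h1

theorem exists_notMem (hQE : ¬ Q ≤ E) : ∃ g ∈ Q, g ∉ E := SetLike.not_le_iff_exists.mp hQE

/-- Every element of `E` is a square in `Q`. -/
theorem exists_sq (hQE : ¬ Q ≤ E) {e : G} (he : e ∈ E) :
    ∃ g ∈ Q, g * g = e := by
  obtain ⟨g, hg, hgE⟩ := h.exists_notMem hQE
  by_cases he1 : e = 1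
  · exact ⟨1, Q.one_mem, by rw [he1, mul_one]⟩
  obtain ⟨a, ha, hae⟩ := h.trans _ (h.sq_mem g hg) (fun e => hgE (h.omega g hg e)) e he he1
  exact ⟨_, (mem_normalizer_iff.mp (h.normQ ha) g).mp hg, by rw [← hae]; group⟩

theorem card_Q [Finite G] (hs : Squaring Q E) (hQE : ¬ Q ≤ E) :
    Nat.card Q = Nat.card E * Nat.card E := by
  choose r hrQ hr using fun e : E => h.exists_sq hQE e.2
  let f : E × E → Q := fun p => ⟨r p.1 * p.2, Q.mul_mem (hrQ p.1) (h.le_E p.2.2)⟩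
  have hsq : ∀ p : E × E, (f p : G) * (f p : G) = p.1 := fun p => by
    show r p.1 * (p.2 : G) * (r p.1 * (p.2 : G)) = p.1
    rw [(h.central _ p.2.2 _ (h.le (hrQ p.1))).mul_mul_mul_comm, hr, h.sq _ p.2.2, mul_one]
  have hf : Function.Bijective f := by
    constructor
    · intro p p' e
      have e1 : p.1 = p'.1 := Subtype.ext (by rw [← hsq p, e, hsq p'])
      have e2 : r p.1 * (p.2 : G) = r p'.1 * (p'.2 : G) := congrArg Subtype.val e
      rw [e1] at e2
      exact Prod.ext e1 (Subtype.ext (mul_left_cancel e2))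
    · intro g
      set e : E := ⟨(g : G) * g, h.sq_mem g g.2⟩ with he
      have h1 : (g : G) * (r e)⁻¹ ∈ E := hs.inj g g.2 (r e) (hrQ e) (by rw [hr])
      refine ⟨(e, ⟨_, h1⟩), Subtype.ext ?_⟩
      show r e * ((g : G) * (r e)⁻¹) = g
      rw [← (h.central _ h1 _ (h.le (hrQ e))).eq, inv_mul_cancel_right]
  rw [← Nat.card_eq_of_bijective f hf, Nat.card_prod]

/-- A third element: `|E| > 4`. -/
theorem five_le [Finite G] (hs : Squaring Q E) (hQE : ¬ Q ≤ E) : 5 ≤ Nat.card E := by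
  by_contra hlt
  obtain ⟨g, hg, hgE⟩ := h.exists_notMem hQE
  obtain ⟨k, hk, l, hl, hk1, hl1, hne⟩ := hs.rank g hg hgE
  have hgk : ⁅g, g * k⁆ = ⁅g, k⁆ := by
    rw [h.comm_mul_right (h.le hg) (h.comm_mem g hg k hk), commutatorElement_self, one_mul]
  have cong : ∀ {y z}, y ∈ Q → z ∈ Q → y * z⁻¹ ∈ E → ⁅g, y⁆ = ⁅g, z⁆ := fun {y z} hy hz hyz => by
    have h1 := h.comm_mul_right (g := g) (h.le_M hyz) (h.comm_mem g hg z hz)
    rwa [inv_mul_cancel_right, h.comm_E (h.le hg) hyz, one_mul] at h1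
  -- four squares: `1`, `g²`, `k²`, `(g k)²` are pairwise distinct
  have hcl : ∀ {y z}, y ∈ Q → z ∈ Q → y * y = z * z → ⁅g, y⁆ = ⁅g, z⁆ := fun hy hz e =>
    cong hy hz (hs.inj _ hy _ hz e)
  have h1' : ∀ {y}, y ∈ Q → ⁅g, y⁆ ≠ 1 → y * y ≠ 1 := fun {y} hy hy1 e =>
    hy1 (h.comm_E (h.le hg) (h.omega y hy e))
  have a1 : g * g ≠ 1 := fun e => hgE (h.omega g hg e)
  have a2 := h1' hk hk1
  have a3 : g * k * (g * k) ≠ 1 := h1' (Q.mul_mem hg hk) (hgk.trans_ne hk1)
  have a4 := h1' hl hl1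
  have b12 : g * g ≠ k * k := fun e => hk1 (by rw [← hcl hg hk e, commutatorElement_self])
  have b13 : g * g ≠ g * k * (g * k) := fun e => hk1 (by
    rw [← hgk, ← hcl hg (Q.mul_mem hg hk) e, commutatorElement_self])
  have b14 : g * g ≠ l * l := fun e => hl1 (by rw [← hcl hg hl e, commutatorElement_self])
  have b23 : k * k ≠ g * k * (g * k) := fun e => hgE (by
    have h2 := inv_mem (hs.inj k hk (g * k) (Q.mul_mem hg hk) e)
    rwa [show (k * (g * k)⁻¹)⁻¹ = g by group] at h2)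
  have b24 : k * k ≠ l * l := fun e => hne (hcl hk hl e)
  have b34 : g * k * (g * k) ≠ l * l := fun e => hne (by
    rw [← hgk, hcl (Q.mul_mem hg hk) hl e])
  have hsub : ({1, g * g, k * k, g * k * (g * k), l * l} : Finset G) ⊆
      (Set.toFinite (E : Set G)).toFinset := by
    intro y hy
    simp only [Finset.mem_insert, Finset.mem_singleton] at hy
    rw [Set.Finite.mem_toFinset, SetLike.mem_coe]
    rcases hy with rfl | rfl | rfl | rfl | rfl
    exacts [E.one_mem, h.sq_mem g hg, h.sq_mem k hk, h.sq_mem _ (Q.mul_mem hg hk), h.sq_mem l hl]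
  have hcard := Finset.card_le_card hsub
  rw [← Nat.card_eq_card_finite_toFinset, Finset.card_insert_of_notMem (by simp [a1.symm, a2.symm, a3.symm, a4.symm]),
    Finset.card_insert_of_notMem (by simp [b12, b13, b14]),
    Finset.card_insert_of_notMem (by simp [b23, b24]), Finset.card_pair b34] at hcard
  exact hlt (by simpa using hcard)

end ShapeData

end Cfsg.Agent.H14.Asch
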