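import Cfsg.Agent.H14.Asch.UnitaryLayers
import Cfsg.Agent.H51.Asch.UnitaryTop
import Cfsg.Agent.H29.Asch.ShapeNoConj

/-!
The wreathed top for a line of shape three: `u` is moved through all classes of `Q` modulo `E`, the
group `⁅R, A⁆` is elementary abelian over `⁅C_M(a), A⁆`, no conjugate of `u` lies in it, and the
involutions outside it form one class.
-/

set_option autoImplicit false
set_option linter.style.haveILetI false
set_option linter.unusedSectionVars false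

namespace Cfsg.Agent.H51.AschU

open Subgroup
open Cfsg.Agent.H14.Asch (ShapeData commute_conj)
open scoped commutatorElement

universe u

variable {G : Type u} [Group G]

/-- `g` moves `u` into the class of `p` modulo `⁅C_M(a), A⁆`. -/
def Coord (M Q A : Subgroup G) (u a g p : G) : Prop :=
  p ∈ Q ∧ p⁻¹ * ⁅g, u⁆ ∈ ⁅rk M a, A⁆

namespace Wreath

variable [Finite G] {R M Q E A : Subgroup G} {u a : G} (w : Wreath R M Q E A u a)
include w

theorem base_le_top : (⁅M, A⁆ : Subgroup G) ≤ ⁅R, A⁆ := commutator_mono w.le le_rfl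

theorem kk_le_top : (⁅rk M a, A⁆ : Subgroup G) ≤ ⁅R, A⁆ :=
  w.base.kk_le_comm.trans w.base_le_top

theorem kk_mem_R {k : G} (hk : k ∈ ⁅rk M a, A⁆) : k ∈ R := w.le (w.base.kk_le_rk hk).1

theorem conj_kk {g k : G} (hg : g ∈ R) (hk : k ∈ ⁅rk M a, A⁆) :
    g * k * g⁻¹ ∈ ⁅rk M a, A⁆ :=
  (mem_normalizer_iff.mp (w.base.one_normV w.split w.acts w.F_le w.one_layer hg) k).mp hk

theorem commute_kk_Q {k q : G} (hk : k ∈ ⁅rk M a, A⁆) (hq : q ∈ Q) : Commute k q :=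
  w.base.commute_rk (w.base.kk_le_rk hk) hq

theorem commute_kk_kk {k k' : G} (hk : k ∈ ⁅rk M a, A⁆) (hk' : k' ∈ ⁅rk M a, A⁆) : Commute k k' :=
  w.base.kk_abelian w.F_le hk hk'

theorem E_le_kk : E ≤ ⁅rk M a, A⁆ := w.base.torus.le_commutator

theorem mem_E_of_Q_kk {q : G} (hq : q ∈ Q) (hk : q ∈ ⁅rk M a, A⁆) : q ∈ E :=
  w.base.mem_E_of_rk hq (w.base.kk_le_rk hk)

/-! ### The coordinate -/

theorem exists_coord {g : G} (hg : g ∈ R) : ∃ p, Coord M Q A u a g p := by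
  obtain ⟨p, hp, k, hk, e⟩ :=
    w.base.exists_kk w.split (w.base.one_comm_u w.split w.acts w.F_le w.one_layer hg)
  exact ⟨p, hp, by rw [e, inv_mul_cancel_left]; exact hk⟩

theorem coord_unique {g p p' : G} (h1 : Coord M Q A u a g p) (h2 : Coord M Q A u a g p') :
    p⁻¹ * p' ∈ E := by
  refine w.mem_E_of_Q_kk (Q.mul_mem (Q.inv_mem h1.1) h2.1) ?_
  rw [show p⁻¹ * p' = p⁻¹ * ⁅g, u⁆ * (p'⁻¹ * ⁅g, u⁆)⁻¹ by group]
  exact mul_mem h1.2 (inv_mem h2.2)

theorem coord_congr {g p p' : G} (h1 : Coord M Q A u a g p) (hp' : p' ∈ Q)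
    (hd : p'⁻¹ * p ∈ E) : Coord M Q A u a g p' := by
  refine ⟨hp', ?_⟩
  rw [show p'⁻¹ * ⁅g, u⁆ = p'⁻¹ * p * (p⁻¹ * ⁅g, u⁆) by group]
  exact mul_mem (w.E_le_kk hd) h1.2

theorem coord_one : Coord M Q A u a 1 1 := by
  refine ⟨Q.one_mem, ?_⟩
  rw [commutatorElement_one_left, mul_one, inv_one]
  exact one_mem _

theorem coord_mul {g g' p p' : G} (hg : g ∈ R) (h1 : Coord M Q A u a g p)
    (h2 : Coord M Q A u a g' p') : Coord M Q A u a (g * g') (p * p') := by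
  refine ⟨Q.mul_mem h1.1 h2.1, ?_⟩
  set c := ⁅g, p'⁆ with hc
  set k := p⁻¹ * ⁅g, u⁆ with hk
  set k'' := g * (p'⁻¹ * ⁅g', u⁆) * g⁻¹ with hk''
  have hcK : c ∈ ⁅rk M a, A⁆ := w.comm_Q g hg p' h2.1
  have hk2 : k'' ∈ ⁅rk M a, A⁆ := w.conj_kk hg h2.2
  have e1 : ⁅g * g', u⁆ = c * p' * k'' * (p * k) := by
    rw [commutator_mul_left_eq, hk'', hk, hc, commutatorElement_def g p']
    group
  have hee : ⁅p'⁻¹, p⁻¹⁆ ∈ E := w.top.shape.comm_mem _ (Q.inv_mem h2.1) _ (Q.inv_mem h1.1)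
  have e2 : (p * p')⁻¹ * ⁅g * g', u⁆ = ⁅p'⁻¹, p⁻¹⁆ * (c * k'' * k) := by
    calc (p * p')⁻¹ * ⁅g * g', u⁆
        = p'⁻¹ * p⁻¹ * (c * p') * (k'' * p) * k := by rw [e1]; group
      _ = p'⁻¹ * p⁻¹ * p' * (c * p) * k'' * k := by
        rw [(w.commute_kk_Q hcK h2.1).eq, (w.commute_kk_Q hk2 h1.1).eq]; group
      _ = ⁅p'⁻¹, p⁻¹⁆ * (c * k'' * k) := by
        rw [(w.commute_kk_Q hcK h1.1).eq, commutatorElement_def]; group
  rw [e2]
  exact mul_mem (w.E_le_kk hee) (mul_mem (mul_mem hcK hk2) h1.2)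

theorem coord_inv {g p : G} (hg : g ∈ R) (h1 : Coord M Q A u a g p) :
    Coord M Q A u a g⁻¹ p⁻¹ := by
  obtain ⟨p', hp'⟩ := w.exists_coord (R.inv_mem hg)
  have h2 := w.coord_mul hg h1 hp'
  rw [mul_inv_cancel] at h2
  have h3 := w.coord_unique w.coord_one h2
  rw [inv_one, one_mul] at h3
  refine w.coord_congr hp' (Q.inv_mem h1.1) ?_
  rwa [inv_inv]

theorem coord_conjA {b g p : G} (hb : b ∈ A) (h1 : Coord M Q A u a g p) :
    Coord M Q A u a (b * g * b⁻¹) (b * p * b⁻¹) := by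
  refine ⟨w.top.conj_mem_Q hb h1.1, ?_⟩
  rw [← w.top.shape.conj_comm_u hb,
    show (b * p * b⁻¹)⁻¹ * (b * ⁅g, u⁆ * b⁻¹) = b * (p⁻¹ * ⁅g, u⁆) * b⁻¹ by group]
  exact (mem_normalizer_iff.mp (normalizer_commutator_ge_right _ A hb) _).mp h1.2

theorem coord_mul_u {g p : G} (h1 : Coord M Q A u a g p) : Coord M Q A u a (g * u) p := by
  refine ⟨h1.1, ?_⟩
  rw [commutator_mul_left_eq, commutatorElement_self, mul_one, mul_inv_cancel, one_mul]
  exact h1.2

/-- Some element of `⁅R, A⁆` moves `u` outside `⁅C_M(a), A⁆`. -/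
theorem exists_moved : ∃ g ∈ (⁅R, A⁆ : Subgroup G), ∃ p, Coord M Q A u a g p ∧ p ∉ E := by
  obtain ⟨g, hg, hgu⟩ := w.moved
  obtain ⟨p, hp⟩ := w.exists_coord hg
  have hpE : p ∉ E := fun hpE => hgu (by
    have := mul_mem (w.E_le_kk hpE) hp.2
    rwa [mul_inv_cancel_left] at this)
  rcases w.top.shape.mem_or_mul_mem hg with h1 | h1
  · exact ⟨g, h1, p, hp, hpE⟩
  · exact ⟨g * u, h1, p, w.coord_mul_u hp, hpE⟩

/-- The commutator of a commutator with `Q`. -/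
theorem pairing {g p q : G} (hg : g ∈ R) (h1 : Coord M Q A u a g p) (hq : q ∈ Q) :
    ⁅⁅g, q⁆, u⁆ = ⁅p, q⁆ := by
  set k₁ := ⁅g, q⁆ with hk₁d
  set k := p⁻¹ * ⁅g, u⁆ with hkd
  have hk₁ : k₁ ∈ ⁅rk M a, A⁆ := w.comm_Q g hg q hq
  have hk : k ∈ ⁅rk M a, A⁆ := h1.2
  have hs := w.top.shape
  have hqu : Commute q u := hs.commute q hq
  have h0 : ⁅k₁ * q, p * (k * u)⁆ = 1 := by
    rw [commutatorElement_eq_one_iff_commute]
    have h := commute_conj hqu g
    rwa [show g * q * g⁻¹ = k₁ * q by rw [hk₁d, commutatorElement_def, inv_mul_cancel_right],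
      show g * u * g⁻¹ = p * (k * u) by
        rw [hkd, commutatorElement_def]; group] at h
  have c1 : ⁅q, k * u⁆ = 1 := commutatorElement_eq_one_iff_commute.mpr
    ((w.commute_kk_Q hk hq).symm.mul_right hqu)
  have hk₁u : ⁅k₁, u⁆ ∈ E := w.base.comm_u_mem_E (w.base.kk_le_rk hk₁) w.F_le
  have c2 : ⁅k₁, p⁆ = 1 := commutatorElement_eq_one_iff_commute.mpr (w.commute_kk_Q hk₁ h1.1)
  have c3 : ⁅k₁, k⁆ = 1 := commutatorElement_eq_one_iff_commute.mpr (w.commute_kk_kk hk₁ hk)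
  have c4 : ⁅q, p * (k * u)⁆ = ⁅q, p⁆ := by
    rw [hs.comm_mul_right (hs.le h1.1) (by rw [c1]; exact E.one_mem), c1, mul_one]
  have c5 : ⁅k₁, p * (k * u)⁆ = ⁅k₁, u⁆ := by
    rw [hs.comm_mul_right (hs.le h1.1) (by
      rw [hs.comm_mul_right (w.kk_mem_R hk) hk₁u, c3, one_mul]; exact hk₁u),
      hs.comm_mul_right (w.kk_mem_R hk) hk₁u, c2, c3, one_mul, one_mul]
  rw [hs.comm_mul_left (w.kk_mem_R hk₁) (by rw [c4]; exact hs.comm_mem q hq p h1.1), c4, c5] at h0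
  rw [eq_inv_of_mul_eq_one_right h0, commutatorElement_inv]

/-- `⁅C_M(a), A⁆` is elementary abelian. -/
theorem kk_sq {x : G} (hx : x ∈ ⁅rk M a, A⁆) : x * x = 1 := by
  obtain ⟨g, hgK, p, hp, hpE⟩ := w.exists_moved
  have hg := w.top.shape.commutator_le hgK
  have hq : a * p * a⁻¹ ∈ Q := w.top.conj_mem_Q w.top.mem hp.1
  set q := a * p * a⁻¹ with hqd
  set k₁ := ⁅g, q⁆ with hk₁d
  have hk₁ : k₁ ∈ ⁅rk M a, A⁆ := w.comm_Q g hg q hq
  have hk₁u : ⁅k₁, u⁆ ≠ 1 := fun e => w.top.not_commute_twist hp.1 hpE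
    (commutatorElement_eq_one_iff_commute.mp ((w.pairing hg hp hq).symm.trans e))
  have hk₁2 : k₁ * k₁ = 1 := by
    have h1 : k₁ * q * (k₁ * q) = q * q := by
      rw [show k₁ * q = g * q * g⁻¹ by rw [hk₁d, commutatorElement_def, inv_mul_cancel_right],
        show g * q * g⁻¹ * (g * q * g⁻¹) = g * (q * q) * g⁻¹ by group,
        w.top.shape.conj_E hg (w.top.shape.sq_mem q hq)]
    rw [(w.commute_kk_Q hk₁ hq).symm.mul_mul_mul_comm] at h1
    exact mul_eq_right.mp h1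
  by_cases hxE : x ∈ E
  · exact w.top.shape.sq x hxE
  have hxu : ⁅x, u⁆ ≠ 1 := fun e =>
    hxE (w.base.mem_E_of_commute_u hx (commutatorElement_eq_one_iff_commute.mp e))
  obtain ⟨b, hb, hbe⟩ := w.top.shape.trans _
    (w.base.comm_u_mem_E (w.base.kk_le_rk hk₁) w.F_le) hk₁u _
    (w.base.comm_u_mem_E (w.base.kk_le_rk hx) w.F_le) hxu
  set y := b * k₁ * b⁻¹ with hyd
  have hy : y ∈ ⁅rk M a, A⁆ :=
    (mem_normalizer_iff.mp (normalizer_commutator_ge_right _ A hb) _).mp hk₁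
  have hye : ⁅y, u⁆ = ⁅x, u⁆ := by rw [hyd, ← w.top.shape.conj_comm_u hb, hbe]
  have hd : y⁻¹ * x ∈ E := by
    refine w.base.mem_E_of_commute_u (mul_mem (inv_mem hy) hx)
      (mul_inv_eq_iff_eq_mul.mp ?_)
    have e := congrArg (· * u) hye
    simp only [commutatorElement_def, inv_mul_cancel_right] at e
    calc y⁻¹ * x * u * (y⁻¹ * x)⁻¹ = y⁻¹ * (x * u * x⁻¹) * y := by group
      _ = u := by rw [← e]; group
  have hy2 : y * y = 1 := by
    rw [hyd, show b * k₁ * b⁻¹ * (b * k₁ * b⁻¹) = b * (k₁ * k₁) * b⁻¹ by group, hk₁2]; group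
  rw [show x = y * (y⁻¹ * x) by group,
    ((w.top.shape.central _ hd y (w.kk_mem_R hy))).mul_mul_mul_comm, hy2,
    w.top.shape.sq _ hd, mul_one]

theorem kk_inv {x : G} (hx : x ∈ ⁅rk M a, A⁆) : x⁻¹ = x :=
  inv_eq_of_mul_eq_one_right (w.kk_sq hx)

/-- An element moving `u` inside `⁅C_M(a), A⁆` lies in `M`. -/
theorem mem_base {g : G} (hg : g ∈ R) (hgu : ⁅g, u⁆ ∈ ⁅rk M a, A⁆) : g ∈ M := by
  have hs := w.top.shape
  obtain ⟨q, hq, k, hk, rfl⟩ := hs.exists_mul_of_comm w.top.mem w.top.centE w.top.free hg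
    (w.base.commute_a (w.base.kk_le_rk hgu))
  refine M.mul_mem (w.base.shape.le hq) ?_
  have hku : ⁅k, u⁆ = ⁅q * k, u⁆ := by
    have e : ⁅q * k, u⁆ = q * ⁅k, u⁆ * q⁻¹ := by
      rw [commutator_mul_left_eq, commutatorElement_eq_one_iff_commute.mpr (hs.commute q hq),
        mul_one]
    calc ⁅k, u⁆ = q⁻¹ * ⁅q * k, u⁆ * q := by rw [e]; group
      _ = ⁅q * k, u⁆ := by
        rw [mul_assoc, (w.commute_kk_Q hgu hq).eq, inv_mul_cancel_left]
  rw [← hku] at hgu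
  have hinv : u * ⁅k, u⁆ * u⁻¹ = ⁅k, u⁆⁻¹ := by
    simp [commutatorElement_def, mul_assoc, hs.inv_u, hs.sq_u]
  have huk : Commute u ⁅k, u⁆ :=
    mul_inv_eq_iff_eq_mul.mp (hinv.trans (w.kk_inv hgu))
  have hkE := w.base.mem_E_of_commute_u hgu huk.symm
  obtain ⟨x, hx, hxe⟩ := w.base.one_exists_comm w.split w.acts w.F_le w.one_layer hkE
  have hc : Commute (x⁻¹ * k) u := by
    refine mul_inv_eq_iff_eq_mul.mp ?_
    have e := congrArg (· * u) hxe
    simp only [commutatorElement_def, inv_mul_cancel_right] at e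
    calc x⁻¹ * k * u * (x⁻¹ * k)⁻¹ = x⁻¹ * (k * u * k⁻¹) * x := by group
      _ = u := by rw [← e]; group
  have hxM : x ∈ M := (w.base.kk_le_rk hx).1
  have h2 : x⁻¹ * k ∈ M := by
    rcases hs.cent _ (R.mul_mem (R.inv_mem (w.kk_mem_R hx)) hk.1) hc with h3 | h3
    · exact w.base.shape.le h3
    · have h4 := M.mul_mem (w.base.shape.le h3) w.base.shape.u_mem
      rwa [mul_assoc, hs.sq_u, mul_one] at h4
  have := M.mul_mem hxM h2
  rwa [mul_inv_cancel_left] at this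

theorem mem_base_comm {g p : G} (hg : g ∈ (⁅R, A⁆ : Subgroup G)) (h1 : Coord M Q A u a g p)
    (hpE : p ∈ E) : g ∈ (⁅M, A⁆ : Subgroup G) := by
  have hgu : ⁅g, u⁆ ∈ ⁅rk M a, A⁆ := by
    have := mul_mem (w.E_le_kk hpE) h1.2
    rwa [mul_inv_cancel_left] at this
  refine (w.base.shape.mem_or_mul_mem (w.mem_base (w.top.shape.commutator_le hg) hgu)).resolve_right
    fun h2 => w.top.u_notMem_comm ?_
  have h3 := (⁅R, A⁆).mul_mem (inv_mem hg) (w.base_le_top h2)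
  rwa [inv_mul_cancel_left] at h3

/-! ### All classes are reached -/

/-- The classes reached by elements of `⁅R, A⁆` centralising `⁅C_M(a), A⁆` are all of `Q / E`. -/
theorem exists_centralizing {q : G} (hq : q ∈ Q) : ∃ g ∈ (⁅R, A⁆ : Subgroup G),
    Coord M Q A u a g q ∧ ∀ x ∈ ⁅rk M a, A⁆, Commute g x := by
  let S : Subgroup G :=
    { carrier := {p | ∃ g ∈ (⁅R, A⁆ : Subgroup G), Coord M Q A u a g p ∧
        ∀ x ∈ ⁅rk M a, A⁆, Commute g x}
      one_mem' := ⟨1, one_mem _, w.coord_one, fun x _ => Commute.one_left x⟩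
      mul_mem' := by
        rintro p p' ⟨g, hg, hp, hc⟩ ⟨g', hg', hp', hc'⟩
        exact ⟨g * g', mul_mem hg hg', w.coord_mul (w.top.shape.commutator_le hg) hp hp',
          fun x hx => (hc x hx).mul_left (hc' x hx)⟩
      inv_mem' := by
        rintro p ⟨g, hg, hp, hc⟩
        exact ⟨g⁻¹, inv_mem hg, w.coord_inv (w.top.shape.commutator_le hg) hp,
          fun x hx => (hc x hx).inv_left⟩ }
  have hAS : A ≤ normalizer (S : Set G) := le_normalizer_iff.mpr fun b hb p hp => by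
    obtain ⟨g, hg, hgp, hc⟩ := hp
    refine ⟨b * g * b⁻¹, (mem_normalizer_iff.mp (w.top.shape.normA_commutator hb) g).mp hg,
      w.coord_conjA hb hgp, fun x hx => ?_⟩
    have hx' := (mem_normalizer_iff.mp
      (normalizer_commutator_ge_right (rk M a) A (inv_mem hb)) x).mp hx
    have h1 := commute_conj (hc _ hx') b
    rwa [show b * (b⁻¹ * x * b⁻¹⁻¹) * b⁻¹ = x by group] at h1
  have hES : E ≤ S := fun e he => ⟨1, one_mem _,
    w.coord_congr w.coord_one (w.top.shape.le_E he) (by rw [mul_one]; exact E.inv_mem he),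
    fun x _ => Commute.one_left x⟩
  obtain ⟨g, hgK, p, hp, hpE⟩ := w.exists_moved
  have hg := w.top.shape.commutator_le hgK
  have hmem : p⁻¹ * (a * p * a⁻¹) ∈ S := by
    refine ⟨g⁻¹ * (a * g * a⁻¹), mul_mem (inv_mem hgK)
      ((mem_normalizer_iff.mp (w.top.shape.normA_commutator w.top.mem) g).mp hgK),
      w.coord_mul (R.inv_mem hg) (w.coord_inv hg hp) (w.coord_conjA w.top.mem hp), fun x hx => ?_⟩
    refine mul_inv_eq_iff_eq_mul.mp ?_
    have hax : Commute a x := w.base.commute_a (w.base.kk_le_rk hx)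
    have hae : Commute a ⁅g, x⁆ :=
      w.top.centE _ (w.base.one_comm_kk w.split w.acts w.F_le w.one_layer hg hx)
    have e1 : a * g * a⁻¹ * x * (a * g * a⁻¹)⁻¹ = g * x * g⁻¹ := by
      calc a * g * a⁻¹ * x * (a * g * a⁻¹)⁻¹ = a * g * (a⁻¹ * x * a) * g⁻¹ * a⁻¹ := by group
        _ = a * (⁅g, x⁆ * x) * a⁻¹ := by
          rw [show a⁻¹ * x * a = x by rw [mul_assoc, ← hax.eq, inv_mul_cancel_left],
            commutatorElement_def]
          group
        _ = g * x * g⁻¹ := by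
          rw [(hae.mul_right hax).eq, mul_inv_cancel_right, commutatorElement_def,
            inv_mul_cancel_right]
    calc g⁻¹ * (a * g * a⁻¹) * x * (g⁻¹ * (a * g * a⁻¹))⁻¹
        = g⁻¹ * (a * g * a⁻¹ * x * (a * g * a⁻¹)⁻¹) * g := by group
      _ = x := by rw [e1]; group
  have hpa : p⁻¹ * (a * p * a⁻¹) ∈ Q :=
    Q.mul_mem (Q.inv_mem hp.1) (w.top.conj_mem_Q w.top.mem hp.1)
  refine w.top.le_of_mem hAS hES hpa hmem (fun he => w.top.not_commute_twist hp.1 hpE ?_) hq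
  have h1 := (Commute.refl p).mul_right (w.top.shape.central _ he p (w.top.shape.le hp.1)).symm
  rwa [mul_inv_cancel_left] at h1

theorem commute_base {g x : G} (hg : g ∈ (⁅M, A⁆ : Subgroup G)) (hx : x ∈ ⁅rk M a, A⁆) :
    Commute g x := by
  obtain ⟨q, hq, k, hk, rfl⟩ := w.base.exists_kk w.split hg
  exact (w.commute_kk_Q hx hq).symm.mul_left (w.commute_kk_kk hk hx)

theorem mem_base_of_coord {g g' p p' : G} (hg : g ∈ (⁅R, A⁆ : Subgroup G))
    (hg' : g' ∈ (⁅R, A⁆ : Subgroup G)) (h : Coord M Q A u a g p) (h' : Coord M Q A u a g' p')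
    (hd : p⁻¹ * p' ∈ E) : g⁻¹ * g' ∈ (⁅M, A⁆ : Subgroup G) :=
  w.mem_base_comm (mul_mem (inv_mem hg) hg')
    (w.coord_mul (R.inv_mem (w.top.shape.commutator_le hg))
      (w.coord_inv (w.top.shape.commutator_le hg) h) h') hd

/-- `⁅R, A⁆` centralises `⁅C_M(a), A⁆`. -/
theorem commute_top {g x : G} (hg : g ∈ (⁅R, A⁆ : Subgroup G)) (hx : x ∈ ⁅rk M a, A⁆) :
    Commute g x := by
  obtain ⟨p, hp⟩ := w.exists_coord (w.top.shape.commutator_le hg)
  obtain ⟨g', hg', hp', hc⟩ := w.exists_centralizing hp.1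
  have h1 := (hc x hx).mul_left
    (w.commute_base (w.mem_base_of_coord hg' hg hp' hp (by rw [inv_mul_cancel]; exact E.one_mem)) hx)
  rwa [mul_inv_cancel_left] at h1

theorem sq_base {g : G} (hg : g ∈ (⁅M, A⁆ : Subgroup G)) : g * g ∈ ⁅rk M a, A⁆ := by
  obtain ⟨q, hq, k, hk, rfl⟩ := w.base.exists_kk w.split hg
  rw [(w.commute_kk_Q hk hq).mul_mul_mul_comm, w.kk_sq hk, mul_one]
  exact w.E_le_kk (w.top.shape.sq_mem q hq)

/-- The two pairings of a square and of a commutator. -/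
theorem pairing_sq {g g' p p' c k m l : G} (hg : g ∈ (⁅R, A⁆ : Subgroup G))
    (hg' : g' ∈ (⁅R, A⁆ : Subgroup G)) (hp : Coord M Q A u a g p) (hp' : Coord M Q A u a g' p')
    (hc : c ∈ Q) (hk : k ∈ ⁅rk M a, A⁆) (hcc : ⁅g', g⁆ = c * k) (hm : m ∈ Q)
    (hl : l ∈ ⁅rk M a, A⁆) (hmm : g * g = m * l) : ⁅p', m⁆ = ⁅p, c⁆ := by
  have hs := w.top.shape
  have hgR := hs.commutator_le hg
  have hg'R := hs.commutator_le hg'
  set j := ⁅g, c⁆ with hjd
  have hj : j ∈ ⁅rk M a, A⁆ := w.comm_Q g hgR c hc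
  have e1 : ⁅g', m⁆ = j * (c * c) := by
    calc ⁅g', m⁆ = ⁅g', m * l⁆ := by
          rw [show ⁅g', m * l⁆ = ⁅g', m⁆ * (m * ⁅g', l⁆ * m⁻¹) by
            simp [commutatorElement_def, mul_assoc],
            commutatorElement_eq_one_iff_commute.mpr (w.commute_top hg' hl)]
          group
      _ = ⁅g', g⁆ * (g * ⁅g', g⁆ * g⁻¹) := by
          rw [← hmm]; simp [commutatorElement_def, mul_assoc]
      _ = c * k * (g * c * g⁻¹ * (g * k * g⁻¹)) := by rw [hcc]; group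
      _ = c * k * (j * c * k) := by
          rw [(w.commute_top hg hk).eq, mul_inv_cancel_right, hjd, commutatorElement_def g c,
            inv_mul_cancel_right]
      _ = c * (k * j) * c * k := by group
      _ = (c * j) * (k * c) * k := by rw [(w.commute_kk_kk hk hj).eq]; group
      _ = j * (c * c) * (k * k) := by
          rw [(w.commute_kk_Q hk hc).eq, (w.commute_kk_Q hj hc).symm.eq]; group
      _ = j * (c * c) := by rw [w.kk_sq hk, mul_one]
  have hcu : ⁅c * c, u⁆ = 1 :=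
    commutatorElement_eq_one_iff_commute.mpr (hs.central _ (hs.sq_mem c hc) u hs.u_mem)
  rw [← w.pairing hg'R hp' hm, e1,
    hs.comm_mul_left (w.kk_mem_R hj) (by rw [hcu]; exact E.one_mem), hcu, one_mul,
    w.pairing hgR hp hc]

/-- The square of `g` times its twist lies in `⁅C_M(a), A⁆`. -/
theorem sq_twist {g p : G} (hg : g ∈ (⁅R, A⁆ : Subgroup G)) (hp : Coord M Q A u a g p) :
    g * (a * g * a⁻¹) * (g * (a * g * a⁻¹)) ∈ ⁅rk M a, A⁆ := by
  have hs := w.top.shape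
  have ha := w.top.mem
  have hgR := hs.commutator_le hg
  set g' := a * g * a⁻¹ with hg'd
  set p' := a * p * a⁻¹ with hp'd
  have hg' : g' ∈ (⁅R, A⁆ : Subgroup G) := (mem_normalizer_iff.mp (hs.normA_commutator ha) g).mp hg
  have hg'R := hs.commutator_le hg'
  have hp' : Coord M Q A u a g' p' := w.coord_conjA ha hp
  by_cases hpE : p ∈ E
  · refine w.sq_base (w.mem_base_comm (mul_mem hg hg') (w.coord_mul hgR hp hp') ?_)
    exact E.mul_mem hpE (w.top.conj_mem_E ha hpE)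
  obtain ⟨m, hm, l, hl, hmm⟩ := w.base.exists_kk w.split
    (w.mem_base_comm (mul_mem hg hg) (w.coord_mul hgR hp hp) (hs.sq_mem p hp.1))
  have hgg : ⁅g', g⁆ ∈ (⁅R, A⁆ : Subgroup G) := by
    rw [commutatorElement_def]
    exact (⁅R, A⁆).mul_mem ((⁅R, A⁆).mul_mem ((⁅R, A⁆).mul_mem hg' hg) (inv_mem hg'))
      ((⁅R, A⁆).inv_mem hg)
  have hggp : Coord M Q A u a ⁅g', g⁆ ⁅p', p⁆ := by
    rw [commutatorElement_def, commutatorElement_def]
    exact w.coord_mul (R.mul_mem (R.mul_mem hg'R hgR) (R.inv_mem hg'R))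
      (w.coord_mul (R.mul_mem hg'R hgR) (w.coord_mul hg'R hp' hp) (w.coord_inv hg'R hp'))
      (w.coord_inv hgR hp)
  obtain ⟨c, hc, k, hk, hcc⟩ := w.base.exists_kk w.split
    (w.mem_base_comm hgg hggp (hs.comm_mem p' hp'.1 p hp.1))
  set m' := a * m * a⁻¹ with hm'd
  have hm' : m' ∈ Q := w.top.conj_mem_Q ha hm
  have hal : Commute a l := w.base.commute_a (w.base.kk_le_rk hl)
  have hmm' : g' * g' = m' * l := by
    rw [hg'd, hm'd, show a * g * a⁻¹ * (a * g * a⁻¹) = a * (g * g) * a⁻¹ by group, hmm,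
      show a * (m * l) * a⁻¹ = a * m * a⁻¹ * (a * l * a⁻¹) by group, hal.eq, mul_inv_cancel_right]
  -- `m` commutes with `p`
  have hmp : ⁅p, m⁆ = 1 := by
    rw [← w.pairing hgR hp hm]
    have h1 : Commute g m := by
      have h2 : Commute g (m * l) := hmm ▸ (Commute.refl g).mul_right (Commute.refl g)
      have h3 := h2.mul_right (w.commute_top hg hl).inv_right
      rwa [mul_inv_cancel_right] at h3
    rw [commutatorElement_eq_one_iff_commute.mpr h1, commutatorElement_one_left]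
  have hm'p' : ⁅p', m'⁆ = 1 := by
    rw [hp'd, hm'd, ← hs.conj_comm, hmp, mul_one, mul_inv_cancel]
  have hsym : ⁅p', m⁆ = ⁅p, m'⁆ := by
    by_cases hmE : m ∈ E
    · rw [hs.comm_E (hs.le hp'.1) hmE, hs.comm_E (hs.le hp.1) (w.top.conj_mem_E ha hmE)]
    obtain ⟨z, hzA, hz, hzm⟩ := w.top.exists_scalar_of_commute hp.1 hpE hm hmE
      (commutatorElement_eq_one_iff_commute.mp hmp)
    have hza : z * a = a * z := congrArg Subtype.val (hs.comm ⟨z, hzA⟩ ⟨a, ha⟩)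
    set z₁ := z * p * z⁻¹ with hz₁
    set e := z₁⁻¹ * m with hed
    have hz₁Q : z₁ ∈ Q := w.top.conj_mem_Q hzA hp.1
    have hz₁' : a * z₁ * a⁻¹ ∈ Q := w.top.conj_mem_Q ha hz₁Q
    have e1 : a * z₁ * a⁻¹ = z * p' * z⁻¹ := by
      calc a * z₁ * a⁻¹ = (a * z) * p * (a * z)⁻¹ := by rw [hz₁]; group
        _ = z * p' * z⁻¹ := by rw [← hza, hp'd]; group
    have hme : m = z₁ * e := by rw [hed, mul_inv_cancel_left]
    have hme' : m' = a * z₁ * a⁻¹ * (a * e * a⁻¹) := by rw [hm'd, hme]; group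
    rw [hme', hme, hs.comm_mul_right (hs.le hz₁Q) (by rw [hs.comm_E (hs.le hp'.1) hzm]; exact E.one_mem),
      hs.comm_E (hs.le hp'.1) hzm, mul_one,
      hs.comm_mul_right (hs.le hz₁')
        (by rw [hs.comm_E (hs.le hp.1) (w.top.conj_mem_E ha hzm)]; exact E.one_mem),
      hs.comm_E (hs.le hp.1) (w.top.conj_mem_E ha hzm), mul_one, e1,
      w.top.comm_swap (w.top.conj_mem_Q hzA hp.1) hp'.1, w.top.comm_shift hzA hz hp.1 hp'.1]
  have f1 := w.pairing_sq hg hg' hp hp' hc hk hcc hm hl hmm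
  have f2 : ⁅p, m'⁆ = ⁅p', c⁆ := by
    have h0 := w.pairing_sq hg' hg hp' hp (Q.inv_mem hc) (inv_mem hk)
      (by rw [← commutatorElement_inv, hcc, mul_inv_rev,
        ((w.commute_kk_Q hk hc).inv_inv).eq]) hm' hl hmm'
    rw [h0]
    have h1 := w.top.comm_right hp'.1 hc (Q.inv_mem hc)
    rw [mul_inv_cancel, commutatorElement_one_right] at h1
    rw [eq_inv_of_mul_eq_one_right h1.symm, hs.inv_E (hs.comm_mem p' hp'.1 c hc)]
  set d := c * m * m' with hdd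
  have hd : d ∈ Q := Q.mul_mem (Q.mul_mem hc hm) hm'
  have hdp : ⁅p, d⁆ = 1 := by
    rw [hdd, w.top.comm_right hp.1 (Q.mul_mem hc hm) hm', w.top.comm_right hp.1 hc hm, hmp,
      mul_one, ← f1, hsym, hs.sq _ (hs.comm_mem p hp.1 m' hm')]
  have hdp' : ⁅p', d⁆ = 1 := by
    rw [hdd, w.top.comm_right hp'.1 (Q.mul_mem hc hm) hm', w.top.comm_right hp'.1 hc hm, hm'p',
      mul_one, ← f2, ← hsym, hs.sq _ (hs.comm_mem p' hp'.1 m hm)]
  have hdE : d ∈ E := by
    have hd' : a⁻¹ * d * a ∈ Q := by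
      have := w.top.conj_mem_Q (inv_mem ha) hd
      rwa [inv_inv] at this
    have h1 : Commute p (a⁻¹ * d * a) := by
      have h2 := commute_conj (commutatorElement_eq_one_iff_commute.mp hdp') a⁻¹
      rwa [hp'd, show a⁻¹ * (a * p * a⁻¹) * a⁻¹⁻¹ = p by group, inv_inv] at h2
    have h3 := commute_conj
      (w.top.commute_line hp.1 hpE hd (commutatorElement_eq_one_iff_commute.mp hdp) hd' h1) a
    rw [show a * (a⁻¹ * d * a) * a⁻¹ = d by group] at h3
    exact hs.mem_E_of_commute_conj ha w.top.centE w.top.free hd h3.symm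
  set j := ⁅g, c⁆ with hjd
  have hj : j ∈ ⁅rk M a, A⁆ := w.comm_Q g hgR c hc
  have hlm : Commute l m' := w.commute_kk_Q hl hm'
  have e : g * g' * (g * g') = d * (j * k) := by
    calc g * g' * (g * g') = g * ⁅g', g⁆ * g⁻¹ * (g * g) * (g' * g') := by
          rw [commutatorElement_def]; group
      _ = g * c * g⁻¹ * (g * k * g⁻¹) * (m * l) * (m' * l) := by rw [hcc, hmm, hmm']; group
      _ = j * c * k * (m * (l * m') * l) := by
          rw [(w.commute_top hg hk).eq, mul_inv_cancel_right, hjd, commutatorElement_def g c]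
          group
      _ = j * c * (k * (m * m')) * (l * l) := by rw [hlm.eq]; group
      _ = j * d * k := by
          rw [w.kk_sq hl, mul_one, (w.commute_kk_Q hk (Q.mul_mem hm hm')).eq, hdd]; group
      _ = d * (j * k) := by rw [(w.commute_kk_Q hj hd).eq, mul_assoc]
  rw [e]
  exact mul_mem (w.E_le_kk hdE) (mul_mem hj hk)

/-- Every class of `Q` modulo `E` is a class `p₀ (a p₀ a⁻¹)`. -/
theorem exists_half {q : G} (hq : q ∈ Q) :
    ∃ p₀ ∈ Q, q⁻¹ * (p₀ * (a * p₀ * a⁻¹)) ∈ E := by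
  have hs := w.top.shape
  have ha := w.top.mem
  have hx : ∀ {p}, p ∈ Q → p * (a * p * a⁻¹) ∈ Q := fun hp => Q.mul_mem hp (w.top.conj_mem_Q ha hp)
  have hce : ∀ {e g}, e ∈ E → g ∈ Q → Commute e g := fun he hg => hs.central _ he _ (hs.le hg)
  let T : Subgroup G :=
    { carrier := {p | p ∈ Q ∧ ∃ p₀ ∈ Q, p⁻¹ * (p₀ * (a * p₀ * a⁻¹)) ∈ E}
      one_mem' := ⟨Q.one_mem, 1, Q.one_mem, by simp [E.one_mem]⟩
      mul_mem' := by
        rintro p r ⟨hp, p₀, hp₀, he⟩ ⟨hr, r₀, hr₀, he'⟩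
        refine ⟨Q.mul_mem hp hr, p₀ * r₀, Q.mul_mem hp₀ hr₀, ?_⟩
        set pa := a * p₀ * a⁻¹ with hpa
        set ra := a * r₀ * a⁻¹ with hra
        have hpaQ : pa ∈ Q := w.top.conj_mem_Q ha hp₀
        have hε : ⁅r₀, pa⁆ ∈ E := hs.comm_mem r₀ hr₀ pa hpaQ
        have e1 : p₀ * r₀ * (a * (p₀ * r₀) * a⁻¹) = ⁅r₀, pa⁆ * (p₀ * pa * (r₀ * ra)) := by
          calc p₀ * r₀ * (a * (p₀ * r₀) * a⁻¹)
              = p₀ * ⁅r₀, pa⁆ * pa * r₀ * ra := by
                rw [hpa, hra, commutatorElement_def]; group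
            _ = _ := by rw [← (hce hε hp₀).eq]; group
        rw [e1, show (p * r)⁻¹ * (⁅r₀, pa⁆ * (p₀ * pa * (r₀ * ra))) =
          r⁻¹ * (p⁻¹ * ⁅r₀, pa⁆) * (p₀ * pa) * (r₀ * ra) by group,
          ← (hce hε (Q.inv_mem hp)).eq,
          show r⁻¹ * (⁅r₀, pa⁆ * p⁻¹) * (p₀ * pa) * (r₀ * ra) =
            r⁻¹ * (⁅r₀, pa⁆ * (p⁻¹ * (p₀ * pa))) * (r₀ * ra) by group,
          ← (hce (E.mul_mem hε he) (Q.inv_mem hr)).eq, mul_assoc]
        exact E.mul_mem (E.mul_mem hε he) he'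
      inv_mem' := by
        rintro p ⟨hp, p₀, hp₀, he⟩
        refine ⟨Q.inv_mem hp, p₀⁻¹, Q.inv_mem hp₀, ?_⟩
        set pa := a * p₀ * a⁻¹ with hpa
        have hpaQ : pa ∈ Q := w.top.conj_mem_Q ha hp₀
        have hε : ⁅p₀⁻¹, pa⁻¹⁆ ∈ E := hs.comm_mem _ (Q.inv_mem hp₀) _ (Q.inv_mem hpaQ)
        have e1 : p₀⁻¹ * (a * p₀⁻¹ * a⁻¹) = ⁅p₀⁻¹, pa⁻¹⁆ * (p₀ * pa)⁻¹ := by
          rw [hpa, commutatorElement_def]; group
        rw [e1, inv_inv, ← mul_assoc, ← (hce hε hp).eq, mul_assoc,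
          show p * (p₀ * pa)⁻¹ = (p * (p⁻¹ * (p₀ * pa)) * p⁻¹)⁻¹ by group,
          (hce he hp).symm.eq, mul_inv_cancel_right]
        exact E.mul_mem hε (E.inv_mem he) }
  have hAT : A ≤ normalizer (T : Set G) := le_normalizer_iff.mpr fun b hb p hp => by
    obtain ⟨hp, p₀, hp₀, he⟩ := hp
    refine ⟨w.top.conj_mem_Q hb hp, b * p₀ * b⁻¹, w.top.conj_mem_Q hb hp₀, ?_⟩
    have hba : b * a = a * b := congrArg Subtype.val (hs.comm ⟨b, hb⟩ ⟨a, ha⟩)
    have e1 : a * (b * p₀ * b⁻¹) * a⁻¹ = b * (a * p₀ * a⁻¹) * b⁻¹ := by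
      calc a * (b * p₀ * b⁻¹) * a⁻¹ = (a * b) * p₀ * (a * b)⁻¹ := by group
        _ = _ := by rw [← hba]; group
    rw [e1, show (b * p * b⁻¹)⁻¹ * (b * p₀ * b⁻¹ * (b * (a * p₀ * a⁻¹) * b⁻¹)) =
      b * (p⁻¹ * (p₀ * (a * p₀ * a⁻¹))) * b⁻¹ by group]
    exact w.top.conj_mem_E hb he
  have hET : E ≤ T := fun e he => ⟨hs.le_E he, 1, Q.one_mem, by simpa using E.inv_mem he⟩
  obtain ⟨g, -, p, hp, hpE⟩ := w.exists_moved
  refine (w.top.le_of_mem hAT hET (hx hp.1)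
    (show p * (a * p * a⁻¹) ∈ T from ⟨hx hp.1, p, hp.1, by rw [inv_mul_cancel]; exact E.one_mem⟩)
    (fun he => w.top.not_commute_twist hp.1 hpE ?_) hq).2
  have h1 := ((Commute.refl p).inv_right).mul_right (hce he hp.1).symm
  rwa [inv_mul_cancel_left] at h1

/-- Squares in `⁅R, A⁆` lie in `⁅C_M(a), A⁆`. -/
theorem sq_top {x : G} (hx : x ∈ (⁅R, A⁆ : Subgroup G)) : x * x ∈ ⁅rk M a, A⁆ := by
  have hs := w.top.shape
  obtain ⟨q, hq⟩ := w.exists_coord (hs.commutator_le hx)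
  obtain ⟨p₀, hp₀, he⟩ := w.exists_half hq.1
  obtain ⟨g, hg, hp, -⟩ := w.exists_centralizing hp₀
  set y := g * (a * g * a⁻¹) with hyd
  have hy : y ∈ (⁅R, A⁆ : Subgroup G) :=
    mul_mem hg ((mem_normalizer_iff.mp (hs.normA_commutator w.top.mem) g).mp hg)
  have hyp : Coord M Q A u a y q := w.coord_congr
    (w.coord_mul (hs.commutator_le hg) hp (w.coord_conjA w.top.mem hp)) hq.1 he
  obtain ⟨s, hsQ, k, hk, hyx⟩ := w.base.exists_kk w.split
    (w.mem_base_of_coord hy hx hyp hq (by rw [inv_mul_cancel]; exact E.one_mem))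
  have hxe : x = y * s * k := by rw [mul_assoc, ← hyx, mul_inv_cancel_left]
  have hcomm : Commute k (y * s) := (w.commute_top hy hk).symm.mul_right (w.commute_kk_Q hk hsQ)
  rw [hxe, hcomm.mul_mul_mul_comm, w.kk_sq hk, mul_one]
  have hy2 : y * y ∈ ⁅rk M a, A⁆ := w.sq_twist hg hp
  have e : y * s * (y * s) = ⁅y, s⁆ * (s * (y * y) * s) := by
    rw [commutatorElement_def]; group
  rw [e, ← (w.commute_kk_Q hy2 hsQ).eq, mul_assoc]
  exact mul_mem (w.comm_Q y (hs.commutator_le hy) s hsQ)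
    (mul_mem hy2 (w.E_le_kk (hs.sq_mem s hsQ)))

theorem comm_top {x y : G} (hx : x ∈ (⁅R, A⁆ : Subgroup G)) (hy : y ∈ (⁅R, A⁆ : Subgroup G)) :
    ⁅x, y⁆ ∈ ⁅rk M a, A⁆ := by
  rw [show ⁅x, y⁆ = x * y * (x * y) * (y⁻¹ * (x⁻¹ * x⁻¹) * y⁻¹⁻¹) * (y⁻¹ * y⁻¹) by
    rw [commutatorElement_def]; group]
  refine mul_mem (mul_mem (w.sq_top (mul_mem hx hy)) ?_) ?_
  · exact w.conj_kk (R.inv_mem (w.top.shape.commutator_le hy)) (w.sq_top (inv_mem hx))
  · exact w.sq_top (inv_mem hy)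

/-- The centraliser in `R` of an element of `⁅R, A⁆` is large. -/
theorem card_centralizer {v : G} (hv : v ∈ (⁅R, A⁆ : Subgroup G)) :
    Nat.card Q * Nat.card Q ≤
      Nat.card (R ⊓ centralizer {v} : Subgroup G) * (Nat.card E * Nat.card E) := by
  classical
  have hs := w.top.shape
  let o : Q → Q := fun p => Quotient.out (QuotientGroup.mk p : Q ⧸ E.subgroupOf Q)
  have ho : ∀ p : Q, ((o p : Q) : G)⁻¹ * p ∈ E := fun p => out_inv_mul_mem p
  have hg : ∀ p : Q, ∃ g ∈ (⁅R, A⁆ : Subgroup G), Coord M Q A u a g (o p) := fun p =>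
    let ⟨g, hg, hp, _⟩ := w.exists_centralizing (o p).2
    ⟨g, hg, hp⟩
  choose γ hγ hγp using hg
  have hoo : ∀ p : Q, o (o p) = o p := fun p => by
    show Quotient.out (QuotientGroup.mk (o p) : Q ⧸ E.subgroupOf Q) = o p
    rw [show (QuotientGroup.mk (o p) : Q ⧸ E.subgroupOf Q) = QuotientGroup.mk p from
      Quotient.out_eq _]
  let f : Q × Q × (⁅rk M a, A⁆ : Subgroup G) → (⁅R, A⁆ : Subgroup G) × E × E := fun t =>
    (⟨γ (o t.1) * ((o t.2.1 : G) * t.2.2), mul_mem (hγ _)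
      (mul_mem (hs.Q_le_commutator (o t.2.1).2) (w.kk_le_top t.2.2.2))⟩,
      ⟨_, ho t.1⟩, ⟨_, ho t.2.1⟩)
  have hf : Function.Injective f := by
    rintro ⟨p, s, k⟩ ⟨p', s', k'⟩ e
    simp only [f, Prod.mk.injEq, Subtype.mk.injEq] at e
    obtain ⟨e1, e2, e3⟩ := e
    have hsk : ∀ (s : Q) (k : (⁅rk M a, A⁆ : Subgroup G)),
        Coord M Q A u a ((o s : G) * k) 1 := fun s k => by
      refine ⟨Q.one_mem, ?_⟩
      rw [inv_one, one_mul, commutator_mul_left_eq,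
        commutatorElement_eq_one_iff_commute.mpr (hs.commute _ (o s).2), mul_one]
      have hE := w.base.comm_u_mem_E (w.base.kk_le_rk k.2) w.F_le
      rw [hs.conj_E (hs.le (o s).2) hE]
      exact w.E_le_kk hE
    have h1 := w.coord_mul (hs.commutator_le (hγ (o p))) (hγp (o p)) (hsk s k)
    have h2 := w.coord_mul (hs.commutator_le (hγ (o p'))) (hγp (o p')) (hsk s' k')
    rw [← e1, mul_one, hoo] at h2
    rw [mul_one, hoo] at h1
    have h3 := w.coord_unique h1 h2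
    have hop : o p = o p' := by
      have h5 : (QuotientGroup.mk (o p) : Q ⧸ E.subgroupOf Q) = QuotientGroup.mk (o p') :=
        QuotientGroup.eq.mpr (mem_subgroupOf.mpr h3)
      rw [← hoo p, ← hoo p']
      exact congrArg Quotient.out h5
    rw [hop] at e1 e2
    have hpp : p = p' := Subtype.ext (mul_left_cancel e2)
    have h4 := mul_left_cancel e1
    have hos : o s = o s' := by
      have h5 : ((o s : Q) : G)⁻¹ * (o s' : Q) ∈ ⁅rk M a, A⁆ := by
        rw [show ((o s : Q) : G)⁻¹ * (o s' : Q) = (k : G) * (k' : G)⁻¹ by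
          rw [eq_mul_inv_iff_mul_eq, mul_assoc, ← h4, inv_mul_cancel_left]]
        exact mul_mem k.2 (inv_mem k'.2)
      have h6 := w.mem_E_of_Q_kk (Q.mul_mem (Q.inv_mem (o s).2) (o s').2) h5
      rw [← hoo s, ← hoo s']
      exact congrArg Quotient.out
        (QuotientGroup.eq.mpr (mem_subgroupOf.mpr h6) :
          (QuotientGroup.mk (o s) : Q ⧸ E.subgroupOf Q) = QuotientGroup.mk (o s'))
    rw [hos] at h4 e3
    exact Prod.ext hpp (Prod.ext (Subtype.ext (mul_left_cancel e3))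
      (Subtype.ext (mul_left_cancel h4)))
  have hlow := Nat.card_le_card_of_injective f hf
  rw [Nat.card_prod, Nat.card_prod, Nat.card_prod, Nat.card_prod] at hlow
  -- the fibres of the commutator with `v`
  let φ : (⁅R, A⁆ : Subgroup G) → (⁅rk M a, A⁆ : Subgroup G) := fun x =>
    ⟨⁅(x : G), v⁆, w.comm_top x.2 hv⟩
  let σ : (⁅rk M a, A⁆ : Subgroup G) → (⁅R, A⁆ : Subgroup G) := Function.invFun φ
  have hfib : ∀ x, φ (σ (φ x)) = φ x := fun x => Function.invFun_eq ⟨x, rfl⟩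
  let ψ : (⁅R, A⁆ : Subgroup G) →
      (R ⊓ centralizer {v} : Subgroup G) × (⁅rk M a, A⁆ : Subgroup G) := fun x =>
    (⟨(σ (φ x) : G)⁻¹ * x, by
      refine mem_inf.mpr ⟨R.mul_mem (R.inv_mem (hs.commutator_le (σ (φ x)).2))
        (hs.commutator_le x.2), mem_centralizer_singleton_iff.mpr ?_⟩
      have e : ⁅((σ (φ x)) : G), v⁆ = ⁅(x : G), v⁆ := congrArg Subtype.val (hfib x)
      have e' := congrArg (· * v) e
      simp only [commutatorElement_def, inv_mul_cancel_right] at e'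
      refine (mul_inv_eq_iff_eq_mul.mp ?_ : _ = v * _)
      calc (σ (φ x) : G)⁻¹ * x * v * ((σ (φ x) : G)⁻¹ * x)⁻¹
          = (σ (φ x) : G)⁻¹ * ((x : G) * v * (x : G)⁻¹) * σ (φ x) := by group
        _ = v := by rw [← e']; group⟩, φ x)
  have hψ : Function.Injective ψ := by
    intro x x' e
    simp only [ψ, Prod.mk.injEq, Subtype.mk.injEq] at e
    rw [e.2] at e
    exact Subtype.ext (mul_left_cancel e.1)
  have hup := Nat.card_le_card_of_injective ψ hψ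
  rw [Nat.card_prod] at hup
  set n := Nat.card (⁅rk M a, A⁆ : Subgroup G)
  refine Nat.le_of_mul_le_mul_right ?_ (Nat.card_pos (α := (⁅rk M a, A⁆ : Subgroup G)))
  calc Nat.card Q * Nat.card Q * n = Nat.card Q * (Nat.card Q * n) := Nat.mul_assoc _ _ _
    _ ≤ Nat.card (⁅R, A⁆ : Subgroup G) * (Nat.card E * Nat.card E) := hlow
    _ ≤ Nat.card (R ⊓ centralizer {v} : Subgroup G) * n * (Nat.card E * Nat.card E) :=
      Nat.mul_le_mul_right _ hup
    _ = _ := Nat.mul_right_comm _ _ _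

/-- No conjugate of `u` with a good conjugation lies in `⁅R, A⁆`. -/
theorem false_of_good {v : G} (hv : v ∈ (⁅R, A⁆ : Subgroup G)) (_hvv : v * v = 1)
    (hg : Good R Q E u v) : False := by
  classical
  obtain ⟨g₀, -, p, hp, hpE⟩ := w.exists_moved
  have hQE : ¬ Q ≤ E := fun hle => hpE (hle hp.1)
  have hQ := w.top.card_Q hQE
  have hlow := w.card_centralizer hv
  obtain ⟨t, -, -, hT⟩ := hg
  let f : (R ⊓ centralizer {v} : Subgroup G) → (Q ⊔ zpowers u : Subgroup G) := fun m =>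
    ⟨t * m * t⁻¹, hT m (mem_inf.mp m.2).1 (mem_centralizer_singleton_iff.mp (mem_inf.mp m.2).2)⟩
  have hf : Function.Injective f := fun m m' e =>
    Subtype.ext (mul_left_cancel (mul_right_cancel (congrArg Subtype.val e)))
  have hup := (Nat.card_le_card_of_injective f hf).trans
    (H29.Asch.card_base_le w.top.shape)
  have h := hlow.trans (Nat.mul_le_mul_right _ hup)
  rw [hQ] at h
  have h4 := w.top.shape.four_le
  set n := Nat.card E
  have h5 : n * (n * n) * (n * n) * n ≤ n * (n * n) * (n * n) * 2 := by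
    calc n * (n * n) * (n * n) * n = n * (n * n) * (n * (n * n)) := by ring
      _ ≤ 2 * (n * (n * n)) * (n * n) := h
      _ = _ := by ring
  have := Nat.le_of_mul_le_mul_left h5 (by positivity)
  omega

/-- The involutions of `R` outside `⁅R, A⁆` are conjugates of `u`. -/
theorem exists_conj {v : G} (hv : v ∈ R) (hvv : v * v = 1) (hvK : v ∉ (⁅R, A⁆ : Subgroup G)) :
    ∃ r ∈ R, r * u * r⁻¹ = v := by
  have hs := w.top.shape
  have hx : v * u ∈ (⁅R, A⁆ : Subgroup G) := (hs.mem_or_mul_mem hv).resolve_left hvK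
  set x := v * u with hxd
  have hvx : v = x * u := by rw [hxd, mul_assoc, hs.sq_u, mul_one]
  have hxu : ⁅x, u⁆ = x * x := by
    rw [commutatorElement_def, hs.inv_u,
      show x⁻¹ = u * x * u from inv_eq_of_mul_eq_one_right (by
        calc x * (u * x * u) = x * u * (x * u) := by group
          _ = 1 := by rw [← hvx, hvv])]
    calc x * u * (u * x * u) * u = x * (u * u) * x * (u * u) := by group
      _ = x * x := by rw [hs.sq_u, mul_one, mul_one]
  have hxK1 : x ∈ (⁅M, A⁆ : Subgroup G) := w.mem_base_comm hx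
    (p := 1) ⟨Q.one_mem, by rw [inv_one, one_mul, hxu]; exact w.sq_top hx⟩ E.one_mem
  obtain ⟨q, hq, k, hk, hxe⟩ := w.base.exists_kk w.split hxK1
  obtain ⟨g, hg, hgq, -⟩ := w.exists_centralizing hq
  set k' := q⁻¹ * ⁅g, u⁆ with hk'd
  have hk' : k' ∈ ⁅rk M a, A⁆ := hgq.2
  set k'' := k * k' with hk''d
  have hk'' : k'' ∈ ⁅rk M a, A⁆ := mul_mem hk hk'
  have hgk : g * k'' * g⁻¹ = k'' := by
    rw [(w.commute_top hg hk'').eq, mul_inv_cancel_right]
  have hgu : g * u * g⁻¹ = q * k' * u := by rw [hk'd, commutatorElement_def]; group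
  have hve : v = g * (k'' * u) * g⁻¹ := by
    rw [show g * (k'' * u) * g⁻¹ = g * k'' * g⁻¹ * (g * u * g⁻¹) by group, hgk, hgu, hvx, hxe]
    calc q * k * u = q * k * (k' * k') * u := by rw [w.kk_sq hk', mul_one]
      _ = (k * k' * q) * k' * u := by
        rw [((w.commute_kk_Q hk hq).mul_left (w.commute_kk_Q hk' hq)).eq]; group
      _ = _ := by rw [hk''d]; group
  have h2 : k'' * u * (k'' * u) = 1 := by
    have h1 : g * (k'' * u * (k'' * u)) * g⁻¹ = 1 := by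
      rw [← hvv, hve]; group
    rwa [conj_eq_one_iff] at h1
  have hku : Commute k'' u := by
    refine (mul_inv_eq_iff_eq_mul.mp ?_ : u * k'' = k'' * u).symm
    rw [hs.inv_u, ← w.kk_inv hk'']
    refine eq_inv_of_mul_eq_one_right ?_
    rw [w.kk_inv hk'']
    calc k'' * (u * k'' * u) = k'' * u * (k'' * u) := by group
      _ = 1 := h2
  obtain ⟨k₂, hk₂, hk₂e⟩ := w.base.one_exists_comm w.split w.acts w.F_le w.one_layer
    (w.base.mem_E_of_commute_u hk'' hku)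
  refine ⟨g * k₂, R.mul_mem (hs.commutator_le hg) (w.kk_mem_R hk₂), ?_⟩
  rw [hve, ← hk₂e, commutatorElement_def]
  group

end Wreath

end Cfsg.Agent.H51.AschU
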