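import Cfsg.Agent.H14.Asch.ShapesFill

/-!
The shape with a twist `a`: `M` is the product of `Q` and `C_M(a)` unless `⁅C_M(a), A⁆` is a single
layer over `E`.
-/

set_option autoImplicit false
set_option linter.style.haveILetI false
set_option linter.unusedSectionVars false

namespace Cfsg.Agent.H14.Asch

open Subgroup
open Cfsg.Agent.H51.Asch (nxt nxt_le nxt_lt sq_mem_nxt comm_mem_nxt norm_nxt TorusData)
open scoped commutatorElement Classical

universe u

variable {G : Type u} [Group G]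

namespace ShapeData

variable {M Q E A : Subgroup G} {u : G} (h : ShapeData M Q E A u) [Finite G] {a : G} (ha : a ∈ A)
  (haE : ∀ e ∈ E, Commute a e) (haQ : ∀ g ∈ Q, Commute a g → g ∈ E)
include h ha haE haQ

/-- An element whose commutator with `u` commutes with the twist lies in `Q C_M(a)`. -/
theorem exists_mul_of_comm {g : G} (hg : g ∈ M) (hgu : Commute a ⁅g, u⁆) :
    ∃ q ∈ Q, ∃ k ∈ M ⊓ centralizer ({a} : Set G), g = q * k := by
  have hau : Commute a u := h.commute_A ha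
  have hcomm := h.twist_centralizes ha haE haQ
  have huk : u ∈ M ⊓ centralizer ({a} : Set G) :=
    ⟨h.u_mem, mem_centralizer_singleton_iff.mpr hau.symm.eq⟩
  have hnormu : zpowers a ≤ normalizer ((M ⊓ centralizer ({u} : Set G) : Subgroup G) : Set G) := by
    refine le_normalizer_iff.mpr fun b hb y hy => ?_
    have hbA : b ∈ A := zpowers_le.mpr ha hb
    refine ⟨(mem_normalizer_iff.mp (h.normM hbA) y).mp hy.1, mem_centralizer_singleton_iff.mpr ?_⟩
    have h1 := commute_conj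
      (show Commute y u from mem_centralizer_singleton_iff.mp hy.2) b
    rw [h.fix b hbA] at h1
    exact h1.eq
  obtain ⟨c, hc, hcs⟩ := Coprime.exists_centralizer_mem_coset
    ((zpowers_le.mpr ha).trans h.normM) (h.coprime_zpowers ha) (Or.inr h.isSolvable)
    (N := M ⊓ centralizer ({u} : Set G)) inf_le_left hnormu hg fun b hb => by
      have hbA : b ∈ A := zpowers_le.mpr ha hb
      have hgb : b * g * b⁻¹ ∈ M := (mem_normalizer_iff.mp (h.normM hbA) g).mp hg
      refine ⟨M.mul_mem (inv_mem hg) hgb, mem_centralizer_singleton_iff.mpr ?_⟩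
      have hbe : Commute b ⁅g, u⁆ := by
        obtain ⟨i, rfl⟩ := mem_zpowers_iff.mp hb
        exact hgu.zpow_left i
      refine mul_inv_eq_iff_eq_mul.mp ?_
      calc g⁻¹ * (b * g * b⁻¹) * u * (g⁻¹ * (b * g * b⁻¹))⁻¹
          = g⁻¹ * (b * g * (b⁻¹ * u * b⁻¹⁻¹) * g⁻¹ * b⁻¹) * g := by group
        _ = g⁻¹ * (b * ⁅g, u⁆ * b⁻¹ * (b * u * b⁻¹)) * g := by
          rw [h.fix b⁻¹ (inv_mem hbA), commutatorElement_def]; group
        _ = u := by
          rw [hbe.eq, mul_inv_cancel_right, h.fix b hbA, commutatorElement_def]; group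
  have hcRk : c ∈ M ⊓ centralizer ({a} : Set G) := ⟨hc.1, mem_centralizer_singleton_iff.mpr
    (mem_centralizer_iff.mp hc.2 a (mem_zpowers a)).symm⟩
  set n := g⁻¹ * c with hn
  have hgc : g = c * n⁻¹ := by rw [hn]; group
  have hnu : Commute n⁻¹ u := (show Commute n u from mem_centralizer_singleton_iff.mp hcs.2).inv_left
  rcases h.cent n⁻¹ (M.inv_mem hcs.1) hnu with h1 | h1
  · exact ⟨_, h1, c, hcRk, by rw [hgc, (hcomm c hcRk _ h1).eq]⟩
  · refine ⟨_, h1, c * u, mul_mem hcRk huk, ?_⟩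
    rw [← (hcomm _ (mul_mem hcRk huk) _ h1).eq, hgc, mul_assoc, ← mul_assoc u, ← hnu.eq, mul_assoc,
      h.sq_u, mul_one]

omit ha in
/-- The product of `Q` and `C_M(a)`. -/
theorem mem_sup_twist (hc : ∀ k ∈ M ⊓ centralizer ({a} : Set G), ∀ q ∈ Q, Commute k q) {g : G} :
    g ∈ Q ⊔ (M ⊓ centralizer ({a} : Set G)) ↔
      ∃ q ∈ Q, ∃ k ∈ M ⊓ centralizer ({a} : Set G), g = q * k := by
  rw [Coprime.mem_sup_iff fun k hk => Cfsg.Agent.H39.mem_normalizer_of_conj_mem fun q hq => by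
    rw [(hc k hk q hq).eq, mul_inv_cancel_right]; exact hq]
  exact ⟨fun ⟨q, hq, k, hk, e⟩ => ⟨q, hq, k, hk, e.symm⟩,
    fun ⟨q, hq, k, hk, e⟩ => ⟨q, hq, k, hk, e.symm⟩⟩

/-- **The product, or a single layer.** -/
theorem product_or_one_layer :
    (∀ g ∈ M, ∃ q ∈ Q, ∃ k ∈ M ⊓ centralizer ({a} : Set G), g = q * k) ∨
      ∀ k ∈ ⁅M ⊓ centralizer ({a} : Set G), A⁆, ⁅k, u⁆ ∈ E := by
  haveI : Fact (Nat.Prime 2) := ⟨Nat.prime_two⟩
  set Rk := M ⊓ centralizer ({a} : Set G) with hRk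
  have htd := h.torusData_twist ha haE haQ
  have hcen := h.twist_centralizes ha haE haQ
  have hmem := fun {g : G} => h.mem_sup_twist haE haQ hcen (g := g)
  set Y := Q ⊔ Rk with hY
  have hYM : Y ≤ M := sup_le h.le inf_le_left
  by_cases hall : M ≤ Y
  · exact Or.inl fun g hg => hmem.mp (hall hg)
  refine Or.inr ?_
  by_contra hdeep
  push Not at hdeep
  obtain ⟨k₀, hk₀, hk₀E⟩ := hdeep
  set F := nxt Rk Rk with hF
  have hFK : F ≤ ⁅Rk, A⁆ := htd.nxt_le_commutator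
  have hFRk : F ≤ Rk := nxt_le le_normalizer
  set w₀ := ⁅k₀, u⁆ with hw₀
  have hw₀F : w₀ ∈ F := comm_mem_nxt (htd.commutator_le hk₀) htd.u_mem
  have hinv : ∀ f ∈ F, u * f * u = f⁻¹ := fun f hf => by
    have := htd.conj_eq_inv hf
    rwa [h.inv_u] at this
  have hmu : ∀ f ∈ F, ⁅f, u⁆ = f * f := fun f hf => by
    have h1 := hinv _ (F.inv_mem hf)
    rw [inv_inv] at h1
    rw [commutatorElement_def, h.inv_u]
    calc f * u * f⁻¹ * u = f * (u * f⁻¹ * u) := by group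
      _ = _ := by rw [h1]
  have hFcomm : ∀ f ∈ F, ∀ g ∈ F, Commute f g := fun f hf g hg => by
    have h1 := hinv _ (F.mul_mem hf hg)
    rw [show u * (f * g) * u = u * f * u * (u * g * u) by
      calc u * (f * g) * u = u * f * (u * u) * g * u := by rw [h.sq_u]; group
        _ = _ := by group, hinv f hf, hinv g hg, mul_inv_rev] at h1
    have h2 : Commute f⁻¹ g⁻¹ := h1
    simpa using h2.inv_inv
  -- an element of the Frattini part with its square in `E` and non-trivial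
  obtain ⟨f₀, hf₀, hf₀E, hf₀1⟩ : ∃ f ∈ F, f * f ∈ E ∧ f * f ≠ 1 := by
    have hne1 : w₀ * w₀ ≠ 1 := fun e => hk₀E (htd.mem_of_sq_eq_one hw₀F e)
    obtain ⟨n, hn⟩ := IsPGroup.iff_orderOf.mp htd.two ⟨w₀, hFRk hw₀F⟩
    rw [Subgroup.orderOf_mk] at hn
    have hn2 : 2 ≤ n := by
      by_contra hlt
      refine hne1 ?_
      rw [← pow_two]
      refine orderOf_dvd_iff_pow_eq_one.mp (hn ▸ ?_)
      calc 2 ^ n ∣ 2 ^ 1 := pow_dvd_pow 2 (by omega)
        _ = 2 := pow_one 2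
    refine ⟨w₀ ^ 2 ^ (n - 2), pow_mem hw₀F _, htd.mem_of_sq_eq_one
      (mul_mem (pow_mem hw₀F _) (pow_mem hw₀F _)) ?_, fun e => ?_⟩
    · rw [← pow_add, ← pow_add]
      refine orderOf_dvd_iff_pow_eq_one.mp (hn ▸ dvd_of_eq ?_)
      conv_lhs => rw [show n = n - 2 + 2 by omega, pow_add]
      ring
    · rw [← pow_add] at e
      have h1 := Nat.le_of_dvd (by positivity) (hn ▸ orderOf_dvd_of_pow_eq_one e)
      have h2 : 2 ^ (n - 2) + 2 ^ (n - 2) < 2 ^ n := by
        rw [← two_mul, ← pow_succ']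
        exact Nat.pow_lt_pow_right (by norm_num) (by omega)
      omega
  have hAF : A ≤ normalizer (F : Set G) := norm_nxt htd.normM htd.normM
  have hEF : E ≤ F := by
    intro e he
    by_cases he1 : e = 1
    · rw [he1]; exact one_mem _
    obtain ⟨b, hb, hbe⟩ := h.trans _ hf₀E hf₀1 e he he1
    rw [← hbe]
    exact (mem_normalizer_iff.mp (hAF hb) _).mp (F.mul_mem hf₀ hf₀)
  -- a new element normalising the product
  have hne : Y.subgroupOf M ≠ ⊤ := fun e => hall (subgroupOf_eq_top.mp e)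
  obtain ⟨⟨r, hr⟩, hrN, hrY⟩ := SetLike.exists_of_lt (PGroups.lt_normalizer h.two hne)
  have hrY' : r ∉ Y := fun hh => hrY (mem_subgroupOf.mpr hh)
  have hconjY : ∀ g ∈ Y, r * g * r⁻¹ ∈ Y := fun g hg =>
    (mem_normalizer_iff.mp hrN ⟨g, hYM hg⟩).mp hg
  have hconjF : ∀ f ∈ F, r * f * r⁻¹ ∈ F := by
    have hle : F ≤ F.comap (MulAut.conj r).toMonoidHom := by
      refine sup_le (Subgroup.commutator_le.mpr fun x hx y hy => ?_) ((closure_le _).mpr ?_)
      · obtain ⟨q, hq, k, hk, e⟩ := hmem.mp (hconjY x (mem_sup_right hx))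
        obtain ⟨q', hq', k', hk', e'⟩ := hmem.mp (hconjY y (mem_sup_right hy))
        show r * ⁅x, y⁆ * r⁻¹ ∈ F
        rw [h.conj_comm, e, e']
        have hqq : ⁅q, q' * k'⁆ = ⁅q, q'⁆ := by
          rw [show ⁅q, q' * k'⁆ = ⁅q, q'⁆ * (q' * ⁅q, k'⁆ * q'⁻¹) by
            simp [commutatorElement_def, mul_assoc],
            commutatorElement_eq_one_iff_mul_comm.mpr (hcen k' hk' q hq).symm.eq]
          group
        have hkk : ⁅k, q' * k'⁆ = ⁅k, k'⁆ * 1 := by
          rw [show ⁅k, q' * k'⁆ = ⁅k, q'⁆ * (q' * ⁅k, k'⁆ * q'⁻¹) by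
            simp [commutatorElement_def, mul_assoc],
            commutatorElement_eq_one_iff_mul_comm.mpr (hcen k hk q' hq').eq, one_mul, mul_one,
            ← (hcen ⁅k, k'⁆ (hFRk (comm_mem_nxt hk hk')) q' hq').eq, mul_inv_cancel_right]
        have hexp : ⁅q * k, q' * k'⁆ = q * ⁅k, q' * k'⁆ * q⁻¹ * ⁅q, q' * k'⁆ := by
          simp [commutatorElement_def, mul_assoc]
        rw [hexp, hqq, hkk, mul_one]
        refine mul_mem ?_ (hEF (h.comm_mem q hq q' hq'))
        rw [← (hcen ⁅k, k'⁆ (hFRk (comm_mem_nxt hk hk')) q hq).eq, mul_inv_cancel_right]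
        exact comm_mem_nxt hk hk'
      · rintro _ ⟨x, hx, rfl⟩
        obtain ⟨q, hq, k, hk, e⟩ := hmem.mp (hconjY x (mem_sup_right hx))
        show r * (x * x) * r⁻¹ ∈ F
        rw [show r * (x * x) * r⁻¹ = r * x * r⁻¹ * (r * x * r⁻¹) by group, e,
          (hcen k hk q hq).mul_mul_mul_comm]
        exact mul_mem (hEF (h.sq_mem q hq)) (sq_mem_nxt hk)
    exact fun f hf => hle hf
  have hrF : r ∈ normalizer (F : Set G) := Cfsg.Agent.H39.mem_normalizer_of_conj_mem hconjF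
  set z := ⁅r, u⁆ with hz
  have huY : u ∈ Y := mem_sup_right htd.u_mem
  have hzY : z ∈ Y := by
    rw [hz, commutatorElement_def, h.inv_u]
    exact Y.mul_mem (hconjY u huY) huY
  have hu' : r * u * r⁻¹ = z * u := by rw [hz, commutatorElement_def, inv_mul_cancel_right]
  have hzF : ∀ f ∈ F, Commute z f := by
    intro f hf
    obtain ⟨f', hf', rfl⟩ : ∃ f' ∈ F, r * f' * r⁻¹ = f :=
      ⟨r⁻¹ * f * r, by
        have := (mem_normalizer_iff.mp (inv_mem hrF) f).mp hf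
        rwa [inv_inv] at this, by group⟩
    refine mul_inv_eq_iff_eq_mul.mp ?_
    have hfr : r * f' * r⁻¹ ∈ F := hconjF f' hf'
    calc z * (r * f' * r⁻¹) * z⁻¹ = (r * u * r⁻¹) * (u * (r * f' * r⁻¹) * u) * (r * u * r⁻¹)⁻¹ := by
          rw [hz, commutatorElement_def, h.inv_u]; simp [mul_assoc, h.inv_u]
      _ = (r * u * r⁻¹) * (r * f'⁻¹ * r⁻¹) * (r * u * r⁻¹)⁻¹ := by rw [hinv _ hfr]; group
      _ = r * (u * f'⁻¹ * u⁻¹) * r⁻¹ := by group
      _ = r * f' * r⁻¹ := by rw [h.inv_u, hinv _ (F.inv_mem hf'), inv_inv]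
  obtain ⟨q₀, hq₀, n, hn, hzqn⟩ := hmem.mp hzY
  have hq₀E : q₀ ∉ E := by
    intro hq0
    refine hrY' (hmem.mpr (h.exists_mul_of_comm ha haE haQ hr ?_))
    rw [← hz, hzqn]
    exact (haE q₀ hq0).mul_right (mem_centralizer_singleton_iff.mp hn.2).symm
  have hnF : ∀ f ∈ F, Commute n f := fun f hf => by
    have h1 := (hcen f (hFRk hf) q₀ hq₀).symm.inv_left.mul_left (hzF f hf)
    rwa [hzqn, inv_mul_cancel_left] at h1
  set q₁ := a * q₀ * a⁻¹ with hq₁
  have hq₁Q : q₁ ∈ Q := (mem_normalizer_iff.mp (h.normQ ha) _).mp hq₀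
  set β := ⁅q₁, q₀⁆ with hβ
  have hβE : β ∈ E := h.comm_mem q₁ hq₁Q q₀ hq₀
  have hβ1 : β ≠ 1 := fun e => hq₀E (h.mem_E_of_commute_conj ha haE haQ hq₀
    (commutatorElement_eq_one_iff_mul_comm.mp e : Commute q₁ q₀).symm)
  obtain ⟨b, hb, hbe⟩ := h.trans _ hf₀E hf₀1 β hβE hβ1
  set x := b * f₀ * b⁻¹ with hx
  have hxF : x ∈ F := (mem_normalizer_iff.mp (hAF hb) _).mp hf₀
  have hx2 : x * x = β := by rw [← hbe, hx]; group
  -- the extra involution in the centraliser of `r u r⁻¹`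
  set q := q₀ * q₁ with hq
  have hqQ : q ∈ Q := Q.mul_mem hq₀ hq₁Q
  have hqq : q * q = β := by
    have h1 : q₁ * q₀ = β * (q₀ * q₁) := by rw [hβ, commutatorElement_def]; group
    have h2 : q₁ * q₁ = q₀ * q₀ := by
      rw [hq₁, show a * q₀ * a⁻¹ * (a * q₀ * a⁻¹) = a * (q₀ * q₀) * a⁻¹ by group,
        (haE _ (h.sq_mem q₀ hq₀)).eq, mul_inv_cancel_right]
    calc q * q = q₀ * (q₁ * q₀) * q₁ := by rw [hq]; group
      _ = q₀ * β * (q₀ * q₁) * q₁ := by rw [h1]; group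
      _ = β * q₀ * (q₀ * q₁) * q₁ := by rw [(h.central β hβE q₀ (h.le hq₀)).eq]
      _ = β * ((q₀ * q₀) * (q₁ * q₁)) := by group
      _ = β := by rw [h2, h.sq _ (h.sq_mem q₀ hq₀), mul_one]
  set y := q * x with hy
  have hyM : y ∈ M := M.mul_mem (h.le hqQ) (hFRk hxF).1
  have hy2 : y * y = 1 := by
    rw [hy, (hcen x (hFRk hxF) q hqQ).mul_mul_mul_comm, hqq, hx2, h.sq β hβE]
  have hyu' : Commute y (r * u * r⁻¹) := by
    rw [hu', hzqn]
    have h1 : q * q₀ * q⁻¹ = β * q₀ := by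
      rw [(h.central β hβE q₀ (h.le hq₀)).eq, hq, hβ, commutatorElement_def]; group
    have h2 : x * u * x⁻¹ = β * u := by
      rw [← hx2, ← hmu x hxF, commutatorElement_def, inv_mul_cancel_right]
    refine mul_inv_eq_iff_eq_mul.mp ?_
    calc y * (q₀ * n * u) * y⁻¹
        = q * (x * q₀ * x⁻¹) * ((x * n * x⁻¹) * (x * u * x⁻¹)) * q⁻¹ := by rw [hy]; group
      _ = q * q₀ * (n * (β * u)) * q⁻¹ := by
          rw [(hcen x (hFRk hxF) q₀ hq₀).eq, mul_inv_cancel_right, ← (hnF x hxF).eq,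
            mul_inv_cancel_right, h2]
      _ = q * q₀ * q⁻¹ * (q * (n * (β * u)) * q⁻¹) := by group
      _ = β * q₀ * (n * (β * u)) := by
          rw [h1, ← (hcen _ (mul_mem hn (mul_mem (hFRk (hEF hβE)) htd.u_mem)) q hqQ).eq,
            mul_inv_cancel_right]
      _ = (q₀ * β) * ((β * n) * u) := by
          rw [(h.central β hβE q₀ (h.le hq₀)).eq, ← mul_assoc n β u,
            ← (h.central β hβE n hn.1).eq]
      _ = q₀ * (β * β) * n * u := by group
      _ = q₀ * n * u := by rw [h.sq β hβE, mul_one]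
  have hyK : y ∈ ⁅M, A⁆ := mul_mem (h.Q_le_commutator hqQ)
    (commutator_mono inf_le_left le_rfl (hFK hxF))
  have hqE : q ∉ E := fun hqE => hβ1 (by rw [← hqq, h.sq q hqE])
  -- but `C_M(r u r⁻¹)` is conjugate to `Q ⟨u⟩`
  set w := r⁻¹ * y * r with hw
  have hwM : w ∈ M := M.mul_mem (M.mul_mem (M.inv_mem hr) hyM) hr
  have hw2 : w * w = 1 := by
    rw [hw, show r⁻¹ * y * r * (r⁻¹ * y * r) = r⁻¹ * (y * y) * r by group, hy2]; group
  have hwu : Commute w u := by
    have h1 := commute_conj hyu' r⁻¹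
    rwa [show r⁻¹ * (r * u * r⁻¹) * r⁻¹⁻¹ = u by group,
      show r⁻¹ * y * r⁻¹⁻¹ = w by rw [hw, inv_inv]] at h1
  rcases h.cent w hwM hwu with h1 | h1
  · have h2 := h.omega w h1 hw2
    have h3 : y = w := by
      rw [show y = r * w * r⁻¹ by rw [hw]; group, h.conj_E hr h2]
    refine hqE (haQ q hqQ ?_)
    have h4 : Commute a (y * x⁻¹) :=
      (haE y (h3 ▸ h2)).mul_right
        (show Commute a x from (mem_centralizer_singleton_iff.mp (hFRk hxF).2).symm).inv_right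
    rwa [hy, mul_inv_cancel_right] at h4
  · refine h.u_notMem_commutator (Or.inr ⟨a, ha, haE, haQ⟩) ?_
    have hwK : w ∈ ⁅M, A⁆ := by
      rw [hw]
      have := (mem_normalizer_iff.mp (h.normM_commutator (M.inv_mem hr)) y).mp hyK
      rwa [inv_inv] at this
    have := (⁅M, A⁆).mul_mem ((⁅M, A⁆).inv_mem hwK) (h.Q_le_commutator h1)
    rwa [inv_mul_cancel_left] at this

end ShapeData

end Cfsg.Agent.H14.Asch
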