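import Cfsg.Agent.H14.Asch.Crit

/-!
The lines of the criterion: their involutions are members, every point and every pair of a line
carries the same number of them, the member conjugating one member to another at a different point
is unique, and the count of the members off the fixed points of an involution.
-/

set_option autoImplicit false

namespace Cfsg.Agent.H14.Asch

open Subgroup MulAction
open Cfsg.Agent.H39

variable {G : Type*} [Group G] {Ω : Type*} [MulAction G Ω] {D : Set G}

/-- The members commuting with `u` which map `x` to `y`. -/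
def commSwap (D : Set G) (u : G) (x y : Ω) : Set G := {d | d ∈ D ∧ Commute d u ∧ d • x = y}

/-- The members commuting with `u`. -/
def commMembers (D : Set G) (u : G) : Set G := {d | d ∈ D ∧ Commute d u}

theorem commute_of_mem_lineGroup {u g : G} (hg : g ∈ lineGroup D u) : Commute g u :=
  mem_centralizer_singleton_iff.mp ((closure_le _).mpr Set.inter_subset_right hg)

namespace Crit

variable [Finite G] (h : Crit G Ω D)
include h

/-- The involutions of a line are members. -/
theorem mem_of_mem_lineGroup {u j : G} (hu : orderOf u = 2) {x y : Ω} (hxy : x ≠ y)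
    (hx : u • x = x) (hy : u • y = y) (hj : orderOf j = 2) (hmem : j ∈ lineGroup D u) : j ∈ D := by
  obtain ⟨d, hd, -, hdu⟩ := h.comm hu hx
  obtain ⟨g, -, hg⟩ :=
    (h.line hu hxy hx hy).exists_conj (mem_lineGroup hd hdu.symm) hmem (h.inv hd) hj
  exact hg ▸ h.conj_mem hd g

theorem setOf_line_eq {u : G} (hu : orderOf u = 2) {x y : Ω} (hxy : x ≠ y)
    (hx : u • x = x) (hy : u • y = y) (a b : Ω) :
    {i : G | i ∈ lineGroup D u ∧ orderOf i = 2 ∧ i • a = b} = commSwap D u a b := by
  ext i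
  exact ⟨fun hi => ⟨h.mem_of_mem_lineGroup hu hxy hx hy hi.2.1 hi.1,
    commute_of_mem_lineGroup hi.1, hi.2.2⟩,
    fun hi => ⟨mem_lineGroup hi.1 hi.2.1, h.inv hi.1, hi.2.2⟩⟩

/-- EQ: each pair of fixed points of `u` is joined by as many members commuting with `u` as fix
one of the fixed points. -/
theorem card_commSwap [Finite Ω] {u : G} (hu : orderOf u = 2) {x y : Ω} (hxy : x ≠ y)
    (hx : u • x = x) (hy : u • y = y) {a b c : Ω} (ha : u • a = a) (hb : u • b = b)
    (hc : u • c = c) :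
    Nat.card (commSwap D u a b) = Nat.card (commSwap D u c c) := by
  have hS := h.line hu hxy hx hy
  rw [← h.setOf_line_eq hu hxy hx hy, ← h.setOf_line_eq hu hxy hx hy]
  exact (hS.card_swap ha hb).trans (hS.card_inv_at_eq ha hc)

/-- The member conjugating a member to one at another point is unique. -/
theorem swapper_unique [Finite Ω] {p q : Ω} (hpq : p ≠ q) {d e w w' : G} (hd : d ∈ D)
    (hp : d • p = p) (hw : w ∈ swappers D p q) (hw' : w' ∈ swappers D p q)
    (hwe : w * d * w⁻¹ = e) (hwe' : w' * d * w'⁻¹ = e) : w = w' := by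
  classical
  let f : swappers D p q × swappers D p p → swappers D p p × swappers D q q := fun r =>
    (r.2, ⟨(r.1 : G) * r.2 * (r.1 : G)⁻¹, h.conj_mem r.2.2.1 _,
      by
      have h0 := H73.Bender.conj_smul_of_smul (g := (r.1 : G)) r.2.2.2
      rwa [r.1.2.2] at h0⟩)
  have hsurj : Function.Surjective f := by
    rintro ⟨⟨a, ha⟩, ⟨b, hb⟩⟩
    obtain ⟨s, hs, hsc⟩ := h.exists_swapper ha.1 hb.1 ha.2 hb.2 hpq
    exact ⟨(⟨s, hs⟩, ⟨a, ha⟩), Prod.ext rfl (Subtype.ext hsc)⟩
  have hbij := hsurj.bijective_of_nat_card_le (by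
    rw [Nat.card_prod, Nat.card_prod, h.card_swappers p q, h.card_at_eq q p])
  have h1 : f (⟨w, hw⟩, ⟨d, hd, hp⟩) = f (⟨w', hw'⟩, ⟨d, hd, hp⟩) :=
    Prod.ext rfl (Subtype.ext (hwe.trans hwe'.symm))
  exact congrArg (fun r => (r.1 : G)) (hbij.1 h1)

/-- The member conjugating `d` to its conjugate by `u` commutes with `u`. -/
theorem exists_middle [Finite Ω] {u d : G} (hu : orderOf u = 2) (hd : d ∈ D) {p : Ω}
    (hp : d • p = p) (hne : u • p ≠ p) :
    ∃ a ∈ commMembers D u, a • p = u • p ∧ a * d * a⁻¹ = u * d * u⁻¹ := by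
  have hup : (u * d * u⁻¹) • u • p = u • p := H73.Bender.conj_smul_of_smul hp
  obtain ⟨a, ha, hac⟩ := h.exists_swapper hd (h.conj_mem hd u) hp hup hne.symm
  refine ⟨a, ⟨ha.1, ?_⟩, ha.2, hac⟩
  have hui := inv_eq_of_orderOf_eq_two hu
  have hai := inv_eq_of_orderOf_eq_two (h.inv ha.1)
  have hsw : u * a * u⁻¹ ∈ swappers D p (u • p) := by
    refine ⟨h.conj_mem ha.1 u, ?_⟩
    rw [hui, mul_smul, mul_smul, h.smul_swap ha.1 ha.2]
  have hconj : u * a * u⁻¹ * d * (u * a * u⁻¹)⁻¹ = u * d * u⁻¹ := by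
    have h2 : a * (u * d * u⁻¹) * a⁻¹ = d := by
      rw [← hac]
      calc a * (a * d * a⁻¹) * a⁻¹ = (a * a) * d * (a * a)⁻¹ := by group
        _ = d := by rw [mul_self_of_orderOf_eq_two (h.inv ha.1)]; group
    calc u * a * u⁻¹ * d * (u * a * u⁻¹)⁻¹ = u * (a * (u⁻¹ * d * u) * a⁻¹) * u⁻¹ := by group
      _ = u * d * u⁻¹ := by
        rw [show u⁻¹ * d * u = u * d * u⁻¹ by rw [hui], h2]
  exact (mul_inv_eq_iff_eq_mul.mp (h.swapper_unique hne.symm hd hp hsw ha hconj hac)).symm

/-- G4: the members with point moved by `u`, distributed over their middles. -/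
theorem count_formula [Finite Ω] {u : G} (hu : orderOf u = 2) {x y : Ω} (hxy : x ≠ y)
    (hx : u • x = x) (hy : u • y = y) [Fintype (commMembers D u)] (p : commMembers D u → Ω)
    (hp : ∀ a : commMembers D u, (a : G) • p a = p a) (z : Ω) :
    Nat.card (swappers D z z) * (Nat.card Ω - Nat.card (fixedBy Ω u)) =
      ∑ a : commMembers D u, Nat.card (commSwap D (u * (a : G)) (p a) (p a)) *
        (Nat.card (fixedBy Ω (u * (a : G))) - 1) := by
  classical
  haveI : Fintype Ω := Fintype.ofFinite Ω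
  -- the fixed point of a middle
  have hup : ∀ a : commMembers D u, u • p a = p a := fun a =>
    h.fix_of_commute a.2.1 a.2.2.symm (hp a)
  have huap : ∀ a : commMembers D u, (u * (a : G)) • p a = p a := fun a => by
    rw [mul_smul, hp, hup]
  have hua : ∀ a : commMembers D u, orderOf (u * (a : G)) = 2 := by
    intro a
    refine orderOf_eq_two_of_mul_self ?_ fun h1 => hxy ?_
    · rw [mul_assoc, ← mul_assoc (a : G) u a, a.2.2.eq, mul_assoc u (a : G) a,
        mul_self_of_orderOf_eq_two (h.inv a.2.1), mul_one, mul_self_of_orderOf_eq_two hu]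
    · have hau : u = (a : G) :=
        (eq_inv_of_mul_eq_one_left h1).trans (inv_eq_of_orderOf_eq_two (h.inv a.2.1))
      exact h.eq_of_fixed a.2.1 (hau ▸ hx) (hau ▸ hy)
  have hmeet : ∀ (a : commMembers D u) {c : Ω}, (u * (a : G)) • c = c → (u • c = c ↔ c = p a) := by
    intro a c hc
    refine ⟨fun huc => h.eq_of_fixed a.2.1 ?_ (hp a), fun e => e ▸ hup a⟩
    rw [mul_smul] at hc
    exact MulAction.injective u (hc.trans huc.symm)
  let T := Σ c : {c : Ω // u • c ≠ c}, swappers D c.1 c.1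
  let R := Σ a : commMembers D u,
    Σ c : {c : Ω // (u * (a : G)) • c = c ∧ c ≠ p a}, commSwap D (u * (a : G)) c.1 c.1
  let g : R → T := fun r => ⟨⟨r.2.1.1, fun e => r.2.1.2.2 ((hmeet r.1 r.2.1.2.1).mp e)⟩,
    r.2.2.1, r.2.2.2.1, r.2.2.2.2.2⟩
  have hcomm : ∀ (a d : G), Commute d (u * a) → Commute a u → orderOf a = 2 →
      a * d * a⁻¹ = u * d * u⁻¹ := by
    intro a d hd hau ha
    have h1 : u * a * d * (u * a)⁻¹ = d := mul_inv_eq_iff_eq_mul.mpr hd.eq.symm
    conv_rhs => rw [← h1]
    calc a * d * a⁻¹ = (u * u) * a * d * a⁻¹ * (u * u)⁻¹ := by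
          rw [mul_self_of_orderOf_eq_two hu]; group
      _ = _ := by group
  have hg : Function.Bijective g := by
    constructor
    · rintro ⟨a, ⟨c, hc, hcp⟩, ⟨d, hd⟩⟩ ⟨a', ⟨c', hc', hcp'⟩, ⟨d', hd'⟩⟩ e
      obtain rfl : c = c' := congrArg (fun t : T => t.1.1) e
      obtain rfl : d = d' := congrArg (fun t : T => (t.2 : G)) e
      have hne : c ≠ u • c := fun e' => hcp ((hmeet a hc).mp e'.symm)
      have hsw : ∀ b : commMembers D u, (u * (b : G)) • c = c → (b : G) ∈ swappers D c (u • c) := by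
        intro b hb
        refine ⟨b.2.1, ?_⟩
        rw [mul_smul] at hb
        rw [← H73.Bender.swap_symm hu hb]
      obtain rfl : a = a' := Subtype.ext (h.swapper_unique hne hd.1 hd.2.2 (hsw a hc) (hsw a' hc')
        (hcomm a d hd.2.1 a.2.2 (h.inv a.2.1)) (hcomm a' d hd'.2.1 a'.2.2 (h.inv a'.2.1)))
      rfl
    · rintro ⟨⟨c, hc⟩, ⟨d, hd, hdc⟩⟩
      obtain ⟨a, ha, hac, hconj⟩ := h.exists_middle hu hd hdc hc
      have hfix : (u * a) • c = c := by rw [mul_smul, hac, ← mul_smul,
        mul_self_of_orderOf_eq_two hu, one_smul]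
      have hd' : Commute d (u * a) := by
        have h1 : u * a * d * (u * a)⁻¹ = d := by
          calc u * a * d * (u * a)⁻¹ = u * (a * d * a⁻¹) * u⁻¹ := by group
            _ = (u * u) * d * (u * u)⁻¹ := by rw [hconj]; group
            _ = d := by rw [mul_self_of_orderOf_eq_two hu]; group
        exact (mul_inv_eq_iff_eq_mul.mp h1).symm
      exact ⟨⟨⟨a, ha⟩, ⟨c, hfix, fun e => hc (e ▸ hup ⟨a, ha⟩)⟩, ⟨d, hd, hd', hdc⟩⟩, rfl⟩
  have hT : Nat.card T = Nat.card (swappers D z z) * (Nat.card Ω - Nat.card (fixedBy Ω u)) := by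
    rw [Nat.card_sigma, Finset.sum_congr rfl fun c _ => h.card_at_eq c.1 z, Finset.sum_const,
      Finset.card_univ, smul_eq_mul, mul_comm, Fintype.card_subtype_compl,
      ← Nat.card_eq_fintype_card, ← Nat.card_eq_fintype_card]
    rfl
  have hR : Nat.card R = ∑ a : commMembers D u, Nat.card (commSwap D (u * (a : G)) (p a) (p a)) *
      (Nat.card (fixedBy Ω (u * (a : G))) - 1) := by
    rw [Nat.card_sigma]
    refine Finset.sum_congr rfl fun a _ => ?_
    rw [Nat.card_sigma]
    have hconst : ∀ c : {c : Ω // (u * (a : G)) • c = c ∧ c ≠ p a},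
        Nat.card (commSwap D (u * (a : G)) c.1 c.1) =
          Nat.card (commSwap D (u * (a : G)) (p a) (p a)) := fun c =>
      h.card_commSwap (hua a) c.2.2 c.2.1 (huap a) c.2.1 c.2.1 (huap a)
    rw [Finset.sum_congr rfl fun c _ => hconst c, Finset.sum_const, Finset.card_univ, smul_eq_mul,
      mul_comm, ← Nat.card_eq_fintype_card]
    congr 1
    change Nat.card ({c : Ω | (u * (a : G)) • c = c ∧ c ≠ p a} : Set Ω) = _
    rw [Nat.card_coe_set_eq, Nat.card_coe_set_eq,
      ← Set.ncard_sdiff_singleton_of_mem (show p a ∈ fixedBy Ω (u * (a : G)) from huap a)]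
    rfl
  rw [← hT, ← hR]
  exact (Nat.card_congr (Equiv.ofBijective g hg)).symm

end Crit

end Cfsg.Agent.H14.Asch
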