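import Cfsg.Agent.H73.Asch.Line
import Cfsg.Agent.H39.Basic

/-!
A pair with a largest two-subgroup in its stabiliser: a central involution `u` of that subgroup has
a line `E`, `Q` at the first point, the two-part of the point stabiliser is at least
`|E| |Q| |T|`, so `|E| |Q|` divides the orbit lengths off the point and `|Ω| - 1`.
-/

set_option autoImplicit false
set_option linter.style.haveILetI false

namespace Cfsg.Agent.H14.Asch

open Subgroup MulAction
open Cfsg.Agent.H39
open Cfsg.Agent.H73.Asch (Line RankTwoBad HasLines)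

universe u v

variable {G : Type u} [Group G] {Ω : Type v} [MulAction G Ω] {D : Set G}

/-- A largest two-subgroup of a pair stabiliser with a central involution. -/
structure MaxPair (u : G) (x y : Ω) (T : Subgroup G) : Prop where
  ne : x ≠ y
  le : T ≤ pairStab G x y
  isPGroup : IsPGroup 2 T
  mem : u ∈ T
  two : orderOf u = 2
  central : ∀ g ∈ T, Commute g u
  max : ∀ (a b : Ω), a ≠ b → ∀ P : Subgroup G, IsPGroup 2 P → P ≤ pairStab G a b →
    Nat.card P ≤ Nat.card T

namespace MaxPair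

variable {u : G} {x y : Ω} {T : Subgroup G} (hM : MaxPair u x y T)
include hM

theorem fix : u • x = x := (mem_pairStab.mp (hM.le hM.mem)).1

theorem fix' : u • y = y := (mem_pairStab.mp (hM.le hM.mem)).2

end MaxPair

/-- An involution with two fixed points lies below a largest two-subgroup of a pair stabiliser. -/
theorem exists_maxPair [Finite G] {v : G} {a b : Ω} (hv : orderOf v = 2) (hab : a ≠ b)
    (ha : v • a = a) (hb : v • b = b) :
    ∃ (u : G) (x y : Ω) (T : Subgroup G), MaxPair u x y T := by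
  haveI : Fact (Nat.Prime 2) := ⟨Nat.prime_two⟩
  set F : Set (Subgroup G) :=
    {P | IsPGroup 2 P ∧ ∃ c d : Ω, c ≠ d ∧ P ≤ pairStab G c d} with hF
  have hvF : zpowers v ∈ F :=
    ⟨IsPGroup.of_card (n := 1) (by rw [Nat.card_zpowers, hv]; rfl), a, b, hab,
      zpowers_le.mpr (mem_pairStab.mpr ⟨ha, hb⟩)⟩
  obtain ⟨T, ⟨hT, x, y, hxy, hle⟩, hmax⟩ :=
    F.exists_max_image (fun P => Nat.card P) (Set.toFinite F) ⟨_, hvF⟩
  haveI : Nontrivial T := by
    rw [← Finite.one_lt_card_iff_nontrivial]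
    have h2 : Nat.card (zpowers v) ≤ Nat.card T := hmax _ hvF
    rw [Nat.card_zpowers, hv] at h2
    omega
  haveI := hT.center_nontrivial
  obtain ⟨n, hn⟩ := IsPGroup.iff_card.mp (hT.to_subgroup (center T))
  have hdvd : 2 ∣ Nat.card (center T) := by
    have h1 : 1 < Nat.card (center T) := Finite.one_lt_card
    rcases n with _ | n
    · rw [pow_zero] at hn; omega
    · rw [hn]; exact dvd_pow_self 2 n.succ_ne_zero
  obtain ⟨c, hc⟩ := exists_prime_orderOf_dvd_card' 2 hdvd
  refine ⟨((c : T) : G), x, y, T, hxy, hle, hT, (c : T).2, ?_, fun g hg => ?_,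
    fun c' d' hcd P hP hPle => hmax P ⟨hP, c', d', hcd, hPle⟩⟩
  · rw [Subgroup.orderOf_coe, Subgroup.orderOf_coe, hc]
  · exact congrArg Subtype.val (Subgroup.mem_center_iff.mp c.2 ⟨g, hg⟩)

/-- A largest pair with the line of its involution at the first point. -/
theorem exists_maxPair_line [Finite G] (hlines : HasLines Ω D)
    (hrank : ∀ v : G, orderOf v = 2 → ∀ a b : Ω, a ≠ b → v • a = a → v • b = b → RankTwoBad Ω D v)
    {v : G} {a b : Ω} (hv : orderOf v = 2) (hab : a ≠ b) (ha : v • a = a) (hb : v • b = b) :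
    ∃ (u : G) (x y : Ω) (T E Q : Subgroup G), MaxPair u x y T ∧ Line D u x E Q := by
  obtain ⟨u, x, y, T, hM⟩ := exists_maxPair hv hab ha hb
  obtain ⟨E, Q, hl⟩ := hlines u x (hrank u hM.two x y hM.ne hM.fix hM.fix') hM.fix
  exact ⟨u, x, y, T, E, Q, hM, hl⟩

section Line

variable [Finite G] (h : Crit G Ω D) {u : G} {x : Ω} {E Q : Subgroup G} (hl : Line D u x E Q)
include hl

omit [Finite G] in
theorem line_commute {g : G} (hg : g ∈ Q) : Commute g u :=
  commute_of_mem_lineGroup (hl.Q_le hg).1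

omit [Finite G] in
/-- `Q` has one element for each fixed point of `u` other than `x`. -/
theorem card_Q_add_one [Finite Ω] :
    Nat.card Q + 1 = Nat.card (fixedBy Ω u) := by
  obtain ⟨-, ⟨a, b, hab, ha, hb⟩, -⟩ := hl.bad
  obtain ⟨y, hy, hyx⟩ : ∃ y : Ω, u • y = y ∧ y ≠ x := by
    rcases eq_or_ne a x with e | e
    · exact ⟨b, hb, fun e' => hab (e.trans e'.symm)⟩
    · exact ⟨a, ha, e⟩
  have hgx : ∀ g ∈ Q, g • x = x := fun g hg => mem_stabilizer_iff.mp (hl.Q_le hg).2
  let f : Q → ↥(fixedBy Ω u \ {x}) := fun g => ⟨(g : G) • y,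
    smul_fixed_of_commute (line_commute hl g.2) hy,
    fun e => hyx (MulAction.injective (g : G)
      ((Set.mem_singleton_iff.mp e).trans (hgx g g.2).symm))⟩
  have hf : Function.Bijective f := by
    refine ⟨fun g k e => ?_, fun z => ?_⟩
    · have e1 : (g : G) • y = (k : G) • y := congrArg Subtype.val e
      have h1 := hl.free _ (mul_mem (inv_mem k.2) g.2) y hy hyx
        (by rw [mul_smul, e1, inv_smul_smul])
      exact Subtype.ext (inv_mul_eq_one.mp h1).symm
    · obtain ⟨g, hg, hgz⟩ := hl.trans y z hy z.2.1 hyx fun e => z.2.2 e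
      exact ⟨⟨g, hg⟩, Subtype.ext hgz⟩
  rw [Nat.card_congr (Equiv.ofBijective f hf), Nat.card_coe_set_eq, Nat.card_coe_set_eq,
    Set.ncard_sdiff_singleton_add_one (show x ∈ fixedBy Ω u from hl.fix)]

include h in
/-- An element fixing `x` taking `u` into `u E#` normalises `E`, if one conjugate does. -/
theorem exists_conj_fix [Finite Ω] {a : G} (ha : a ∈ E) (ha1 : a ≠ 1)
    (hg : ∃ g : G, g * u * g⁻¹ = u * a) :
    ∃ k : G, k • x = x ∧ k * u * k⁻¹ = u * a ∧ ∀ e ∈ E, k * e * k⁻¹ ∈ E := by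
  obtain ⟨g, hg⟩ := hg
  have haS : a ∈ commSwap D u x x := ((hl.mem_E a).mp ha).resolve_left ha1
  obtain ⟨hu2, ⟨p, q, hpq, hp, hq⟩, -⟩ := hl.bad
  have hx' : (g * u * g⁻¹) • x = x := by rw [hg, mul_smul, haS.2.2, hl.fix]
  have hfx : u • g⁻¹ • x = g⁻¹ • x := by
    have := H73.Bender.conj_smul_of_smul (g := g⁻¹) hx'
    rwa [show g⁻¹ * (g * u * g⁻¹) * g⁻¹⁻¹ = u by group] at this
  obtain ⟨l, hlL, hlx⟩ := (h.line hu2 hpq hp hq).trans (show x ∈ fixedBy Ω u from hl.fix)
    (show g⁻¹ • x ∈ fixedBy Ω u from hfx)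
  have hkx : (g * l) • x = x := by rw [mul_smul, hlx, smul_inv_smul]
  have hku : g * l * u * (g * l)⁻¹ = u * a := by
    rw [show g * l * u * (g * l)⁻¹ = g * (l * u * l⁻¹) * g⁻¹ by group,
      show l * u * l⁻¹ = u from mul_inv_eq_iff_eq_mul.mpr (commute_of_mem_lineGroup hlL).eq, hg]
  set k := g * l with hk
  have hE : ∀ e ∈ commSwap D u x x, e ∈ E := fun e he => (hl.mem_E e).mpr (Or.inr he)
  have hsub : commSwap D u x x ⊆ commSwap D (u * a) x x := fun e he =>
    ⟨he.1, he.2.1.mul_right (hl.central e (hE e he) a (hl.E_le ha)), he.2.2⟩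
  have himg : ∀ e ∈ commSwap D u x x, k * e * k⁻¹ ∈ commSwap D (u * a) x x := by
    intro e he
    refine ⟨h.conj_mem he.1 k, ?_, ?_⟩
    · rw [← hku]
      show k * e * k⁻¹ * (k * u * k⁻¹) = k * u * k⁻¹ * (k * e * k⁻¹)
      rw [show k * e * k⁻¹ * (k * u * k⁻¹) = k * (e * u) * k⁻¹ by group, he.2.1.eq]
      group
    · have h1 := H73.Bender.conj_smul_of_smul (g := k) he.2.2
      rwa [hkx] at h1
  have himg' : ∀ e ∈ commSwap D (u * a) x x, k⁻¹ * e * k ∈ commSwap D u x x := by
    intro e he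
    refine ⟨by simpa using h.conj_mem he.1 k⁻¹, ?_, ?_⟩
    · show k⁻¹ * e * k * u = u * (k⁻¹ * e * k)
      rw [show k⁻¹ * e * k * u = k⁻¹ * (e * (k * u * k⁻¹)) * k by group, hku, he.2.1.eq, ← hku]
      group
    · have h1 := H73.Bender.conj_smul_of_smul (g := k⁻¹) he.2.2
      rwa [inv_smul_eq_iff.mpr hkx.symm, inv_inv] at h1
  have hcard : (commSwap D (u * a) x x).ncard ≤ (commSwap D u x x).ncard :=
    Set.ncard_le_ncard_of_injOn (fun e => k⁻¹ * e * k) himg'
      (fun _ _ _ _ e => mul_left_cancel (mul_right_cancel e))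
  have heq := Set.eq_of_subset_of_ncard_le hsub hcard
  refine ⟨k, hkx, hku, fun e he => ?_⟩
  rcases (hl.mem_E e).mp he with rfl | he'
  · simp
  · exact hE _ (heq ▸ himg e he')

include h in
/-- F6: the two-part of the stabiliser of `x` is at least `|E| |Q| |T|`. -/
theorem card_mul_dvd_stabilizer [Finite Ω] {y : Ω} {T : Subgroup G} (hM : MaxPair u x y T)
    (hconj : ∀ a ∈ E, a ≠ 1 → ∃ g : G, g * u * g⁻¹ = u * a)
    (R : Sylow 2 (stabilizer G x)) :
    Nat.card E * Nat.card Q * Nat.card T ∣ Nat.card (R : Subgroup (stabilizer G x)) := by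
  haveI : Fact (Nat.Prime 2) := ⟨Nat.prime_two⟩
  have hTfix : ∀ g ∈ T, g • x = x := fun g hg => (mem_pairStab.mp (hM.le hg)).1
  have hTn : T ≤ normalizer (Q : Set G) := fun g hg => mem_normalizer_of_conj_mem
    fun k hk => hl.normal g (hM.central g hg) (hTfix g hg) k hk
  set P := T ⊔ Q with hP
  have hPp : IsPGroup 2 P := hM.isPGroup.to_sup_of_normal_right' hl.isPGroup hTn
  have hPle : P ≤ stabilizer G x :=
    sup_le (fun g hg => mem_stabilizer_iff.mpr (hTfix g hg)) fun g hg => (hl.Q_le hg).2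
  have hPu : ∀ g ∈ P, Commute g u := by
    have h1 : P ≤ centralizer {u} := sup_le
      (fun g hg => mem_centralizer_singleton_iff.mpr (hM.central g hg).eq)
      fun g hg => mem_centralizer_singleton_iff.mpr (line_commute hl hg).eq
    exact fun g hg => mem_centralizer_singleton_iff.mp (h1 hg)
  have hPcard : Nat.card Q * Nat.card T ∣ Nat.card P := by
    obtain ⟨i, hi⟩ := IsPGroup.iff_card.mp hl.isPGroup
    obtain ⟨j, hj⟩ := IsPGroup.iff_card.mp hM.isPGroup
    obtain ⟨n, hn⟩ := IsPGroup.iff_card.mp hPp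
    rw [hi, hj, hn, ← pow_add]
    refine Nat.pow_dvd_pow 2 ((Nat.pow_le_pow_iff_right one_lt_two).mp ?_)
    rw [pow_add, ← hi, ← hj, ← hn, ← Nat.card_prod]
    refine Nat.card_le_card_of_injective (fun r => (⟨(r.1 : G) * r.2,
      mul_mem (mem_sup_right r.1.2) (mem_sup_left r.2.2)⟩ : P)) ?_
    rintro ⟨g, t⟩ ⟨g', t'⟩ e
    have e1 : (g : G) * t = g' * t' := congrArg Subtype.val e
    have e2 : (g' : G)⁻¹ * g = (t' : G) * (t : G)⁻¹ := by
      rw [eq_mul_inv_iff_mul_eq, mul_assoc, e1, inv_mul_cancel_left]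
    have h1 := hl.free _ (mul_mem (inv_mem g'.2) g.2) y hM.fix' hM.ne.symm (by
      rw [e2]
      exact (mem_pairStab.mp (hM.le (mul_mem t'.2 (inv_mem t.2)))).2)
    have hgg : g = g' := Subtype.ext (inv_mul_eq_one.mp h1).symm
    subst hgg
    exact Prod.ext rfl (Subtype.ext (mul_left_cancel e1))
  -- the group moving `u` inside `u E`
  obtain ⟨hu2, hubad, -⟩ := hl.bad
  have huu := mul_self_of_orderOf_eq_two hu2
  have huE : ∀ e ∈ E, Commute u e := fun e he => (line_commute hl (hl.E_le he)).symm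
  let W : Subgroup G :=
    { carrier := {w | w ∈ E ∨ u * w ∈ E}
      one_mem' := Or.inl (one_mem E)
      mul_mem' := by
        rintro w w' (hw | hw) (hw' | hw')
        · exact Or.inl (mul_mem hw hw')
        · refine Or.inr ?_
          rw [← mul_assoc, (huE w hw).eq, mul_assoc]
          exact mul_mem hw hw'
        · exact Or.inr (by rw [← mul_assoc]; exact mul_mem hw hw')
        · refine Or.inl ?_
          have hc : Commute u (u * w) := huE _ hw
          have e : w * w' = (u * w) * (u * w') := by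
            rw [← mul_assoc (u * w), ← hc.eq, ← mul_assoc u u w, huu, one_mul]
          rw [e]
          exact mul_mem hw hw'
      inv_mem' := by
        rintro w (hw | hw)
        · exact Or.inl (inv_mem hw)
        · refine Or.inr ?_
          have hc : Commute u (u * w) := huE _ hw
          have e : u * w⁻¹ = (u * w)⁻¹ := by
            rw [show u * w⁻¹ = u * (u * w)⁻¹ * u by group, hc.inv_right.eq, mul_assoc, huu, mul_one]
          rw [e]
          exact inv_mem hw }
  have hmemW : ∀ {w : G}, w ∈ W ↔ w ∈ E ∨ u * w ∈ E := Iff.rfl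
  set M : Subgroup G := stabilizer G x ⊓ normalizer (W : Set G) with hMdef
  have hCM : ∀ g : G, g • x = x → Commute g u → g ∈ M := fun g hgx hgu => by
    refine ⟨hgx, mem_normalizer_of_conj_mem fun w hw => ?_⟩
    have hEn : ∀ e ∈ E, g * e * g⁻¹ ∈ E := by
      intro e he
      rcases (hl.mem_E e).mp he with rfl | he'
      · simp
      · refine (hl.mem_E _).mpr (Or.inr ⟨h.conj_mem he'.1 g, ?_, ?_⟩)
        · exact ((hgu.mul_left he'.2.1).mul_left hgu.inv_left)
        · have h1 := H73.Bender.conj_smul_of_smul (g := g) he'.2.2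
          rwa [hgx] at h1
    rcases hmemW.mp hw with hw' | hw'
    · exact hmemW.mpr (Or.inl (hEn w hw'))
    · refine hmemW.mpr (Or.inr ?_)
      have := hEn _ hw'
      rwa [show g * (u * w) * g⁻¹ = (g * u * g⁻¹) * (g * w * g⁻¹) by group,
        mul_inv_eq_iff_eq_mul.mpr hgu.eq] at this
  letI : MulAction M G := MulAction.compHom G (MulAut.conj.comp M.subtype)
  have hsmul : ∀ (g : M) (w : G), g • w = (g : G) * w * (g : G)⁻¹ := fun g w => rfl
  have horb : orbit M u = (u * ·) '' (E : Set G) := by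
    ext w
    constructor
    · rintro ⟨⟨g, hgx, hgn⟩, rfl⟩
      show g * u * g⁻¹ ∈ _
      rcases hmemW.mp ((Subgroup.mem_normalizer_iff.mp hgn u).mp
        (hmemW.mpr (Or.inr (by rw [huu]; exact one_mem E)))) with hw | hw
      · exfalso
        rcases (hl.mem_E _).mp hw with e | e
        · exact ne_one_of_orderOf_eq_two hu2 (conj_eq_one_iff.mp e)
        · obtain ⟨p, q, hpq, hp, hq⟩ := hubad
          exact hpq (MulAction.injective g (h.eq_of_fixed e.1
            (H73.Bender.conj_smul_of_smul hp) (H73.Bender.conj_smul_of_smul hq)))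
      · exact ⟨_, hw, by show u * (u * (g * u * g⁻¹)) = _; rw [← mul_assoc, huu, one_mul]⟩
    · rintro ⟨a, ha, rfl⟩
      rcases eq_or_ne a 1 with rfl | ha1
      · exact ⟨1, by show (1 : M) • u = u * 1; rw [one_smul, mul_one]⟩
      obtain ⟨k, hkx, hku, hkE⟩ := exists_conj_fix h hl ha ha1 (hconj a ha ha1)
      refine ⟨⟨k, hkx, mem_normalizer_of_conj_mem fun w hw => ?_⟩, hku⟩
      rcases hmemW.mp hw with hw' | hw'
      · exact hmemW.mpr (Or.inl (hkE w hw'))
      · refine hmemW.mpr (Or.inr ?_)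
        have e : u * (k * w * k⁻¹) = a * (k * (u * w) * k⁻¹) := by
          have hua : k * u * k⁻¹ = a * u := hku.trans (huE a ha).eq
          have e1 : k * (u * w) * k⁻¹ = (a * u) * (k * w * k⁻¹) := by rw [← hua]; group
          have haa : a * a = 1 := mul_self_of_orderOf_eq_two
            (h.inv (((hl.mem_E a).mp ha).resolve_left ha1).1)
          rw [e1]; simp only [← mul_assoc, haa, one_mul]
        rw [e]
        exact mul_mem ha (hkE _ hw')
  have horbcard : Nat.card (orbit M u) = Nat.card E := by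
    rw [horb, Nat.card_image_of_injective (mul_right_injective u)]
    rfl
  have hPM : P ≤ M := fun g hg => hCM g (mem_stabilizer_iff.mp (hPle hg)) (hPu g hg)
  have hPstab : P.subgroupOf M ≤ stabilizer M u := fun g hg => by
    rw [mem_stabilizer_iff, hsmul, mul_inv_eq_iff_eq_mul]
    exact (hPu _ hg).eq
  have hdvd : Nat.card E * (Nat.card Q * Nat.card T) ∣ Nat.card (stabilizer G x) := by
    refine dvd_trans ?_ (Subgroup.card_dvd_of_le (inf_le_left : M ≤ stabilizer G x))
    rw [← Nat.card_congr (orbitProdStabilizerEquivGroup M u), Nat.card_prod, horbcard]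
    refine Nat.mul_dvd_mul_left _ (hPcard.trans ?_)
    rw [← Nat.card_congr (Subgroup.subgroupOfEquivOfLe hPM).toEquiv]
    exact Subgroup.card_dvd_of_le hPstab
  obtain ⟨i, hi⟩ := IsPGroup.iff_card.mp (hl.isPGroup.to_le hl.E_le)
  obtain ⟨j, hj⟩ := IsPGroup.iff_card.mp hl.isPGroup
  obtain ⟨n, hn⟩ := IsPGroup.iff_card.mp hM.isPGroup
  rw [hi, hj, hn, ← pow_add, ← pow_add] at hdvd
  rw [mul_assoc, hi, hj, hn, ← pow_add, ← pow_add]
  exact R.pow_dvd_card_of_pow_dvd_card hdvd

include h in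
/-- F6: the orbits of a Sylow two-subgroup of the stabiliser off `x` are divisible by `|E| |Q|`. -/
theorem card_mul_dvd_orbit [Finite Ω] {y : Ω} {T : Subgroup G} (hM : MaxPair u x y T)
    (hconj : ∀ a ∈ E, a ≠ 1 → ∃ g : G, g * u * g⁻¹ = u * a)
    (R : Sylow 2 (stabilizer G x)) {z : Ω} (hz : z ≠ x) :
    Nat.card E * Nat.card Q ∣ Nat.card (orbit (R : Subgroup (stabilizer G x)) z) := by
  have hR := card_mul_dvd_stabilizer h hl hM hconj R
  set Rz := stabilizer (R : Subgroup (stabilizer G x)) z with hRz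
  obtain ⟨k, hk⟩ := IsPGroup.iff_card.mp (R.isPGroup'.to_subgroup Rz)
  obtain ⟨n, hn⟩ := IsPGroup.iff_card.mp hM.isPGroup
  have hle : Nat.card Rz ≤ Nat.card T := by
    set f : Rz →* G :=
      ((stabilizer G x).subtype.comp (R : Subgroup (stabilizer G x)).subtype).comp Rz.subtype
    have hf : Function.Injective f := fun a b e => Subtype.ext (Subtype.ext (Subtype.ext e))
    rw [Nat.card_congr (MonoidHom.ofInjective hf).toEquiv]
    refine hM.max z x hz f.range ((R.isPGroup'.to_subgroup Rz).of_surjective f.rangeRestrict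
      f.rangeRestrict_surjective) ?_
    rintro _ ⟨g, rfl⟩
    exact mem_pairStab.mpr ⟨g.2, mem_stabilizer_iff.mp g.1.1.2⟩
  rw [← Nat.card_congr (orbitProdStabilizerEquivGroup (R : Subgroup (stabilizer G x)) z),
    Nat.card_prod, ← hRz] at hR
  refine Nat.dvd_of_mul_dvd_mul_right (Nat.card_pos (α := Rz)) (dvd_trans ?_ hR)
  rw [hk, hn] at hle ⊢
  exact Nat.mul_dvd_mul_left _ (Nat.pow_dvd_pow 2 ((Nat.pow_le_pow_iff_right one_lt_two).mp hle))

include h in
/-- **F6**: `|E| |Q|` divides `|Ω| - 1`. -/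
theorem card_mul_dvd_card_sub_one [Finite Ω] {y : Ω} {T : Subgroup G} (hM : MaxPair u x y T)
    (hconj : ∀ a ∈ E, a ≠ 1 → ∃ g : G, g * u * g⁻¹ = u * a) :
    Nat.card E * Nat.card Q ∣ Nat.card Ω - 1 := by
  classical
  let R : Sylow 2 (stabilizer G x) := default
  haveI := Fintype.ofFinite (orbitRel.Quotient (R : Subgroup (stabilizer G x)) Ω)
  rw [Nat.card_congr (selfEquivSigmaOrbits (R : Subgroup (stabilizer G x)) Ω), Nat.card_sigma]
  set q₀ : orbitRel.Quotient (R : Subgroup (stabilizer G x)) Ω := Quotient.mk'' x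
  rw [← Finset.add_sum_erase _ _ (Finset.mem_univ q₀)]
  have h0 : Nat.card (orbit (R : Subgroup (stabilizer G x)) (Quotient.out q₀)) = 1 := by
    have hx : Quotient.out q₀ ∈ orbit (R : Subgroup (stabilizer G x)) x :=
      Quotient.exact (Quotient.out_eq q₀)
    have hone : orbit (R : Subgroup (stabilizer G x)) x = {x} := by
      ext w
      constructor
      · rintro ⟨g, rfl⟩
        exact Set.mem_singleton_iff.mpr (mem_stabilizer_iff.mp g.1.2)
      · rintro rfl
        exact mem_orbit_self _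
    rw [orbit_eq_iff.mpr hx, hone, Nat.card_coe_set_eq, Set.ncard_singleton]
  rw [h0, Nat.add_sub_cancel_left]
  refine Finset.dvd_sum fun q hq => card_mul_dvd_orbit h hl hM hconj R fun e => ?_
  refine (Finset.mem_erase.mp hq).1 ?_
  rw [← Quotient.out_eq q, e]

end Line

end Cfsg.Agent.H14.Asch
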