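import Cfsg.Agent.H14.Asch.RankOne

/-!
The involutions of rank one lie outside the subgroup generated by the members: normal four groups
through a central member of a Sylow 2-subgroup, and the case of a cyclic self-centralising
subgroup.
-/

set_option autoImplicit false
set_option linter.style.haveILetI false

namespace Cfsg.Agent.H14.Asch

open Subgroup MulAction
open Cfsg.Agent.H39

universe u v

variable {G : Type u} [Group G] {Ω : Type v} [MulAction G Ω] {D : Set G}

theorem conj_swap_eq {s t z : G}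
    (hst : s * t * s⁻¹ = t * z) (ht : orderOf t = 2) : t * s * t⁻¹ = z * s := by
  have h1 : s * t⁻¹ = (t * z) * s := by
    rw [inv_eq_of_orderOf_eq_two ht, ← hst, inv_mul_cancel_right]
  calc t * s * t⁻¹ = t * (s * t⁻¹) := by group
    _ = (t * t) * z * s := by rw [h1]; group
    _ = z * s := by rw [mul_self_of_orderOf_eq_two ht, one_mul]

theorem not_commute_of_twist {s t z : G} (hz : z ≠ 1) (hst : s * t * s⁻¹ = t * z) :
    ¬ Commute s t := fun hc => hz (by
  rw [conj_eq_of_commute hc] at hst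
  exact mul_eq_left.mp hst.symm)

theorem mul_commute_of_twist {s₁ s₂ t z : G} (hz : z * z = 1) (hc : Commute s₁ z)
    (h₁ : s₁ * t * s₁⁻¹ = t * z) (h₂ : s₂ * t * s₂⁻¹ = t * z) : Commute (s₁ * s₂) t := by
  refine commute_of_conj_eq ?_
  calc s₁ * s₂ * t * (s₁ * s₂)⁻¹ = s₁ * (s₂ * t * s₂⁻¹) * s₁⁻¹ := by group
    _ = (s₁ * t * s₁⁻¹) * (s₁ * z * s₁⁻¹) := by rw [h₂]; group
    _ = t := by rw [h₁, conj_eq_of_commute hc, mul_assoc, hz, mul_one]

/-- `T` is a Sylow 2-subgroup in which the member `z` is central. -/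
structure CenterCtx (D : Set G) (S : Sylow 2 G) (z : G) : Prop where
  mem : z ∈ D
  memS : z ∈ (S : Subgroup G)
  central : ∀ s ∈ (S : Subgroup G), Commute s z

/-- `t` spans with `z` a normal four group of `S`. -/
structure FourCtx (D : Set G) (S : Sylow 2 G) (z t : G) : Prop extends CenterCtx D S z where
  tS : t ∈ (S : Subgroup G)
  t2 : orderOf t = 2
  ne : t ≠ z
  conj : ∀ s ∈ (S : Subgroup G), s * t * s⁻¹ = t ∨ s * t * s⁻¹ = t * z

variable [Finite G] [Finite Ω] (h : Crit G Ω D)
include h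

namespace Crit

omit [Finite G] [Finite Ω] in
theorem center_ne_one {S : Sylow 2 G} {z : G} (hc : CenterCtx D S z) : z * z = 1 ∧ z ≠ 1 :=
  ⟨mul_self_of_orderOf_eq_two (h.inv hc.mem), ne_one_of_orderOf_eq_two (h.inv hc.mem)⟩

omit [Finite G] [Finite Ω] in
theorem exists_conj_mem_sylow [Finite G] {u : G} (hu : RankOne Ω D u) (S : Sylow 2 G) :
    ∃ g : G, g * u * g⁻¹ ∈ (S : Subgroup G) ∧ RankOne Ω D (g * u * g⁻¹) := by
  haveI : Fact (Nat.Prime 2) := ⟨Nat.prime_two⟩
  obtain ⟨g, hg⟩ := exists_conj_le_sylow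
    (IsPGroup.of_card (n := 1) (by rw [Nat.card_zpowers, hu.1]; rfl) : IsPGroup 2 (zpowers u)) S
  exact ⟨g, hg u (mem_zpowers u), h.rankOne_conj hu g⟩

omit [Finite Ω] in
/-- A normal four group without rank one involutions in its centraliser removes them all. -/
theorem kill_four {u : G} (hu : RankOne Ω D u) {S : Sylow 2 G} {z t : G}
    (hc : FourCtx D S z t)
    (hno : ∀ v, RankOne Ω D v → v ∈ (S : Subgroup G) → ¬ Commute v t) : u ∉ closure D := by
  intro hmem
  obtain ⟨g, hgS, hv⟩ := h.exists_conj_mem_sylow hu S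
  refine h.not_mem_closure_of_transfer (b := t) hv hc.mem S hgS
    ((S : Subgroup G) ⊓ centralizer {t}) inf_le_left ?_
    (fun w hw hwQ => hno w hw hwQ.1 (mem_centralizer_singleton_iff.mp hwQ.2)) ?_
    (h.closure_conj_mem hmem g)
  · refine Subgroup.relIndex_eq_two_iff.mpr ⟨_, hgS, fun b hb => ?_⟩
    set v := g * u * g⁻¹
    have hvt : v * t * v⁻¹ = t * z :=
      (hc.conj v hgS).resolve_left fun e => hno v hv hgS (commute_of_conj_eq e)
    rcases hc.conj b hb with hbt | hbt
    · refine Or.inr ⟨⟨hb, mem_centralizer_singleton_iff.mpr (commute_of_conj_eq hbt).eq⟩, ?_⟩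
      intro hbv
      refine hno v hv hgS ?_
      have := ((commute_of_conj_eq hbt).inv_left).mul_left
        (mem_centralizer_singleton_iff.mp hbv.2 : Commute (b * v) t)
      rwa [inv_mul_cancel_left] at this
    · refine Or.inl ⟨⟨mul_mem hb hgS, mem_centralizer_singleton_iff.mpr
        (mul_commute_of_twist (h.center_ne_one hc.1).1 (hc.central b hb) hbt hvt).eq⟩, ?_⟩
      exact fun hbQ => not_commute_of_twist (h.center_ne_one hc.1).2 hbt
        (mem_centralizer_singleton_iff.mp hbQ.2)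
  · set v := g * u * g⁻¹
    have hvt : v * t * v⁻¹ = t * z :=
      (hc.conj v hgS).resolve_left fun e => hno v hv hgS (commute_of_conj_eq e)
    rw [conj_swap_eq hvt hc.t2,
      (hc.central v hgS).eq]

omit [Finite Ω] in
/-- (i): a normal four group of members. -/
theorem kill_member_four {u : G} (hu : RankOne Ω D u) {S : Sylow 2 G} {z t : G}
    (hc : FourCtx D S z t) (ht : t ∈ D) : u ∉ closure D :=
  h.kill_four hu hc fun v hv hvS hvt => hc.ne
    (hv.2.2 t ht z hc.mem hvt.symm (hc.central v hvS).symm (hc.central t hc.tS))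

omit [Finite Ω] in
/-- a): a second member centralises the four group. -/
theorem not_mem_closure_of_member_centralizing (hL : LineComm Ω D) {u : G} (hu : RankOne Ω D u)
    {S : Sylow 2 G} {z t z' : G} (hc : FourCtx D S z t) (ht : Bad Ω t) (hz' : z' ∈ D)
    (hz'S : z' ∈ (S : Subgroup G)) (hz't : Commute z' t) (hne : z' ≠ z) : u ∉ closure D := by
  intro hmem
  obtain ⟨g, hgS, hv⟩ := h.exists_conj_mem_sylow hu S
  set v := g * u * g⁻¹ with hvdef
  obtain ⟨hz2, hz1⟩ := h.center_ne_one hc.1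
  set X : Set G := {d | d ∈ D ∧ d ∈ (S : Subgroup G) ∧ Commute d t} with hX
  have hXc : ∀ d ∈ X, ∀ e ∈ X, d * e = e * d := fun d hd e he =>
    (hL t hc.t2 ht d hd.1 e he.1 hd.2.2 he.2.2 (S.isPGroup'.to_le
      ((closure_le (S : Subgroup G)).mpr (by rintro x (rfl | rfl); exacts [hd.2.1, he.2.1])))).eq
  set W := closure X with hW
  haveI : IsMulCommutative W := Subgroup.isMulCommutative_closure hXc
  have hWc : ∀ {a b : G}, a ∈ W → b ∈ W → Commute a b := fun ha hb =>
    PGroups.comm_of_isMulCommutative inferInstance ha hb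
  have hWS : W ≤ S := (closure_le _).mpr fun d hd => hd.2.1
  have hzW : z ∈ W := subset_closure ⟨hc.mem, hc.memS, (hc.central t hc.tS).symm⟩
  have hz'W : z' ∈ W := subset_closure ⟨hz', hz'S, hz't⟩
  have hW2 : ∀ w ∈ W, w * w = 1 := by
    intro w hw
    induction hw using Subgroup.closure_induction with
    | mem y hy => exact mul_self_of_orderOf_eq_two (h.inv hy.1)
    | one => exact one_mul 1
    | mul a b ha hb iha ihb =>
      calc a * b * (a * b) = a * (b * a) * b := by group
        _ = (a * a) * (b * b) := by rw [(hWc hb ha).eq]; group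
        _ = 1 := by rw [iha, ihb, mul_one]
    | inv a _ iha => rw [← mul_inv_rev, iha, inv_one]
  have hWgood : ∀ w ∈ W, w ≠ 1 → ¬ Bad Ω w := fun w hw hw1 =>
    h.not_bad_of_mem_lineGroup (orderOf_eq_two_of_mul_self (hW2 w hw) hw1)
      (Subgroup.closure_mono (show X ⊆ D ∩ (centralizer ({w} : Set G) : Set G) from
        fun d hd => ⟨hd.1, mem_centralizer_singleton_iff.mpr
          (hWc (subset_closure hd) hw).eq⟩) hw)
  have hWn : ∀ s ∈ (S : Subgroup G), ∀ w ∈ W, s * w * s⁻¹ ∈ W := by
    intro s hs w hw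
    induction hw using Subgroup.closure_induction with
    | mem y hy =>
      refine subset_closure ⟨h.conj_mem hy.1 s, mul_mem (mul_mem hs hy.2.1) (inv_mem hs), ?_⟩
      have h1 := commute_conj hy.2.2 s
      rcases hc.conj s hs with e | e
      · rwa [e] at h1
      · rw [e] at h1
        have h2 := h1.mul_right (hc.central _ (mul_mem (mul_mem hs hy.2.1) (inv_mem hs)))
        rwa [mul_assoc t, hz2, mul_one] at h2
    | one => simp
    | mul a b _ _ iha ihb =>
      rw [show s * (a * b) * s⁻¹ = (s * a * s⁻¹) * (s * b * s⁻¹) by group]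
      exact mul_mem iha ihb
    | inv a _ iha =>
      rw [show s * a⁻¹ * s⁻¹ = (s * a * s⁻¹)⁻¹ by group]
      exact inv_mem iha
  -- (Y): the centraliser of `v` in `W` is `⟨z⟩`
  have hY : ∀ w ∈ W, Commute w v → w = 1 ∨ w = z := by
    intro w hw hwv
    by_contra hcon
    push Not at hcon
    rcases h.bad_or_bad_mul hv hc.mem (hc.central v hgS).symm
      (orderOf_eq_two_of_mul_self (hW2 w hw) hcon.1) hwv (hc.central w (hWS hw)) hcon.2 with e | e
    · exact hWgood w hw hcon.1 e
    · exact hWgood _ (mul_mem hw hzW) (fun e1 => hcon.2 ((eq_inv_of_mul_eq_one_left e1).trans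
        (inv_eq_of_mul_eq_one_right hz2))) e
  have hm : ∀ w ∈ W, w * (v * w * v⁻¹) = 1 ∨ w * (v * w * v⁻¹) = z := by
    intro w hw
    refine hY _ (mul_mem hw (hWn v hgS w hw)) (commute_of_conj_eq ?_).symm
    calc v * (w * (v * w * v⁻¹)) * v⁻¹ = v * w * v⁻¹ * ((v * v) * w * (v * v)⁻¹) := by group
      _ = v * w * v⁻¹ * w := by rw [mul_self_of_orderOf_eq_two hv.1, one_mul, inv_one, mul_one]
      _ = w * (v * w * v⁻¹) := (hWc (hWn v hgS w hw) hw).eq
  have hconj : ∀ w ∈ W, w = 1 ∨ w = z ∨ v * w * v⁻¹ = w * z := by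
    intro w hw
    have hwi := inv_eq_of_mul_eq_one_right (hW2 w hw)
    rcases hm w hw with e | e
    · have e' : v * w * v⁻¹ = w := by rw [eq_inv_of_mul_eq_one_right e, hwi]
      exact (hY w hw (commute_of_conj_eq e').symm).imp id Or.inl
    · exact Or.inr (Or.inr (by rw [eq_inv_mul_of_mul_eq e, hwi]))
  have hz'1 : z' ≠ 1 := ne_one_of_orderOf_eq_two (h.inv hz')
  have hvz' : v * z' * v⁻¹ = z' * z :=
    ((hconj z' hz'W).resolve_left hz'1).resolve_left hne
  have hfour : FourCtx D S z z' :=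
    { toCenterCtx := hc.1
      tS := hz'S
      t2 := h.inv hz'
      ne := hne
      conj := fun s hs => by
        set w := s * z' * s⁻¹ with hwdef
        have hwW : w ∈ W := hWn s hs z' hz'W
        have hw1 : w ≠ 1 := fun e => hz'1 (by simpa [hwdef] using e)
        have hwz : w ≠ z := fun e => hne (by
          have : z' = s⁻¹ * w * s := by rw [hwdef]; group
          rw [this, e, mul_assoc, ← (hc.central s hs).eq, inv_mul_cancel_left])
        have hvw := ((hconj w hwW).resolve_left hw1).resolve_left hwz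
        have hcz : Commute (w * z') v := by
          refine (commute_of_conj_eq ?_).symm
          calc v * (w * z') * v⁻¹ = (v * w * v⁻¹) * (v * z' * v⁻¹) := by group
            _ = w * (z * z') * z := by rw [hvw, hvz']; group
            _ = w * (z' * z) * z := by rw [(hc.central z' hz'S).eq]
            _ = w * z' * (z * z) := by group
            _ = w * z' := by rw [hz2, mul_one]
        have hi : z'⁻¹ = z' := inv_eq_of_orderOf_eq_two (h.inv hz')
        rcases hY _ (mul_mem hwW hz'W) hcz with e | e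
        · exact Or.inl (by rw [eq_inv_of_mul_eq_one_left e, hi])
        · refine Or.inr ?_
          rw [eq_mul_inv_of_mul_eq e, hi, (hc.central z' hz'S).eq] }
  exact h.kill_member_four hu hfour hz' hmem

/-- iii): a normal four group with a bad involution. -/
theorem not_mem_closure_of_bad_four (hL : LineComm Ω D) {u : G} (hu : RankOne Ω D u)
    {S : Sylow 2 G} {z t : G} (hc : FourCtx D S z t) (ht : Bad Ω t) : u ∉ closure D := by
  haveI : Fact (Nat.Prime 2) := ⟨Nat.prime_two⟩
  obtain ⟨hz2, hz1⟩ := h.center_ne_one hc.1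
  have hzt : Commute z t := (hc.central t hc.tS).symm
  by_cases hmem : ∃ d ∈ D, d ∈ (S : Subgroup G) ∧ Commute d t ∧ d ≠ z
  · obtain ⟨d, hd, hdS, hdt, hne⟩ := hmem
    exact h.not_mem_closure_of_member_centralizing hL hu hc ht hd hdS hdt hne
  push Not at hmem
  by_cases hiso : ∀ d ∈ D, d ∈ (S : Subgroup G) → d = z
  · exact h.not_mem_closure_of_isolated hu S hc.memS hc.mem hiso
  push Not at hiso
  obtain ⟨z₁, hz₁, hz₁S, hz₁ne⟩ := hiso
  set C : Subgroup G := (S : Subgroup G) ⊓ centralizer {t} with hC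
  have hmemC : ∀ {a : G}, a ∈ (S : Subgroup G) → Commute a t → a ∈ C := fun ha hc' =>
    ⟨ha, mem_centralizer_singleton_iff.mpr hc'.eq⟩
  have htC : t ∈ C := hmemC hc.tS (Commute.refl t)
  have hout : ∀ {d : G}, d ∈ D → d ∈ (S : Subgroup G) → d ≠ z → d * t * d⁻¹ = t * z :=
    fun hd hdS hne => (hc.conj _ hdS).resolve_left fun e =>
      hne (hmem _ hd hdS (commute_of_conj_eq e))
  by_cases hmax : ∀ P : Subgroup G, IsPGroup 2 P → P ≤ centralizer {t} → C ≤ P → P ≤ C
  swap
  · -- a larger 2-subgroup of `C(t)` gives a Sylow 2-subgroup in which `t` is central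
    push Not at hmax
    obtain ⟨P, hP, hPt, hCP, hPC⟩ := hmax
    obtain ⟨g, hgP, hgC, hgn⟩ :=
      exists_mem_normalizer_not_mem hP (lt_of_le_not_ge hCP hPC)
    have hgz : Commute g z := by
      have h1 := (mem_normalizer_iff.mp hgn z).mp (hmemC hc.memS hzt)
      exact commute_of_conj_eq
        (hmem _ (h.conj_mem hc.mem g) h1.1 (mem_centralizer_singleton_iff.mp h1.2))
    set P' := C ⊔ zpowers g with hP'
    have hP'P : P' ≤ P := sup_le hCP (zpowers_le.mpr hgP)
    have hP'z : P' ≤ centralizer {z} := sup_le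
      (fun a ha => mem_centralizer_singleton_iff.mpr (hc.central a ha.1).eq)
      (zpowers_le.mpr (mem_centralizer_singleton_iff.mpr hgz.eq))
    obtain ⟨S', hP'S', hzS', hS'z⟩ := h.exists_sylow_center hc.mem (hP.to_le hP'P)
      fun a ha => mem_centralizer_singleton_iff.mp (hP'z ha)
    have hlt : C < P' :=
      lt_of_le_of_ne le_sup_left fun e => hgC (e ▸ mem_sup_right (mem_zpowers g))
    have h2C : 2 * Nat.card C ≤ Nat.card P' := by
      obtain ⟨m, hm⟩ := Subgroup.card_dvd_of_le hlt.le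
      rcases m with _ | _ | m
      · rw [mul_zero] at hm; exact absurd hm Nat.card_pos.ne'
      · exact absurd (Subgroup.eq_of_le_of_card_ge hlt.le (by rw [hm]; simp)) hlt.ne
      · rw [hm, mul_comm]; exact Nat.mul_le_mul_left _ (by omega)
    have hrel : C.relIndex (S : Subgroup G) = 2 := by
      refine Subgroup.relIndex_eq_two_iff.mpr ⟨z₁, hz₁S, fun b hb => ?_⟩
      have h₁ := hout hz₁ hz₁S hz₁ne
      have hn₁ : ¬ Commute z₁ t := not_commute_of_twist hz1 h₁
      rcases hc.conj b hb with hbt | hbt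
      · refine Or.inr ⟨hmemC hb (commute_of_conj_eq hbt), fun hb' => hn₁ ?_⟩
        have := ((commute_of_conj_eq hbt).inv_left).mul_left
          (mem_centralizer_singleton_iff.mp hb'.2 : Commute (b * z₁) t)
        rwa [inv_mul_cancel_left] at this
      · exact Or.inl ⟨hmemC (mul_mem hb hz₁S)
          (mul_commute_of_twist hz2 (hc.central b hb) hbt h₁),
          fun hb' => not_commute_of_twist hz1 hbt (mem_centralizer_singleton_iff.mp hb'.2)⟩
    have hcardS : Nat.card (S : Subgroup G) = 2 * Nat.card C := by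
      rw [← (C.subgroupOf (S : Subgroup G)).index_mul_card,
        Nat.card_congr (Subgroup.subgroupOfEquivOfLe (inf_le_left : C ≤ S)).toEquiv]
      exact congrArg (· * _) hrel
    have heq : P' = (S' : Subgroup G) := Subgroup.eq_of_le_of_card_ge hP'S' (by
      rw [S'.card_eq_multiplicity, ← S.card_eq_multiplicity, hcardS]; exact h2C)
    have hS't : ∀ a ∈ (S' : Subgroup G), Commute a t := fun a ha =>
      mem_centralizer_singleton_iff.mp (hPt (hP'P (heq ▸ ha)))
    have hc' : FourCtx D S' z t :=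
      { mem := hc.mem
        memS := hzS'
        central := hS'z
        tS := hP'S' (mem_sup_left htC)
        t2 := hc.t2
        ne := hc.ne
        conj := fun a ha => Or.inl (conj_eq_of_commute (hS't a ha)) }
    by_cases hiso' : ∀ d ∈ D, d ∈ (S' : Subgroup G) → d = z
    · exact h.not_mem_closure_of_isolated hu S' hzS' hc.mem hiso'
    push Not at hiso'
    obtain ⟨d, hd, hdS, hne⟩ := hiso'
    exact h.not_mem_closure_of_member_centralizing hL hu hc' ht hd hdS (hS't d hdS) hne
  -- `C` is a Sylow 2-subgroup of `C(t)`, so `t` has rank one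
  have htR : RankOne Ω D t := by
    refine ⟨hc.t2, ht, fun d hd e he hdt het hde => ?_⟩
    obtain ⟨x, hx, hxC⟩ := exists_conj_le_of_maximal (K := centralizer {t})
      (S.isPGroup'.to_le inf_le_left : IsPGroup 2 C) inf_le_right hmax
      (isPGroup_closure_pair (mul_self_of_orderOf_eq_two (h.inv hd))
        (mul_self_of_orderOf_eq_two (h.inv he)) hde)
      ((closure_le _).mpr (by
        rintro a (rfl | rfl)
        exacts [mem_centralizer_singleton_iff.mpr hdt.eq,
          mem_centralizer_singleton_iff.mpr het.eq]))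
    have key : ∀ a ∈ ({d, e} : Set G), a ∈ D → x * a * x⁻¹ = z := fun a ha haD =>
      hmem _ (h.conj_mem haD x) (hxC a (subset_closure ha)).1
        (mem_centralizer_singleton_iff.mp (hxC a (subset_closure ha)).2)
    exact mul_left_cancel (mul_right_cancel
      ((key d (by simp) hd).trans (key e (by simp) he).symm))
  -- two commuting members of `S` differ by `z`
  have hclaim : ∀ {d₁ d₂ : G}, d₁ ∈ D → d₁ ∈ (S : Subgroup G) → d₁ ≠ z → d₂ ∈ D →
      d₂ ∈ (S : Subgroup G) → d₂ ≠ z → Commute d₁ d₂ → d₁ ≠ d₂ → d₂ = z * d₁ := by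
    intro d₁ d₂ h₁ h₁S h₁z h₂ h₂S h₂z hcomm hne
    by_contra hcon
    have hi₁ := inv_eq_of_orderOf_eq_two (h.inv h₁)
    have hct : Commute (d₂ * d₁) t :=
      mul_commute_of_twist hz2 (hc.central d₂ h₂S) (hout h₂ h₂S h₂z) (hout h₁ h₁S h₁z)
    have hzd : z * d₁ ∈ D := by
      rw [← conj_swap_eq (hout h₁ h₁S h₁z) hc.t2]
      exact h.conj_mem h₁ t
    have hc2 : orderOf (d₂ * d₁) = 2 := by
      refine orderOf_eq_two_of_mul_self ?_ fun e => hne ?_
      · calc d₂ * d₁ * (d₂ * d₁) = d₂ * (d₁ * d₂) * d₁ := by group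
          _ = (d₂ * d₂) * (d₁ * d₁) := by rw [hcomm.eq]; group
          _ = 1 := by
            rw [mul_self_of_orderOf_eq_two (h.inv h₁), mul_self_of_orderOf_eq_two (h.inv h₂),
              mul_one]
      · rw [eq_inv_of_mul_eq_one_left e, hi₁]
    have hcz : d₂ * d₁ ≠ z := fun e => hcon (by rw [eq_mul_inv_of_mul_eq e, hi₁])
    rcases h.bad_or_bad_mul htR hc.mem hzt hc2 hct (hc.central _ (mul_mem h₂S h₁S)) hcz with e | e
    · exact h.not_bad_mul h₁ h₂ hne hcomm e
    · rw [mul_assoc, (hc.central d₁ h₁S).eq] at e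
      exact h.not_bad_mul hzd h₂ (fun e' => hcon e'.symm)
        (((hc.central d₂ h₂S).symm).mul_left hcomm) e
  have hsqt : ∀ a ∈ (S : Subgroup G), Commute (a * a) t := fun a ha => by
    rcases hc.conj a ha with e | e
    · exact (commute_of_conj_eq e).mul_left (commute_of_conj_eq e)
    · exact mul_commute_of_twist hz2 (hc.central a ha) e e
  -- a member with the largest centraliser in `S`
  obtain ⟨z', ⟨hz', hz'S, hz'ne⟩, hz'max⟩ := Set.exists_max_image
    {d : G | d ∈ D ∧ d ∈ (S : Subgroup G) ∧ d ≠ z}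
    (fun d => Nat.card ↥((S : Subgroup G) ⊓ centralizer {d})) (Set.toFinite _)
    ⟨z₁, hz₁, hz₁S, hz₁ne⟩
  set A : Subgroup G := (S : Subgroup G) ⊓ centralizer {z'} with hA
  have hz'2 := mul_self_of_orderOf_eq_two (h.inv hz')
  have hi' := inv_eq_of_orderOf_eq_two (h.inv hz')
  have hz'A : z' ∈ A := ⟨hz'S, mem_centralizer_singleton_iff.mpr rfl⟩
  have hzA : z ∈ A := ⟨hc.memS, mem_centralizer_singleton_iff.mpr (hc.central z' hz'S).eq.symm⟩
  have htz' : t * z' * t⁻¹ = z * z' := conj_swap_eq (hout hz' hz'S hz'ne) hc.t2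
  have hAmax : ∀ P : Subgroup G, IsPGroup 2 P →
      P ≤ centralizer {z} → P ≤ centralizer {z'} → A ≤ P → P ≤ A := by
    intro P hP hPz hPz' hAP
    obtain ⟨x, hxz, hx⟩ := exists_conj_mem_le_sylow hP hPz S
      fun a ha => mem_centralizer_singleton_iff.mpr (hc.central a ha).eq
    have hxz' : Commute x z := mem_centralizer_singleton_iff.mp hxz
    have hle : P.map (MulAut.conj x).toMonoidHom ≤
        (S : Subgroup G) ⊓ centralizer {x * z' * x⁻¹} := by
      rintro _ ⟨a, ha, rfl⟩
      exact ⟨hx a ha, mem_centralizer_singleton_iff.mpr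
        (commute_conj (mem_centralizer_singleton_iff.mp (hPz' ha) : Commute a z') x).eq⟩
    have hcard : Nat.card P ≤ Nat.card A := by
      rw [← card_map_conj P x]
      refine (Subgroup.card_le_of_le hle).trans (hz'max _ ⟨h.conj_mem hz' x, hx z' (hAP hz'A),
        fun e => hz'ne ?_⟩)
      rw [← conj_eq_of_commute hxz'] at e
      exact mul_left_cancel (mul_right_cancel e)
    exact (Subgroup.eq_of_le_of_card_ge hAP hcard).ge
  obtain ⟨S'', hAS'', -, hS''c⟩ := h.exists_sylow_center hz' (S.isPGroup'.to_le inf_le_left :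
    IsPGroup 2 A) fun a ha => mem_centralizer_singleton_iff.mp ha.2
  have hAlt : A < (S'' : Subgroup G) := by
    refine lt_of_le_of_ne hAS'' fun e => ?_
    have hAS : A = (S : Subgroup G) := Subgroup.eq_of_le_of_card_ge inf_le_left (by
      rw [S.card_eq_multiplicity, ← S''.card_eq_multiplicity, e])
    have htA : t ∈ A := hAS ▸ hc.tS
    exact hz'ne (hmem z' hz' hz'S
      (mem_centralizer_singleton_iff.mp htA.2 : Commute t z').symm)
  obtain ⟨y, hyS, hyA, hyn⟩ := exists_mem_normalizer_not_mem S''.isPGroup' hAlt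
  have hyz : y * z * y⁻¹ = z * z' := by
    have hmemA := (mem_normalizer_iff.mp hyn z).mp hzA
    refine hclaim hz' hz'S hz'ne (h.conj_mem hc.mem y) hmemA.1 (fun e => hyA ?_)
      (mem_centralizer_singleton_iff.mp hmemA.2 : Commute _ z').symm fun e => hz'ne ?_
    · exact hAmax (A ⊔ zpowers y) (S''.isPGroup'.to_le (sup_le hAS'' (zpowers_le.mpr hyS)))
        (sup_le (fun a ha => mem_centralizer_singleton_iff.mpr (hc.central a ha.1).eq)
          (zpowers_le.mpr (mem_centralizer_singleton_iff.mpr (commute_of_conj_eq e).eq)))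
        (sup_le inf_le_right
          (zpowers_le.mpr (mem_centralizer_singleton_iff.mpr (hS''c y hyS).eq)))
        le_sup_left (mem_sup_right (mem_zpowers y))
    · rw [← conj_eq_of_commute (hS''c y hyS)] at e
      exact mul_left_cancel (mul_right_cancel e)
  -- `z` is not a square in `A`
  have hnosq : ∀ a ∈ A, a * a ≠ z := by
    intro a ha e
    have h1 := hsqt _ ((mem_normalizer_iff.mp hyn a).mp ha).1
    rw [show y * a * y⁻¹ * (y * a * y⁻¹) = y * (a * a) * y⁻¹ by group, e] at h1
    have h2 := hmem _ (h.conj_mem hc.mem y) ((mem_normalizer_iff.mp hyn z).mp hzA).1 h1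
    rw [hyz] at h2
    exact ne_one_of_orderOf_eq_two (h.inv hz') (mul_eq_left.mp h2)
  -- `⟨z, z'⟩` is normal in `S`
  let N : Subgroup G :=
    { carrier := {a | a ∈ (S : Subgroup G) ∧ (a * z' * a⁻¹ = z' ∨ a * z' * a⁻¹ = z * z')}
      one_mem' := ⟨one_mem _, Or.inl (by group)⟩
      mul_mem' := fun {a b} ha hb => ⟨mul_mem ha.1 hb.1, by
        have e : a * b * z' * (a * b)⁻¹ = a * (b * z' * b⁻¹) * a⁻¹ := by group
        rw [e]
        rcases hb.2 with e' | e' <;> rw [e']
        · exact ha.2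
        · rw [show a * (z * z') * a⁻¹ = (a * z * a⁻¹) * (a * z' * a⁻¹) by group,
            conj_eq_of_commute (hc.central a ha.1)]
          rcases ha.2 with e'' | e'' <;> rw [e'']
          · exact Or.inr rfl
          · exact Or.inl (by rw [← mul_assoc, hz2, one_mul])⟩
      inv_mem' := fun {a} ha => ⟨inv_mem ha.1, by
        rw [inv_inv]
        rcases ha.2 with e | e
        · refine Or.inl ?_
          calc a⁻¹ * z' * a = a⁻¹ * (a * z' * a⁻¹) * a := by rw [e]
            _ = z' := by group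
        · refine Or.inr ?_
          calc a⁻¹ * z' * a = a⁻¹ * (z * (z * z')) * a := by rw [← mul_assoc z, hz2, one_mul]
            _ = (a⁻¹ * z) * (a * z' * a⁻¹) * a := by rw [e]; group
            _ = z * z' := by rw [(hc.central a ha.1).inv_left.eq]; group⟩ }
  by_cases hN : ∀ a ∈ (S : Subgroup G), a ∈ N
  · exact h.kill_member_four hu (S := S) (z := z) (t := z')
      { toCenterCtx := hc.1
        tS := hz'S
        t2 := h.inv hz'
        ne := hz'ne
        conj := fun a ha => by rw [(hc.central z' hz'S).eq]; exact (hN a ha).2 } hz'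
  exfalso
  have hlt : N < (S : Subgroup G) :=
    lt_of_le_not_ge (fun a ha => ha.1) fun hle => hN fun a ha => hle ha
  obtain ⟨s, hs, hsN, hsn⟩ := exists_mem_normalizer_not_mem S.isPGroup' hlt
  obtain ⟨hwS, hw⟩ := (mem_normalizer_iff.mp hsn z').mp
    (show z' ∈ N from ⟨hz'S, Or.inl (by group)⟩)
  set w := s * z' * s⁻¹ with hwdef
  have hwD : w ∈ D := h.conj_mem hz' s
  have hwz : w ≠ z := fun e => hz'ne (by
    have h1 : s * z' * s⁻¹ = s * z * s⁻¹ := by
      rw [conj_eq_of_commute (hc.central s hs), ← hwdef, e]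
    exact mul_left_cancel (mul_right_cancel h1))
  have hw2 := mul_self_of_orderOf_eq_two (h.inv hwD)
  have hwz' : w * z' * w⁻¹ = z * z' := hw.resolve_left fun e => by
    rcases eq_or_ne z' w with e' | e'
    · exact hsN ⟨hs, Or.inl e'.symm⟩
    · exact hsN ⟨hs, Or.inr (hclaim hz' hz'S hz'ne hwD hwS hwz (commute_of_conj_eq e).symm e')⟩
  set k := z' * w with hk
  have hkS : k ∈ (S : Subgroup G) := mul_mem hz'S hwS
  have hkk : k * k = z := by
    calc z' * w * (z' * w) = z' * (w * z' * w⁻¹) * (w * w) := by group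
      _ = (z' * z) * z' := by rw [hwz', hw2]; group
      _ = z * (z' * z') := by rw [(hc.central z' hz'S).eq, mul_assoc]
      _ = z := by rw [hz'2, mul_one]
  have hkt : Commute k t :=
    mul_commute_of_twist hz2 (hc.central z' hz'S) (hout hz' hz'S hz'ne) (hout hwD hwS hwz)
  have hkz' : k * z' * k⁻¹ = z * z' := by
    calc z' * w * z' * (z' * w)⁻¹ = z' * (w * z' * w⁻¹) * z'⁻¹ := by group
      _ = z' * z := by rw [hwz']; group
      _ = z * z' := (hc.central z' hz'S).eq
  refine hnosq (t * k) ⟨mul_mem hc.tS hkS, mem_centralizer_singleton_iff.mpr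
    (commute_of_conj_eq ?_).eq⟩ ?_
  · calc t * k * z' * (t * k)⁻¹ = t * (k * z' * k⁻¹) * t⁻¹ := by group
      _ = (t * z * t⁻¹) * (t * z' * t⁻¹) := by rw [hkz']; group
      _ = z' := by rw [conj_eq_of_commute hzt.symm, htz', ← mul_assoc, hz2, one_mul]
  · calc t * k * (t * k) = t * (k * t) * k := by group
      _ = (t * t) * (k * k) := by rw [hkt.eq]; group
      _ = z := by rw [mul_self_of_orderOf_eq_two hc.t2, hkk, one_mul]

omit [Finite Ω] in
/-- A Sylow 2-subgroup built on a cyclic group inverted, up to `z`, by the other elements. -/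
theorem not_mem_closure_of_cyclic {u : G} (hu : RankOne Ω D u) {S : Sylow 2 G} {z : G}
    (hc : CenterCtx D S z) (huS : u ∈ (S : Subgroup G)) {a : G} (haS : a ∈ (S : Subgroup G))
    (hza : z ∈ zpowers a)
    (hinv : ∀ y ∈ (S : Subgroup G), y ∉ zpowers a →
      (y * a * y⁻¹ = a⁻¹ ∨ y * a * y⁻¹ = a⁻¹ * z) ∧
        ∀ x ∈ (S : Subgroup G), x ∉ zpowers a → y * x ∈ zpowers a) : u ∉ closure D := by
  haveI : Fact (Nat.Prime 2) := ⟨Nat.prime_two⟩
  by_cases hiso : ∀ d ∈ D, d ∈ (S : Subgroup G) → d = z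
  · exact h.not_mem_closure_of_isolated hu S hc.memS hc.mem hiso
  push Not at hiso
  obtain ⟨z', hz', hz'S, hz'ne⟩ := hiso
  obtain ⟨hz2, hz1⟩ := h.center_ne_one hc
  have hzo := h.inv hc.mem
  have hz'2 := mul_self_of_orderOf_eq_two (h.inv hz')
  have hi' := inv_eq_of_orderOf_eq_two (h.inv hz')
  have huz : u ≠ z := h.ne_member hu.2.1 hc.mem
  have hu2 := mul_self_of_orderOf_eq_two hu.1
  have haz : Commute a z := hc.central a haS
  have hodd1 : ∀ k : ℤ, Odd k → a ^ k ≠ 1 := fun k hk e => by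
    have h1 : (⟨a, haS⟩ : (S : Subgroup G)) = 1 :=
      eq_one_of_odd_zpow S.isPGroup' hk (Subtype.ext (by rw [SubgroupClass.coe_zpow]; exact e))
    obtain ⟨i, rfl⟩ := hza
    exact hz1 (by rw [show a = 1 from congrArg Subtype.val h1]; exact one_zpow i)
  have hinvol : ∀ x : G, orderOf x = 2 → x ∈ zpowers a → x = z := fun x hx hxa =>
    (eq_one_or_eq_of_sq hzo hza hxa (mul_self_of_orderOf_eq_two hx)).resolve_left
      (ne_one_of_orderOf_eq_two hx)
  have hz'a : z' ∉ zpowers a := fun e => hz'ne (hinvol z' (h.inv hz') e)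
  have hua : u ∉ zpowers a := fun e => huz (hinvol u hu.1 e)
  obtain ⟨j, hj⟩ : ∃ j : ℤ, a ^ j = u * z' := (hinv u huS hua).2 z' hz'S hz'a
  have huj : u = a ^ j * z' := by rw [hj, mul_assoc, hz'2, mul_one]
  have hcase := (hinv z' hz'S hz'a).1
  have hzuz : Commute z u := (hc.central u huS).symm
  rcases Int.even_or_odd j with ⟨i, hi⟩ | hjodd
  · exfalso
    have hconj : a ^ i * z' * (a ^ i)⁻¹ = u ∨ a ^ i * z' * (a ^ i)⁻¹ = u * z := by
      have hmv : a ^ i * z' * (a ^ i)⁻¹ = a ^ i * (z' * a ^ (-i) * z'⁻¹) * z' := by group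
      rcases hcase with e | e
      · refine Or.inl ?_
        rw [hmv, ← conj_zpow, e, inv_zpow', neg_neg, ← zpow_add, ← hi, ← huj]
      · rw [hmv, ← conj_zpow, e, haz.inv_left.mul_zpow, inv_zpow', neg_neg, ← mul_assoc,
          ← zpow_add, ← hi]
        rcases Int.even_or_odd (-i) with he | ho
        · exact Or.inl (by rw [zpow_even_of_orderOf_two hzo he, mul_one, ← huj])
        · refine Or.inr ?_
          rw [zpow_odd_of_orderOf_two hzo ho, mul_assoc, ← (hc.central z' hz'S).eq, ← mul_assoc,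
            ← huj]
    have hm := h.conj_mem hz' (a ^ i)
    rcases hconj with e | e <;> rw [e] at hm
    · exact h.not_bad hm hu.2.1
    · exact ne_one_of_orderOf_eq_two hu.1 (mul_eq_right.mp
        (hu.2.2 _ hm z hc.mem ((Commute.refl u).mul_left hzuz) hzuz
          ((hc.central u huS).mul_left (Commute.refl z))))
  have hia : z' * a * z'⁻¹ = a⁻¹ := hcase.resolve_right fun e => hz1 <| by
    have h1 : u * u = a ^ j * (z' * a ^ j * z'⁻¹) := by
      rw [huj, hi']
      group
    rw [hu2, ← conj_zpow, e, haz.inv_left.mul_zpow, zpow_odd_of_orderOf_two hzo hjodd, inv_zpow,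
      mul_inv_cancel_left] at h1
    exact h1.symm
  have hconjz : ∀ k m : ℤ, a ^ k * (a ^ m * z') * (a ^ k)⁻¹ = a ^ (m + 2 * k) * z' :=
    zpow_conj_mul hia
  have haz1 : a ≠ z := fun e => by
    rw [e, zpow_odd_of_orderOf_two hzo hjodd] at huj
    refine h.not_bad_mul hc.mem hz' (Ne.symm hz'ne) (hc.central z' hz'S).symm ?_
    rw [(hc.central z' hz'S).eq, ← huj]
    exact hu.2.1
  obtain ⟨e, he⟩ : ∃ e : ℤ, a ^ (2 * e) = z := by
    obtain ⟨e, he⟩ := hza
    rcases Int.even_or_odd e with ⟨e', rfl⟩ | ho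
    · exact ⟨e', by rw [two_mul]; exact he⟩
    · exfalso
      have h1 : (⟨a, haS⟩ : (S : Subgroup G)) ^ (2 : ℤ) = 1 := by
        refine eq_one_of_odd_zpow S.isPGroup' ho (Subtype.ext ?_)
        rw [← zpow_mul, SubgroupClass.coe_zpow, mul_comm, zpow_mul]
        exact (congrArg (· ^ (2 : ℤ)) he).trans (by rw [zpow_two]; exact hz2)
      have h2 : a * a = 1 := by
        have := congrArg Subtype.val h1
        rwa [SubgroupClass.coe_zpow, zpow_two] at this
      rcases eq_one_or_eq_of_sq hzo ⟨e, he⟩ (mem_zpowers a) h2 with h3 | h3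
      · exact hodd1 1 odd_one (by rw [zpow_one, h3])
      · exact haz1 h3
  -- the subgroup of index 2
  have hzk : ∀ k : ℤ, z' * a ^ k = a ^ (-k) * z' := fun k => by
    rw [← mul_inv_eq_iff_eq_mul, ← conj_zpow, hia, inv_zpow']
  let Q : Subgroup G :=
    { carrier := {g | ∃ i : ℤ, g = a ^ (2 * i) ∨ g = a ^ (2 * i) * z'}
      one_mem' := ⟨0, Or.inl (by rw [mul_zero, zpow_zero])⟩
      mul_mem' := by
        rintro g g' ⟨i, rfl | rfl⟩ ⟨k, rfl | rfl⟩
        · exact ⟨i + k, Or.inl (by rw [← zpow_add, mul_add])⟩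
        · exact ⟨i + k, Or.inr (by rw [← mul_assoc, ← zpow_add, mul_add])⟩
        · exact ⟨i - k, Or.inr (by
            rw [mul_assoc, hzk, ← mul_assoc, ← zpow_add]; ring_nf)⟩
        · exact ⟨i - k, Or.inl (by
            rw [mul_assoc, ← mul_assoc z', hzk, mul_assoc (a ^ _) z' z', hz'2, mul_one,
              ← zpow_add]; ring_nf)⟩
      inv_mem' := by
        rintro g ⟨i, rfl | rfl⟩
        · exact ⟨-i, Or.inl (by rw [← zpow_neg, mul_neg])⟩
        · exact ⟨i, Or.inr (by rw [mul_inv_rev, hi', ← zpow_neg, hzk, neg_neg])⟩ }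
  have hQiff : ∀ k : ℤ, (a ^ k ∈ Q ↔ Even k) ∧ (a ^ k * z' ∈ Q ↔ Even k) := by
    intro k
    have hsame : ∀ i : ℤ, a ^ k = a ^ (2 * i) → Even k := fun i e' => by
      by_contra hodd
      exact hodd1 (k - 2 * i) ((Int.not_even_iff_odd.mp hodd).sub_even (even_two_mul i))
        (by rw [zpow_sub, e', mul_inv_cancel])
    refine ⟨⟨fun ⟨i, e'⟩ => ?_, fun ⟨i, e'⟩ => ⟨i, Or.inl (by rw [e', two_mul])⟩⟩,
      ⟨fun ⟨i, e'⟩ => ?_, fun ⟨i, e'⟩ => ⟨i, Or.inr (by rw [e', two_mul])⟩⟩⟩
    · rcases e' with e' | e'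
      · exact hsame i e'
      · exact absurd (eq_inv_mul_of_mul_eq e'.symm ▸
          mul_mem (inv_mem (zpow_mem (mem_zpowers a) _)) (zpow_mem (mem_zpowers a) k)) hz'a
    · rcases e' with e' | e'
      · exact absurd (eq_inv_mul_of_mul_eq e' ▸
          mul_mem (inv_mem (zpow_mem (mem_zpowers a) k)) (zpow_mem (mem_zpowers a) _)) hz'a
      · exact hsame i (mul_right_cancel e')
  refine h.not_mem_closure_of_transfer (b := a ^ e) hu hc.mem S huS Q ?_ ?_ ?_ ?_
  · rintro g ⟨i, rfl | rfl⟩
    · exact zpow_mem haS _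
    · exact mul_mem (zpow_mem haS _) hz'S
  · refine Subgroup.relIndex_eq_two_iff.mpr ⟨u, huS, fun b hb => ?_⟩
    by_cases hba : b ∈ zpowers a
    · obtain ⟨k, rfl⟩ := hba
      show Xor (a ^ k * u ∈ Q) (a ^ k ∈ Q)
      rw [huj, ← mul_assoc, ← zpow_add, (hQiff _).2, (hQiff k).1, Int.even_add,
        iff_false_right (Int.not_even_iff_odd.mpr hjodd)]
      exact (Classical.em _).elim (fun hk => Or.inr ⟨hk, fun hh => hh hk⟩)
        (fun hk => Or.inl ⟨hk, hk⟩)
    · obtain ⟨k, hk⟩ : ∃ k : ℤ, a ^ k = b * z' := (hinv b hb hba).2 z' hz'S hz'a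
      have hbk : b = a ^ k * z' := by rw [hk, mul_assoc, hz'2, mul_one]
      rw [huj, hbk, mul_assoc, ← mul_assoc z', hzk, mul_assoc _ z' z', hz'2, mul_one,
        ← zpow_add, (hQiff _).1, (hQiff k).2, Int.even_add, even_neg,
        iff_false_right (Int.not_even_iff_odd.mpr hjodd)]
      exact (Classical.em _).elim (fun hk => Or.inr ⟨hk, fun hh => hh hk⟩)
        (fun hk => Or.inl ⟨hk, hk⟩)
  · rintro v hv ⟨i, rfl | rfl⟩
    · exact h.ne_member hv.2.1 hc.mem (hinvol _ hv.1 (zpow_mem (mem_zpowers a) _))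
    · have hm := h.conj_mem hz' (a ^ i)
      have h1 := hconjz i 0
      rw [zpow_zero, one_mul, zero_add] at h1
      rw [h1] at hm
      exact h.not_bad hm hv.2.1
  · rw [huj, hconjz, add_comm, zpow_add, he, ← huj, mul_assoc, ← huj, hzuz.eq]

/-- **An involution of rank one is not generated by members.** -/
theorem rankOne_not_mem_closure (hL : LineComm Ω D) {u : G} (hu : RankOne Ω D u) :
    u ∉ closure D := by
  haveI : Fact (Nat.Prime 2) := ⟨Nat.prime_two⟩
  obtain ⟨z, hz, hzu⟩ := h.exists_member hu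
  obtain ⟨S, huS, hzS, hSz⟩ := h.exists_sylow_center hz
    (IsPGroup.of_card (n := 1) (by rw [Nat.card_zpowers, hu.1]; rfl) : IsPGroup 2 (zpowers u))
    fun g hg => (commute_of_mem_zpowers hzu hg).symm
  have hc : CenterCtx D S z := ⟨hz, hzS, hSz⟩
  rcases exists_normal_four_or_cyclic S.isPGroup' (z := (⟨z, hzS⟩ : (S : Subgroup G)))
      (by rw [← Subgroup.orderOf_coe]; exact h.inv hz)
      (fun s => Subtype.ext (hSz s s.2).symm.eq) with ⟨t, ht2, htne, htc⟩ | ⟨a, hza, hinv⟩
  · have hfour : FourCtx D S z t :=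
      { toCenterCtx := hc
        tS := t.2
        t2 := by rw [Subgroup.orderOf_coe]; exact ht2
        ne := fun e => htne (Subtype.ext e)
        conj := fun s hs => (htc ⟨s, hs⟩).imp (congrArg Subtype.val) (congrArg Subtype.val) }
    by_cases hno : ∀ v, RankOne Ω D v → v ∈ (S : Subgroup G) → ¬ Commute v (t : G)
    · exact h.kill_four hu hfour hno
    push Not at hno
    obtain ⟨v, hv, hvS, hvt⟩ := hno
    rcases h.bad_or_bad_mul hv hz (hSz v hvS).symm hfour.t2 hvt.symm (hSz t t.2) hfour.ne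
      with hb | hb
    · exact h.not_mem_closure_of_bad_four hL hu hfour hb
    · obtain ⟨hz2, -⟩ := h.center_ne_one hc
      have htz : Commute (t : G) z := hSz t t.2
      refine h.not_mem_closure_of_bad_four hL hu (S := S) (z := z) (t := t * z)
        { toCenterCtx := hc
          tS := mul_mem t.2 hzS
          t2 := orderOf_eq_two_of_mul_self ?_ ?_
          ne := fun e => ne_one_of_orderOf_eq_two hfour.t2 (mul_eq_right.mp e)
          conj := fun s hs => ?_ } hb
      · calc (t : G) * z * (t * z) = t * (z * t) * z := by group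
          _ = (t : G) * t * (z * z) := by rw [← htz.eq]; group
          _ = 1 := by rw [mul_self_of_orderOf_eq_two hfour.t2, hz2, mul_one]
      · exact fun e => hfour.ne ((eq_inv_of_mul_eq_one_left e).trans
          (inv_eq_of_mul_eq_one_right hz2))
      · rw [show s * ((t : G) * z) * s⁻¹ = (s * t * s⁻¹) * (s * z * s⁻¹) by group,
          conj_eq_of_commute (hSz s hs)]
        exact (hfour.conj s hs).imp (fun e => by rw [e]) (fun e => by rw [e])
  · have hiff : ∀ x : (S : Subgroup G), x ∈ zpowers a ↔ (x : G) ∈ zpowers (a : G) := by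
      intro x
      simp [mem_zpowers_iff, Subtype.ext_iff]
    refine h.not_mem_closure_of_cyclic hu hc (huS (mem_zpowers u)) a.2 ((hiff _).mp hza)
      fun y hy hya => ?_
    obtain ⟨h1, h2⟩ := hinv ⟨y, hy⟩ fun e => hya ((hiff _).mp e)
    exact ⟨h1.imp (congrArg Subtype.val) (congrArg Subtype.val),
      fun x hx hxa => (hiff _).mp (h2 ⟨x, hx⟩ fun e => hxa ((hiff _).mp e))⟩

end Crit

end Cfsg.Agent.H14.Asch
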