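import Cfsg.Agent.H14.Asch.ShapesBase

/-!
Several layers with `Q` outside the second centre modulo `E` (shape two): the second centre `X` is
elementary abelian, centralises `Q`, and an involution of `⁅M, A⁆` outside `E` commutes with an
involution outside `E ∪ v E`.
-/

set_option autoImplicit false
set_option linter.style.haveILetI false
set_option linter.unusedSectionVars false

namespace Cfsg.Agent.H14.Asch

open Subgroup
open Cfsg.Agent.H51.Asch (nxt nxt_le sq_mem_nxt comm_mem_nxt norm_nxt inf_norm)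
open scoped commutatorElement Classical

universe u

variable {G : Type u} [Group G]

namespace ShapeData

variable {M Q E A : Subgroup G} {u : G} (h : ShapeData M Q E A u)
include h

theorem zTwo_normal : M ≤ normalizer (h.zTwo : Set G) :=
  le_normalizer_iff.mpr fun _ hr _ hg => h.conj_zTwo hr hg

theorem comm_u_zTwo {x : G} (hx : x ∈ h.zTwo) : ⁅x, u⁆ ∈ E := by
  rw [← commutatorElement_inv]
  exact inv_mem (hx.2 u h.u_mem)

/-- A commutator with `u` is inverted by `u`. -/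
theorem comm_comm_u {g : G} : u * ⁅g, u⁆ * u = ⁅g, u⁆⁻¹ := by
  simp only [commutatorElement_def, mul_inv_rev, inv_inv, h.inv_u, mul_assoc]
  rw [h.sq_u, mul_one]

theorem comm_u_sq {g : G} : ⁅⁅g, u⁆, u⁆ = ⁅g, u⁆ * ⁅g, u⁆ := by
  have e : u * ⁅g, u⁆⁻¹ * u = ⁅g, u⁆ := by
    have := congrArg (·⁻¹) (h.comm_comm_u (g := g))
    simp only [mul_inv_rev, inv_inv, h.inv_u] at this
    rw [← mul_assoc] at this
    exact this
  generalize ⁅g, u⁆ = z at e ⊢
  rw [commutatorElement_def, h.inv_u]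
  calc z * u * z⁻¹ * u = z * (u * z⁻¹ * u) := by group
    _ = z * z := by rw [e]

theorem inf_centralizer_zTwo_normA :
    A ≤ normalizer ((centralizer (h.zTwo : Set G) : Subgroup G) : Set G) :=
  le_normalizer_iff.mpr fun a ha c hc => mem_centralizer_iff.mpr fun y hy => by
    have h1 := mem_centralizer_iff.mp hc _
      ((mem_normalizer_iff.mp (h.normA_zTwo (inv_mem ha)) y).mp hy)
    have h2 := commute_conj (show Commute _ c from h1) a
    rwa [show a * (a⁻¹ * y * a⁻¹⁻¹) * a⁻¹ = y by group] at h2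

theorem centralizer_zTwo_normal :
    M ≤ normalizer ((centralizer (h.zTwo : Set G) : Subgroup G) : Set G) :=
  le_normalizer_iff.mpr fun r hr c hc => mem_centralizer_iff.mpr fun g hg => by
    have h1 := mem_centralizer_iff.mp hc _ (h.conj_zTwo (inv_mem hr) hg)
    have h2 := commute_conj (show Commute _ c from h1) r
    rwa [show r * (r⁻¹ * g * r⁻¹⁻¹) * r⁻¹ = g by group] at h2

variable (hs : Squaring Q E) (hQE : ¬ Q ≤ E) (hmulti : u ∉ h.zTwo) (hQX : ¬ Q ≤ h.zTwo)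
include hs hQE hmulti hQX

theorem mem_E_of_Q_zTwo {g : G} (hgQ : g ∈ Q) (hg : g ∈ h.zTwo) : g ∈ E := by
  by_contra hgE
  exact hQX (h.Q_le_of_mem hs h.normA_zTwo h.E_le_zTwo hg hgQ hgE)

variable [Finite G]

theorem zTwo_le_commutator : h.zTwo ≤ ⁅M, A⁆ :=
  h.le_commutator h.zTwo_le h.normA_zTwo hmulti

theorem mem_E_of_commute {x : G} (hx : x ∈ h.zTwo) (hxu : ⁅x, u⁆ = 1) : x ∈ E :=
  h.mem_E_of_Q_zTwo hs hQE hmulti hQX (h.mem_Q_of_commute (h.u_notMem_commutator (Or.inl hs))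
    (h.zTwo_le_commutator hs hQE hmulti hQX hx) (commutatorElement_eq_one_iff_mul_comm.mp hxu)) hx

theorem sq_zTwo_mem {x : G} (hx : x ∈ h.zTwo) : x * x ∈ E :=
  h.mem_E_of_commute hs hQE hmulti hQX (mul_mem hx hx) (by
    rw [h.comm_mul_left hx.1 (h.comm_u_zTwo hx), h.sq _ (h.comm_u_zTwo hx)])

theorem inv_mul_mem_of_comm_eq {x y : G} (hx : x ∈ h.zTwo) (hy : y ∈ h.zTwo)
    (e : ⁅x, u⁆ = ⁅y, u⁆) : x⁻¹ * y ∈ E := by
  refine h.mem_E_of_commute hs hQE hmulti hQX (mul_mem (inv_mem hx) hy) ?_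
  have h1 := h.comm_mul_left (h.zTwo_le hx) (h.comm_u_zTwo (mul_mem (inv_mem hx) hy))
  rw [mul_inv_cancel_left, ← e] at h1
  exact right_eq_mul.mp h1

/-- The second centre goes onto `E` by `u`. -/
theorem exists_comm_eq {e : G} (he : e ∈ E) : ∃ x ∈ h.zTwo, ⁅x, u⁆ = e := by
  by_cases he1 : e = 1
  · exact ⟨1, one_mem _, by rw [he1, commutatorElement_one_left]⟩
  obtain ⟨g, hg, hgE, hgc⟩ := exists_mem_layer h.two h.commutator_le h.normM_commutator
    (fun hle => hQE (h.Q_le_commutator.trans hle) : ¬ ⁅M, A⁆ ≤ E)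
  have hgX : g ∈ h.zTwo := ⟨h.commutator_le hg, hgc⟩
  obtain ⟨a, ha, hae⟩ := h.trans _ (h.comm_u_zTwo hgX)
    (fun e1 => hgE (h.mem_E_of_commute hs hQE hmulti hQX hgX e1)) e he he1
  exact ⟨a * g * a⁻¹, (mem_normalizer_iff.mp (h.normA_zTwo ha) g).mp hgX,
    by rw [← h.conj_comm_u ha, hae]⟩

theorem trans_zTwo {x y : G} (hx : x ∈ h.zTwo) (hxE : x ∉ E) (hy : y ∈ h.zTwo) (hyE : y ∉ E) :
    ∃ a ∈ A, (a * x * a⁻¹)⁻¹ * y ∈ E := by
  obtain ⟨a, ha, hae⟩ := h.trans _ (h.comm_u_zTwo hx)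
    (fun e => hxE (h.mem_E_of_commute hs hQE hmulti hQX hx e)) _ (h.comm_u_zTwo hy)
    (fun e => hyE (h.mem_E_of_commute hs hQE hmulti hQX hy e))
  rw [h.conj_comm_u ha] at hae
  exact ⟨a, ha, h.inv_mul_mem_of_comm_eq hs hQE hmulti hQX
    ((mem_normalizer_iff.mp (h.normA_zTwo ha) x).mp hx) hy hae⟩

theorem zTwo_comm {x y : G} (hx : x ∈ h.zTwo) (hy : y ∈ h.zTwo) : Commute x y := by
  set C := ⁅M, A⁆ ⊓ centralizer (h.zTwo : Set G) with hC
  have hCE : ¬ C ≤ E := by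
    intro hle
    refine hmulti ⟨h.u_mem, fun r hr => hle ⟨h.nxt_le_commutator (comm_mem_nxt hr h.u_mem), ?_⟩⟩
    exact mem_centralizer_iff.mpr fun g hg =>
      (h.commute_nxt hg (comm_mem_nxt hr h.u_mem)).symm.eq
  obtain ⟨g, hg, hgE, hgc⟩ := exists_mem_layer h.two (inf_le_left.trans h.commutator_le)
    (inf_norm h.normM_commutator h.centralizer_zTwo_normal) hCE
  have hgX : g ∈ h.zTwo := ⟨h.commutator_le hg.1, hgc⟩
  suffices x ∈ centralizer (h.zTwo : Set G) from (mem_centralizer_iff.mp this y hy).symm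
  by_cases hxE : x ∈ E
  · exact mem_centralizer_iff.mpr fun k hk => (h.central x hxE k (h.zTwo_le hk)).symm.eq
  obtain ⟨a, ha, hax⟩ := h.trans_zTwo hs hQE hmulti hQX hgX hgE hx hxE
  have := mul_mem ((mem_normalizer_iff.mp (h.inf_centralizer_zTwo_normA ha) g).mp hg.2)
    (mem_centralizer_iff.mpr fun k hk => (h.central _ hax k (h.zTwo_le hk)).symm.eq :
      _ ∈ centralizer (h.zTwo : Set G))
  rwa [mul_inv_cancel_left] at this

theorem exists_mul_eq {g : G} (hg : g ∈ ⁅M, A⁆) (hgu : ⁅g, u⁆ ∈ E) :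
    ∃ x ∈ h.zTwo, ∃ q ∈ Q, g = x * q := by
  obtain ⟨x, hx, hxe⟩ := h.exists_comm_eq hs hQE hmulti hQX hgu
  refine ⟨x, hx, x⁻¹ * g, h.mem_Q_of_commute (h.u_notMem_commutator (Or.inl hs))
    (mul_mem (inv_mem (h.zTwo_le_commutator hs hQE hmulti hQX hx)) hg) ?_,
    (mul_inv_cancel_left _ _).symm⟩
  refine mul_inv_eq_iff_eq_mul.mp ?_
  rw [commutatorElement_def, commutatorElement_def] at hxe
  calc x⁻¹ * g * u * (x⁻¹ * g)⁻¹ = x⁻¹ * (g * u * g⁻¹ * u⁻¹) * u * x := by group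
    _ = x⁻¹ * (x * u * x⁻¹ * u⁻¹) * u * x := by rw [hxe]
    _ = u := by group

/-- `Q` centralises the second centre. -/
theorem Q_comm_zTwo {q x : G} (hq : q ∈ Q) (hx : x ∈ h.zTwo) : Commute q x := by
  have hXn := h.zTwo_normal
  by_contra hne
  -- nothing outside `E` in `Q` centralises the second centre
  have hQC : ∀ k ∈ Q, k ∈ centralizer (h.zTwo : Set G) → k ∈ E := by
    intro k hk hkC
    by_contra hkE
    refine hne (mem_centralizer_iff.mp ?_ x hx).symm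
    exact h.Q_le_of_mem hs h.inf_centralizer_zTwo_normA (fun e he =>
      mem_centralizer_iff.mpr fun y hy => (h.central e he y (h.zTwo_le hy)).symm.eq) hkC hk hkE hq
  -- an element moved into the second centre, moving `u` out of `E`
  obtain ⟨g, hgK, hgX, hgu⟩ : ∃ g ∈ ⁅M, A⁆, (∀ r ∈ M, ⁅r, g⁆ ∈ h.zTwo) ∧ ⁅g, u⁆ ∉ E := by
    set C := ⁅M, A⁆ ⊓ centralizer (h.zTwo : Set G) with hC
    by_cases hCX : C ≤ h.zTwo
    · obtain ⟨g, hg, hgu⟩ : ∃ g ∈ M, ⁅g, u⁆ ∉ E := by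
        by_contra hcon
        push Not at hcon
        exact hmulti ⟨h.u_mem, fun r hr => hcon r hr⟩
      have key : ∀ k ∈ M, ∀ r ∈ M, ⁅r, k⁆ ∈ h.zTwo := fun k hk r hr =>
        hCX ⟨h.nxt_le_commutator (comm_mem_nxt hr hk), mem_centralizer_iff.mpr fun y hy =>
          (h.commute_nxt hy (comm_mem_nxt hr hk)).symm.eq⟩
      rcases h.mem_or_mul_mem hg with h1 | h1
      · exact ⟨g, h1, key g hg, hgu⟩
      · refine ⟨g * u, h1, key _ (M.mul_mem hg h.u_mem), ?_⟩
        rwa [h.comm_mul_left hg (by rw [commutatorElement_self]; exact E.one_mem),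
          commutatorElement_self, one_mul]
    · obtain ⟨g, hg, hgX, hgc⟩ := exists_mem_layer h.two (inf_le_left.trans h.commutator_le)
        (inf_norm h.normM_commutator h.centralizer_zTwo_normal) hCX
      refine ⟨g, hg.1, hgc, fun hgu => hgX ?_⟩
      obtain ⟨y, hy, k, hk, rfl⟩ := h.exists_mul_eq hs hQE hmulti hQX hg.1 hgu
      refine mul_mem hy (h.E_le_zTwo (hQC k hk ?_))
      have := mul_mem (inv_mem (mem_centralizer_iff.mpr fun z hz =>
        (h.zTwo_comm hs hQE hmulti hQX hy hz).symm.eq : y ∈ centralizer (h.zTwo : Set G))) hg.2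
      rwa [inv_mul_cancel_left] at this
  set z := ⁅g, u⁆ with hz
  have hzX : z ∈ h.zTwo := by
    rw [hz, ← commutatorElement_inv]; exact inv_mem (hgX u h.u_mem)
  have hzu : ⁅z, u⁆ = z * z := h.comm_u_sq
  -- squaring on the second centre is the commutator with `u`
  have hsqmu : ∀ y ∈ h.zTwo, y * y = ⁅y, u⁆ := by
    intro y hy
    by_cases hyE : y ∈ E
    · rw [h.sq y hyE, commutatorElement_eq_one_iff_mul_comm.mpr (h.central y hyE u h.u_mem).eq]
    obtain ⟨a, ha, hay⟩ := h.trans_zTwo hs hQE hmulti hQX hzX hgu hy hyE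
    have haz := (mem_normalizer_iff.mp (h.normA_zTwo ha) z).mp hzX
    set e := (a * z * a⁻¹)⁻¹ * y with he
    have hy' : y = a * z * a⁻¹ * e := (mul_inv_cancel_left _ _).symm
    have hae : ⁅a * z * a⁻¹, u⁆ = a * z * a⁻¹ * (a * z * a⁻¹) := by
      rw [← h.conj_comm_u ha, hzu]; group
    rw [hy', (h.central e hay _ (h.zTwo_le haz)).mul_mul_mul_comm, h.sq e hay, mul_one,
      h.comm_mul_left (h.zTwo_le haz) (by
        rw [commutatorElement_eq_one_iff_mul_comm.mpr (h.central e hay u h.u_mem).eq]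
        exact E.one_mem),
      commutatorElement_eq_one_iff_mul_comm.mpr (h.central e hay u h.u_mem).eq, one_mul, hae]
  -- the two relations for `⁅g, k⁆`
  have hrel : ∀ k ∈ Q, ∃ w ∈ h.zTwo, ⁅k, z⁆ = ⁅w, u⁆ ∧ ⁅k, w⁆ = ⁅w, u⁆ := by
    intro k hk
    set w := ⁅g, k⁆ with hw
    have hwX : w ∈ h.zTwo := by
      rw [hw, ← commutatorElement_inv]; exact inv_mem (hgX k (h.le hk))
    have hgk : g * k * g⁻¹ = w * k := by rw [hw, commutatorElement_def, inv_mul_cancel_right]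
    have hgu' : g * u * g⁻¹ = z * u := by rw [hz, commutatorElement_def, inv_mul_cancel_right]
    have hku : ⁅k, u⁆ = 1 := commutatorElement_eq_one_iff_mul_comm.mpr (h.commute k hk).eq
    have hkz : ⁅k, z⁆ ∈ E := hzX.2 k (h.le hk)
    have hwk : w * k ∈ M := M.mul_mem (h.zTwo_le hwX) (h.le hk)
    have h1 : ⁅w * k, z * u⁆ = 1 := by
      rw [← hgk, ← hgu', commutatorElement_eq_one_iff_mul_comm]
      exact (commute_conj (h.commute k hk) g).eq
    have h2 : ⁅w * k, u⁆ = ⁅w, u⁆ := by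
      rw [h.comm_mul_left (h.zTwo_le hwX) (hku ▸ E.one_mem), hku, one_mul]
    rw [h.comm_mul_right (h.zTwo_le hzX) (h2 ▸ h.comm_u_zTwo hwX), h2,
      h.comm_mul_left (h.zTwo_le hwX) hkz,
      commutatorElement_eq_one_iff_mul_comm.mpr (h.zTwo_comm hs hQE hmulti hQX hwX hzX).eq,
      mul_one] at h1
    have hkz' : ⁅k, z⁆ = ⁅w, u⁆ := (eq_inv_of_mul_eq_one_left h1).trans
      (h.inv_E (h.comm_u_zTwo hwX))
    refine ⟨w, hwX, hkz', ?_⟩
    have hc := hwX.2 k (h.le hk)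
    have h4 : w * k * (w * k) = k * k := by
      rw [← hgk, show g * k * g⁻¹ * (g * k * g⁻¹) = g * (k * k) * g⁻¹ by group,
        h.conj_E (h.commutator_le hgK) (h.sq_mem k hk)]
    have h5 : k * w = ⁅k, w⁆ * w * k := by simp [commutatorElement_def]
    have h6 : ⁅k, w⁆ * (w * w) * (k * k) = k * k := by
      calc ⁅k, w⁆ * (w * w) * (k * k) = ⁅k, w⁆ * w * (w * k * k) := by group
        _ = w * ⁅k, w⁆ * (w * k * k) := by rw [(h.central _ hc w (h.zTwo_le hwX)).eq]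
        _ = w * (⁅k, w⁆ * w * k) * k := by group
        _ = w * k * (w * k) := by rw [← h5]; group
        _ = k * k := h4
    rw [← hsqmu w hwX]
    exact (eq_inv_of_mul_eq_one_left (mul_eq_right.mp h6)).trans
      (h.inv_E (h.sq_zTwo_mem hs hQE hmulti hQX hwX))
  -- the family of maps on `E`
  choose ξ hξX hξu using fun e : E => h.exists_comm_eq hs hQE hmulti hQX e.2
  have hval : ∀ k ∈ Q, ∀ y ∈ h.zTwo, ∀ e : E, ⁅y, u⁆ = e → ⁅k, ξ e⁆ = ⁅k, y⁆ := by
    intro k hk y hy e he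
    have h1 := h.inv_mul_mem_of_comm_eq hs hQE hmulti hQX (hξX e) hy ((hξu e).trans he.symm)
    have h2 := h.comm_mul_right (g := k) (h.zTwo_le (hξX e))
      (b := (ξ e)⁻¹ * y) (by rw [h.comm_E (h.le hk) h1]; exact E.one_mem)
    rw [mul_inv_cancel_left, h.comm_E (h.le hk) h1, mul_one] at h2
    exact h2.symm
  let P : G → E → G := fun k e => ⁅k, ξ e⁆
  have hPE : ∀ k ∈ Q, ∀ e, P k e ∈ E := fun k hk e => (hξX e).2 k (h.le hk)
  have hPadd : ∀ k ∈ Q, ∀ e f : E, P k (e * f) = P k e * P k f := fun k hk e f => by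
    show ⁅k, ξ (e * f)⁆ = _
    rw [hval k hk (ξ e * ξ f) (mul_mem (hξX e) (hξX f)) (e * f) (by
      rw [h.comm_mul_left (h.zTwo_le (hξX e)) (h.comm_u_zTwo (hξX f)), hξu, hξu, Subgroup.coe_mul]
      exact (h.central _ e.2 _ (h.le_M f.2)).symm.eq),
      h.comm_mul_right (h.zTwo_le (hξX e)) (hPE k hk f)]
  have hPQ : ∀ k ∈ Q, ∀ l ∈ Q, ∀ e, P (k * l) e = P l e * P k e := fun k hk l hl e =>
    h.comm_mul_left (h.le hk) (hPE l hl e)
  have hconjE : ∀ a ∈ A, ∀ e : E, a * e * a⁻¹ ∈ E := fun a ha e =>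
    (mem_normalizer_iff.mp (h.normE ha) _).mp e.2
  have hPconj : ∀ a (ha : a ∈ A), ∀ k ∈ Q, ∀ e : E,
      a * P k e * a⁻¹ = P (a * k * a⁻¹) ⟨a * e * a⁻¹, hconjE a ha e⟩ := fun a ha k hk e => by
    show a * ⁅k, ξ e⁆ * a⁻¹ = ⁅a * k * a⁻¹, ξ _⁆
    rw [h.conj_comm, ← hval _ ((mem_normalizer_iff.mp (h.normQ ha) k).mp hk) (a * ξ e * a⁻¹)
      ((mem_normalizer_iff.mp (h.normA_zTwo ha) _).mp (hξX e))
      ⟨a * e * a⁻¹, hconjE a ha e⟩ (by rw [← h.conj_comm_u ha, hξu])]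
  have hidem : ∀ k (hk : k ∈ Q), ∀ e : E, P k ⟨P k e, hPE k hk e⟩ = P k e := by
    intro k hk e
    by_cases he1 : (e : G) = 1
    · have h1 : P k e = 1 := by
        rw [show P k e = ⁅k, (1 : G)⁆ from hval k hk 1 (one_mem _) e (by
          rw [commutatorElement_one_left, he1]), commutatorElement_one_right]
      exact (hval k hk 1 (one_mem _) ⟨_, hPE k hk e⟩ (by
        rw [commutatorElement_one_left]; exact h1.symm)).trans
        ((commutatorElement_one_right k).trans h1.symm)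
    obtain ⟨a, ha, hae⟩ := h.trans _ (h.comm_u_zTwo hzX)
      (fun e1 => hgu (h.mem_E_of_commute hs hQE hmulti hQX hzX e1)) e e.2 he1
    have hk' : a⁻¹ * k * a ∈ Q := by
      have := (mem_normalizer_iff.mp (h.normQ (inv_mem ha)) k).mp hk
      rwa [inv_inv] at this
    obtain ⟨w, hw, hw1, hw2⟩ := hrel _ hk'
    have key : ∀ y ∈ h.zTwo, ⁅k, a * y * a⁻¹⁆ = a * ⁅a⁻¹ * k * a, y⁆ * a⁻¹ := fun y _ => by
      simp [commutatorElement_def, mul_assoc]
    have haX : ∀ y ∈ h.zTwo, a * y * a⁻¹ ∈ h.zTwo := fun y hy =>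
      (mem_normalizer_iff.mp (h.normA_zTwo ha) y).mp hy
    have e1 : P k e = a * ⁅w, u⁆ * a⁻¹ := by
      show ⁅k, ξ e⁆ = _
      rw [hval k hk _ (haX z hzX) e (by rw [← h.conj_comm_u ha, hae]), key z hzX, hw1]
    show ⁅k, ξ _⁆ = _
    rw [hval k hk _ (haX w hw) ⟨_, hPE k hk e⟩ (by rw [← h.conj_comm_u ha]; exact e1.symm),
      key w hw, hw2, e1]
  have hcomm : ∀ k (hk : k ∈ Q) l (hl : l ∈ Q), ∀ e : E,
      P k ⟨P l e, hPE l hl e⟩ = P l ⟨P k e, hPE k hk e⟩ := by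
    intro k hk l hl e
    have h1 := hidem (k * l) (Q.mul_mem hk hl) e
    simp only [hPQ k hk l hl] at h1
    have h2 : (⟨P l e * P k e, E.mul_mem (hPE l hl e) (hPE k hk e)⟩ : E) =
        ⟨P l e, hPE l hl e⟩ * ⟨P k e, hPE k hk e⟩ := rfl
    rw [h2, hPadd l hl, hPadd k hk, hidem l hl e, hidem k hk e] at h1
    set a := P l ⟨P k e, hPE k hk e⟩
    set b := P k ⟨P l e, hPE l hl e⟩
    have ha : a ∈ E := hPE l hl _
    have hb : b ∈ E := hPE k hk _
    have hx := hPE l hl e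
    have hy := hPE k hk e
    have h3 : a * b = 1 := by
      have h4 : P l e * (a * b) * P k e = P l e * 1 * P k e := by
        rw [mul_one]
        calc P l e * (a * b) * P k e = P l e * a * (b * P k e) := by group
          _ = _ := h1
      exact mul_left_cancel (mul_right_cancel h4)
    rw [eq_inv_of_mul_eq_one_left h3, h.inv_E hb]
  -- a vector on which every map is `0` or `1`
  let good : E → Set G := fun e => {k | k ∈ Q ∧ (P k e = 1 ∨ P k e = e)}
  obtain ⟨y, hy1, hymax⟩ := Set.Finite.exists_maximalFor good {e : E | (e : G) ≠ 1}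
    (Set.toFinite _) (by obtain ⟨e, he, he1⟩ := h.exists_ne_one; exact ⟨⟨e, he⟩, he1⟩)
  have hPone : ∀ k ∈ Q, P k 1 = 1 := fun k hk => by
    have h1 := hPadd k hk 1 1
    rw [one_mul] at h1
    exact right_eq_mul.mp h1
  have hy : ∀ k ∈ Q, P k y = 1 ∨ P k y = y := by
    intro k hk
    by_contra hcon
    push Not at hcon
    set y' : E := ⟨P k y, hPE k hk y⟩
    have hsub : good y ⊆ good y' := by
      rintro l ⟨hl, hl'⟩
      refine ⟨hl, ?_⟩
      rw [← hcomm k hk l hl y]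
      rcases hl' with h1 | h1
      · left
        rw [show (⟨P l y, hPE l hl y⟩ : E) = 1 from Subtype.ext h1, hPone k hk]
      · right
        rw [show (⟨P l y, hPE l hl y⟩ : E) = y from Subtype.ext h1]
    have hk' : k ∈ good y' := ⟨hk, Or.inr (hidem k hk y)⟩
    rcases (hymax hcon.1 hsub hk').2 with h1 | h1
    exacts [hcon.1 h1, hcon.2 h1]
  have hall : ∀ k ∈ Q, ∀ e : E, P k e = 1 ∨ P k e = e := by
    intro k hk e
    by_cases he1 : (e : G) = 1
    · left; rw [show e = 1 from Subtype.ext he1]; exact hPone k hk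
    obtain ⟨a, ha, hae⟩ := h.trans y y.2 hy1 e e.2 he1
    have hk' : a⁻¹ * k * a ∈ Q := by
      have := (mem_normalizer_iff.mp (h.normQ (inv_mem ha)) k).mp hk
      rwa [inv_inv] at this
    have h1 := hPconj a ha _ hk' y
    rw [show a * (a⁻¹ * k * a) * a⁻¹ = k by group,
      show (⟨a * y * a⁻¹, hconjE a ha y⟩ : E) = e from Subtype.ext hae] at h1
    rcases hy _ hk' with h2 | h2
    · left; rw [← h1, h2, mul_one, mul_inv_cancel]
    · right; rw [← h1, h2, hae]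
  have huni : ∀ k ∈ Q, (∀ e, P k e = 1) ∨ ∀ e, P k e = e := by
    intro k hk
    by_cases hc : ∀ e, P k e = 1
    · exact Or.inl hc
    right
    push Not at hc
    obtain ⟨e₁, he₁⟩ := hc
    have he₁' := (hall k hk e₁).resolve_left he₁
    intro e
    rcases hall k hk e with h1 | h1
    · rcases hall k hk (e₁ * e) with h2 | h2 <;> rw [hPadd k hk, he₁', h1, mul_one] at h2
      · exact absurd (he₁'.trans h2) he₁
      · rw [Subgroup.coe_mul] at h2
        rw [h1, left_eq_mul.mp h2]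
    · exact h1
  have hzero : ∀ k ∈ Q, ∀ e, P k e = 1 := by
    intro k hk
    refine (huni k hk).resolve_right fun hone => ?_
    have hEone : ∀ d ∈ E, ∀ e, P d e = 1 := fun d hd e => by
      show ⁅d, ξ e⁆ = 1
      rw [commutatorElement_eq_one_iff_mul_comm]
      exact (h.central d hd _ (h.zTwo_le (hξX e))).eq
    obtain ⟨e₀, he₀, he₀1⟩ := h.exists_ne_one
    have hkE : k ∉ E := fun hkE => he₀1 ((hone ⟨e₀, he₀⟩).symm.trans (hEone k hkE _))
    have hallone : ∀ l ∈ Q, l ∉ E → ∀ e, P l e = e := by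
      intro l hl hlE e
      obtain ⟨a, ha, hal⟩ := h.trans_Q hs hk hkE hl hlE
      have hak := (mem_normalizer_iff.mp (h.normQ ha) k).mp hk
      have h1 := hPQ _ hak _ (h.le_E hal) e
      rw [mul_inv_cancel_left, hEone _ hal, one_mul] at h1
      have he' : a⁻¹ * e * a ∈ E := by
        have := (mem_normalizer_iff.mp (h.normE (inv_mem ha)) e).mp e.2
        rwa [inv_inv] at this
      have h2 := hPconj a ha k hk ⟨_, he'⟩
      rw [hone ⟨_, he'⟩, show (⟨a * (a⁻¹ * e * a) * a⁻¹, hconjE a ha ⟨_, he'⟩⟩ : E) = e from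
        Subtype.ext (by group)] at h2
      rw [h1, ← h2]
      group
    obtain ⟨l, hl, -, -, hkl, -, -⟩ := hs.rank k hk hkE
    have hlE : l ∉ E := fun hlE => hkl (h.comm_E (h.le hk) hlE)
    have hklE : k * l ∉ E := fun hklE => hkl (by
      have h1 := h.comm_mul_right (g := k) (h.le hk) (h.comm_mem k hk l hl)
      rwa [h.comm_E (h.le hk) hklE, commutatorElement_self, one_mul, eq_comm] at h1)
    have h1 := hallone (k * l) (Q.mul_mem hk hl) hklE ⟨e₀, he₀⟩
    rw [hPQ k hk l hl, hone, hallone l hl hlE, h.sq e₀ he₀] at h1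
    exact he₀1 h1.symm
  refine hne (commutatorElement_eq_one_iff_mul_comm.mp ?_)
  rw [← hval q hq x hx ⟨_, h.comm_u_zTwo hx⟩ rfl]
  exact hzero q hq _

theorem mul_self_mul {x q : G} (hx : x ∈ h.zTwo) (hq : q ∈ Q) : x * q * (x * q) = x * x * (q * q) := by
  rw [(h.Q_comm_zTwo hs hQE hmulti hQX hq hx).mul_mul_mul_comm]

/-- A group in `M` moving `Q` inside `Q X` moves it by `X` only. -/
theorem comm_mem_zTwo_of_conj {N : Subgroup G} (hNM : N ≤ M) (hAN : A ≤ normalizer (N : Set G))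
    (hXN : h.zTwo ≤ N) (hQN : Q ≤ N)
    (hN : ∀ r ∈ N, ∀ q ∈ Q, ⁅r * q * r⁻¹, u⁆ ∈ E) : ∀ r ∈ N, ∀ q ∈ Q, ⁅r, q⁆ ∈ h.zTwo := by
  have hQK := h.Q_le_commutator
  have hXK := h.zTwo_le_commutator hs hQE hmulti hQX
  have hmem : ∀ g ∈ h.zTwo ⊔ Q, ∃ y ∈ h.zTwo, ∃ k ∈ Q, g = y * k := by
    intro g hg
    obtain ⟨y, hy, k, hk, e⟩ := (Coprime.mem_sup_iff (h.le.trans h.zTwo_normal)).mp hg
    exact ⟨y, hy, k, hk, e.symm⟩
  have hNsup : N ≤ normalizer ((h.zTwo ⊔ Q : Subgroup G) : Set G) := fun r hr => by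
    refine Cfsg.Agent.H39.mem_normalizer_of_conj_mem fun g hg => ?_
    obtain ⟨y, hy, k, hk, rfl⟩ := hmem g hg
    obtain ⟨y', hy', k', hk', e⟩ := h.exists_mul_eq hs hQE hmulti hQX
      ((mem_normalizer_iff.mp (h.normM_commutator (hNM hr)) k).mp (hQK hk)) (hN r hr k hk)
    rw [show r * (y * k) * r⁻¹ = r * y * r⁻¹ * (r * k * r⁻¹) by group, e]
    exact mul_mem (mem_sup_left (h.conj_zTwo (hNM hr) hy))
      (mul_mem (mem_sup_left hy') (mem_sup_right hk'))
  have hne : ¬ h.zTwo ⊔ Q ≤ h.zTwo := fun hle => hQX (le_sup_right.trans hle)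
  obtain ⟨g, hg, hgX, hgc⟩ := exists_mem_layer (h.two.to_le hNM) (sup_le hXN hQN) hNsup hne
  obtain ⟨T, hAT, hT⟩ := exists_into (P := N) (S := h.zTwo) h.zTwo_normal hAN h.normM h.normA_zTwo
  obtain ⟨y, hy, k, hk, rfl⟩ := hmem g hg
  have hgM : y * k ∈ M := M.mul_mem hy.1 (h.le hk)
  have hgT : y * k ∈ T := (hT _).mpr ⟨hgM, hgc⟩
  have hXT : ∀ x ∈ h.zTwo, x ∈ T := fun x hx => (hT x).mpr ⟨hx.1, fun r hr =>
    h.E_le_zTwo (hx.2 r (hNM hr))⟩
  have hkT : k ∈ T := by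
    have := T.mul_mem (T.inv_mem (hXT y hy)) hgT
    rwa [inv_mul_cancel_left] at this
  have hkE : k ∉ E := fun hkE => hgX (mul_mem hy (h.E_le_zTwo hkE))
  exact fun r hr q hq => ((hT q).mp (h.Q_le_of_mem hs hAT
    (fun e he => hXT e (h.E_le_zTwo he)) hkT hk hkE hq)).2 r hr

/-- The second centre is elementary. -/
theorem sq_zTwo {x : G} (hx : x ∈ h.zTwo) : x * x = 1 := by
  haveI : Fact (Nat.Prime 2) := ⟨Nat.prime_two⟩
  by_contra hx2
  have hsmall : ∀ y ∈ h.zTwo, y * y = 1 → y ∈ E := by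
    intro y hy hy2
    by_contra hyE
    refine hx2 ?_
    by_cases hxE : x ∈ E
    · exact h.sq x hxE
    obtain ⟨a, ha, hax⟩ := h.trans_zTwo hs hQE hmulti hQX hy hyE hx hxE
    rw [show x = a * y * a⁻¹ * ((a * y * a⁻¹)⁻¹ * x) from (mul_inv_cancel_left _ _).symm,
      (h.central _ hax _ (h.zTwo_le ((mem_normalizer_iff.mp (h.normA_zTwo ha) y).mp hy))).mul_mul_mul_comm,
      h.sq _ hax, mul_one, show a * y * a⁻¹ * (a * y * a⁻¹) = a * (y * y) * a⁻¹ by group, hy2]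
    group
  have hME : M ≤ normalizer (E : Set G) := le_normalizer_iff.mpr fun r hr e he => by
    rw [h.conj_E hr he]; exact he
  obtain ⟨T, hAT, hT⟩ := exists_into (P := Q) (K := M) hME h.normQ h.normM h.normE
  have hTM : T ≤ M := fun g hg => ((hT g).mp hg).1
  have hQT : Q ≤ T := fun q hq => (hT q).mpr ⟨h.le hq, fun r hr => h.comm_mem r hr q hq⟩
  have hXT : h.zTwo ≤ T := fun y hy => (hT y).mpr ⟨hy.1, fun r hr => hy.2 r (h.le hr)⟩
  have huT : u ∈ T := (hT u).mpr ⟨h.u_mem, fun r hr => by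
    rw [commutatorElement_eq_one_iff_mul_comm.mpr (h.commute r hr).eq]; exact E.one_mem⟩
  have hne : T.subgroupOf M ≠ ⊤ := fun e => hQX fun q hq => ⟨h.le hq, fun r hr => by
    rw [← commutatorElement_inv]
    exact inv_mem (((hT r).mp (subgroupOf_eq_top.mp e hr)).2 q hq)⟩
  obtain ⟨r, hr, hrn⟩ := SetLike.exists_of_lt (PGroups.lt_normalizer h.two hne)
  set N := M ⊓ normalizer (T : Set G) with hN
  have hrN : (r : G) ∈ N := ⟨r.2, Cfsg.Agent.H39.mem_normalizer_of_conj_mem fun g hg =>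
    (mem_normalizer_iff.mp hr ⟨g, hTM hg⟩).mp hg⟩
  have hTN : T ≤ N := le_inf hTM le_normalizer
  have hconj : ∀ g ∈ N, ∀ q ∈ Q, ⁅g * q * g⁻¹, u⁆ ∈ E := by
    intro g hg q hq
    have h1 := ((hT _).mp ((mem_normalizer_iff.mp (inv_mem hg.2) u).mp huT)).2 q hq
    have h2 := (mem_normalizer_iff.mp (hME hg.1) _).mp h1
    rwa [h.conj_comm, show g * (g⁻¹ * u * g⁻¹⁻¹) * g⁻¹ = u by group] at h2
  have hkey := h.comm_mem_zTwo_of_conj hs hQE hmulti hQX inf_le_left
    (inf_norm h.normM (le_normalizer_iff.mpr fun a ha g hg =>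
      Cfsg.Agent.H39.mem_normalizer_of_conj_mem fun t ht => by
        have h1 := (mem_normalizer_iff.mp (hAT (inv_mem ha)) t).mp ht
        have h2 := (mem_normalizer_iff.mp hg _).mp h1
        have h3 := (mem_normalizer_iff.mp (hAT ha) _).mp h2
        convert h3 using 1; group))
    (hXT.trans hTN) (hQT.trans hTN) hconj r hrN
  refine hrn (mem_subgroupOf.mpr ((hT r).mpr ⟨r.2, fun q hq => ?_⟩))
  have hw := hkey q hq
  rw [← commutatorElement_inv]
  refine inv_mem (hsmall _ hw ?_)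
  have h1 := h.mul_self_mul hs hQE hmulti hQX hw hq
  rw [show ⁅(r : G), q⁆ * q = (r : G) * q * (r : G)⁻¹ by simp [commutatorElement_def],
    h.mul_self_conj r.2 (h.sq_mem q hq)] at h1
  exact mul_eq_right.mp h1.symm

theorem mem_E_of_comm_u_mem_zTwo {g : G} (hg : ⁅g, u⁆ ∈ h.zTwo) : ⁅g, u⁆ ∈ E :=
  h.mem_E_of_commute hs hQE hmulti hQX hg (h.comm_u_sq.trans (h.sq_zTwo hs hQE hmulti hQX hg))

/-- `M` moves `Q` by the second centre. -/
theorem comm_Q_mem_zTwo : ∀ r ∈ M, ∀ q ∈ Q, ⁅r, q⁆ ∈ h.zTwo := by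
  haveI : Fact (Nat.Prime 2) := ⟨Nat.prime_two⟩
  obtain ⟨T, hAT, hT⟩ := exists_into (P := Q) (K := M) h.zTwo_normal h.normQ h.normM h.normA_zTwo
  have hTM : T ≤ M := fun g hg => ((hT g).mp hg).1
  suffices hall : M ≤ T by
    intro r hr q hq
    rw [← commutatorElement_inv]
    exact inv_mem (((hT r).mp (hall hr)).2 q hq)
  by_contra hall
  have hQT : Q ≤ T := fun q hq => (hT q).mpr
    ⟨h.le hq, fun r hr => h.E_le_zTwo (h.comm_mem r hr q hq)⟩
  have hXT : h.zTwo ≤ T := fun y hy => (hT y).mpr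
    ⟨hy.1, fun r hr => h.E_le_zTwo (hy.2 r (h.le hr))⟩
  have huT : u ∈ T := (hT u).mpr ⟨h.u_mem, fun r hr => by
    rw [commutatorElement_eq_one_iff_mul_comm.mpr (h.commute r hr).eq]; exact one_mem _⟩
  obtain ⟨r, hr, hrn⟩ := SetLike.exists_of_lt (PGroups.lt_normalizer h.two
    (fun e => hall (subgroupOf_eq_top.mp e) : T.subgroupOf M ≠ ⊤))
  set N := M ⊓ normalizer (T : Set G) with hN
  have hrN : (r : G) ∈ N := ⟨r.2, Cfsg.Agent.H39.mem_normalizer_of_conj_mem fun g hg =>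
    (mem_normalizer_iff.mp hr ⟨g, hTM hg⟩).mp hg⟩
  have hTN : T ≤ N := le_inf hTM le_normalizer
  have hconj : ∀ g ∈ N, ∀ q ∈ Q, ⁅g * q * g⁻¹, u⁆ ∈ E := by
    intro g hg q hq
    refine h.mem_E_of_comm_u_mem_zTwo hs hQE hmulti hQX ?_
    have h1 := ((hT _).mp ((mem_normalizer_iff.mp (inv_mem hg.2) u).mp huT)).2 q hq
    have h2 := h.conj_zTwo hg.1 h1
    rwa [h.conj_comm, show g * (g⁻¹ * u * g⁻¹⁻¹) * g⁻¹ = u by group] at h2
  have hkey := h.comm_mem_zTwo_of_conj hs hQE hmulti hQX inf_le_left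
    (inf_norm h.normM (le_normalizer_iff.mpr fun a ha g hg =>
      Cfsg.Agent.H39.mem_normalizer_of_conj_mem fun t ht => by
        have h1 := (mem_normalizer_iff.mp (hAT (inv_mem ha)) t).mp ht
        have h2 := (mem_normalizer_iff.mp hg _).mp h1
        have h3 := (mem_normalizer_iff.mp (hAT ha) _).mp h2
        convert h3 using 1; group))
    (hXT.trans hTN) (hQT.trans hTN) hconj r hrN
  refine hrn (mem_subgroupOf.mpr ((hT r).mpr ⟨r.2, fun q hq => ?_⟩))
  rw [← commutatorElement_inv]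
  exact inv_mem (hkey q hq)

/-- Nothing outside the second centre in `⁅M, A⁆` centralises it and `Q`. -/
theorem mem_zTwo_of_centralizes {c : G} (hc : c ∈ ⁅M, A⁆) (hcQ : ∀ q ∈ Q, Commute c q)
    (hcX : ∀ x ∈ h.zTwo, Commute c x) : c ∈ h.zTwo := by
  set C := ⁅M, A⁆ ⊓ (centralizer (Q : Set G) ⊓ centralizer (h.zTwo : Set G)) with hC
  have hCn : M ≤ normalizer (C : Set G) := le_normalizer_iff.mpr fun r hr g hg => by
    obtain ⟨hgK, hgQ, hgX⟩ := hg
    have h1 := (mem_normalizer_iff.mp (h.centralizer_zTwo_normal hr) g).mp hgX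
    refine ⟨(mem_normalizer_iff.mp (h.normM_commutator hr) g).mp hgK,
      mem_centralizer_iff.mpr fun q hq => ?_, h1⟩
    have h2 := h.comm_Q_mem_zTwo hs hQE hmulti hQX r⁻¹ (inv_mem hr) q hq
    have h3 : Commute (⁅r⁻¹, q⁆ * q) g :=
      (show Commute _ g from mem_centralizer_iff.mp hgX _ h2).mul_left
        (mem_centralizer_iff.mp hgQ q hq)
    have h4 := commute_conj h3 r
    rw [show r * (⁅r⁻¹, q⁆ * q) * r⁻¹ = q by rw [commutatorElement_def]; group] at h4
    exact h4.eq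
  by_contra hcX'
  obtain ⟨g, hg, hgX, hgc⟩ := exists_mem_layer h.two (inf_le_left.trans h.commutator_le) hCn
    (fun hle => hcX' (hle ⟨hc, mem_centralizer_iff.mpr fun q hq => (hcQ q hq).symm.eq,
      mem_centralizer_iff.mpr fun x hx => (hcX x hx).symm.eq⟩) : ¬ C ≤ h.zTwo)
  have hgu : ⁅g, u⁆ ∈ E := h.mem_E_of_comm_u_mem_zTwo hs hQE hmulti hQX (by
    rw [← commutatorElement_inv]; exact inv_mem (hgc u h.u_mem))
  obtain ⟨y, hy, k, hk, rfl⟩ := h.exists_mul_eq hs hQE hmulti hQX hg.1 hgu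
  refine hgX (mul_mem hy (h.E_le_zTwo (h.abelian_le (Or.inl hs)
    (B := Q ⊓ centralizer (Q : Set G)) inf_le_left ?_ (le_inf h.le_E fun e he =>
      mem_centralizer_iff.mpr fun q hq => ((h.central e he q (h.le hq)).symm).eq)
    (fun a ha b hb => mem_centralizer_iff.mp hb.2 a ha.1) ⟨hk, ?_⟩)))
  · refine inf_norm h.normQ (le_normalizer_iff.mpr fun a ha b hb => ?_)
    refine mem_centralizer_iff.mpr fun q hq => ?_
    have h1 := mem_centralizer_iff.mp hb _
      ((mem_normalizer_iff.mp (h.normQ (inv_mem ha)) q).mp hq)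
    have h2 := commute_conj (show Commute _ b from h1) a
    rw [show a * (a⁻¹ * q * a⁻¹⁻¹) * a⁻¹ = q by group] at h2
    exact h2.eq
  · refine mem_centralizer_iff.mpr fun q hq => ?_
    have h1 : Commute q (y * k) := mem_centralizer_iff.mp hg.2.1 q hq
    have h2 := (h.Q_comm_zTwo hs hQE hmulti hQX hq hy).inv_right.mul_right h1
    rw [inv_mul_cancel_left] at h2
    exact h2.eq

/-- An involution of `⁅M, A⁆` outside `E` commutes with an involution outside `E ∪ E v`. -/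
theorem false_of_omega {v : G} (hv : v ∈ ⁅M, A⁆) (hvE : v ∉ E) (hv2 : v * v = 1)
    (hom : ∀ y ∈ M, y * y = 1 → Commute y v → y ∈ E ∨ y * v ∈ E) : False := by
  have hvM := h.commutator_le hv
  have hinv : v⁻¹ = v := inv_eq_of_mul_eq_one_right hv2
  have hvX : v ∉ h.zTwo := by
    intro hvX
    have hall : ∀ x ∈ h.zTwo, x ∈ E ∨ x * v ∈ E := fun x hx =>
      hom x hx.1 (h.sq_zTwo hs hQE hmulti hQX hx) (h.zTwo_comm hs hQE hmulti hQX hx hvX)
    have hval : ∀ x ∈ h.zTwo, ⁅x, u⁆ = 1 ∨ ⁅x, u⁆ = ⁅v, u⁆ := by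
      intro x hx
      rcases hall x hx with h1 | h1
      · exact Or.inl (commutatorElement_eq_one_iff_mul_comm.mpr (h.central x h1 u h.u_mem).eq)
      · right
        have h2 : ⁅x * v, u⁆ = 1 :=
          commutatorElement_eq_one_iff_mul_comm.mpr (h.central _ h1 u h.u_mem).eq
        rw [h.comm_mul_left hx.1 (h.comm_u_zTwo hvX)] at h2
        exact ((eq_inv_of_mul_eq_one_right h2).trans (h.inv_E (h.comm_u_zTwo hvX)))
    have hle : Nat.card E ≤ 2 := by
      refine le_trans (Nat.card_le_card_of_injective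
        (fun x : E => decide ((x : G) = 1)) fun e e' he => ?_) (by simp)
      obtain ⟨x, hx, hxe⟩ := h.exists_comm_eq hs hQE hmulti hQX e.2
      obtain ⟨y, hy, hye⟩ := h.exists_comm_eq hs hQE hmulti hQX e'.2
      simp only [decide_eq_decide] at he
      rcases hval x hx with h1 | h1 <;> rcases hval y hy with h2 | h2 <;>
        rw [hxe] at h1 <;> rw [hye] at h2
      · exact Subtype.ext (h1.trans h2.symm)
      · exact Subtype.ext (h1.trans (he.mp h1).symm)
      · exact Subtype.ext ((he.mpr h2).trans h2.symm)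
      · exact Subtype.ext (h1.trans h2.symm)
    have := h.four_le
    omega
  have hCX : ∀ y ∈ h.zTwo, Commute y v → y ∈ E := fun y hy hyv =>
    (hom y hy.1 (h.sq_zTwo hs hQE hmulti hQX hy) hyv).resolve_right fun h1 => hvX (by
      have := mul_mem (inv_mem hy) (h.E_le_zTwo h1)
      rwa [inv_mul_cancel_left] at this)
  have hvQ : ∀ q ∈ Q, ⁅v, q⁆ ∈ E := by
    intro q hq
    set x := ⁅v, q⁆ with hx
    have hxX : x ∈ h.zTwo := h.comm_Q_mem_zTwo hs hQE hmulti hQX v hvM q hq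
    have h1 : v * q * v⁻¹ = x * q := by rw [hx, commutatorElement_def, inv_mul_cancel_right]
    have h2 : v * x * v⁻¹ * (x * q) = q := by
      calc v * x * v⁻¹ * (x * q) = v * x * v⁻¹ * (v * q * v⁻¹) := by rw [h1]
        _ = v * (x * q) * v⁻¹ := by group
        _ = v * (v * q * v⁻¹) * v⁻¹ := by rw [h1]
        _ = v * v * q * (v * v)⁻¹ := by group
        _ = q := by rw [hv2]; group
    rw [← mul_assoc, mul_eq_right] at h2
    exact hCX x hxX (by
      have h3 : v * x * v⁻¹ = x := by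
        rw [eq_inv_of_mul_eq_one_left h2,
          inv_eq_of_mul_eq_one_right (h.sq_zTwo hs hQE hmulti hQX hxX)]
      exact (mul_inv_eq_iff_eq_mul.mp h3).symm)
  set w := ⁅v, u⁆ with hw
  have hwN : w ∈ nxt M M := comm_mem_nxt hvM h.u_mem
  have hwX : w ∈ h.zTwo := by
    refine h.mem_zTwo_of_centralizes hs hQE hmulti hQX (h.nxt_le_commutator hwN) (fun q hq => ?_)
      fun x hx => h.commute_nxt hx hwN
    refine mul_inv_eq_iff_eq_mul.mp ?_
    set e := ⁅v, q⁆ with he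
    have hq' : v * q * v⁻¹ = e * q := by rw [he, commutatorElement_def, inv_mul_cancel_right]
    have hce : ∀ g ∈ M, g * e * g⁻¹ = e := fun g hg => h.conj_E hg (hvQ q hq)
    have hqu : u * q * u⁻¹ = q := by rw [← (h.commute q hq).eq, mul_inv_cancel_right]
    calc w * q * w⁻¹ = v * (u * (v⁻¹ * (u⁻¹ * q * u) * v) * u⁻¹) * v⁻¹ := by
          rw [hw, commutatorElement_def]; group
      _ = v * (u * (v * q * v⁻¹) * u⁻¹) * v⁻¹ := by
          rw [show u⁻¹ * q * u = q by rw [mul_assoc, (h.commute q hq).eq, inv_mul_cancel_left]]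
          simp only [hinv]
      _ = v * (u * e * u⁻¹ * (u * q * u⁻¹)) * v⁻¹ := by rw [hq']; group
      _ = v * e * v⁻¹ * (v * q * v⁻¹) := by rw [hce u h.u_mem, hqu]; group
      _ = q := by rw [hce v hvM, hq', ← mul_assoc, h.sq e (hvQ q hq), one_mul]
  have hwE : w ∈ E := h.mem_E_of_comm_u_mem_zTwo hs hQE hmulti hQX hwX
  obtain ⟨x, hx, q, hq, rfl⟩ := h.exists_mul_eq hs hQE hmulti hQX hv hwE
  refine hvX (mul_mem hx (h.E_le_zTwo (h.omega q hq ?_)))
  rw [h.mul_self_mul hs hQE hmulti hQX hx hq, h.sq_zTwo hs hQE hmulti hQX hx, one_mul] at hv2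
  exact hv2

end ShapeData

end Cfsg.Agent.H14.Asch
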