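import Cfsg.Agent.H14.Asch.ShapesQuot
import Cfsg.Agent.H14.Asch.ShapesLayers

/-!
In several layers (shape two) the conjugates of `u` in `M` are all involutions of its coset modulo
the Frattini part.
-/

set_option autoImplicit false
set_option linter.style.haveILetI false
set_option linter.unusedSectionVars false

namespace Cfsg.Agent.H14.Asch

open Subgroup
open Cfsg.Agent.H51.Asch (nxt nxt_le nxt_lt sq_mem_nxt comm_mem_nxt norm_nxt inf_norm TorusData
  card_le_centralized_mul)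
open scoped commutatorElement Classical

universe u

variable {G : Type u} [Group G]

namespace ShapeData

variable {M Q E A : Subgroup G} {u : G} (h : ShapeData M Q E A u)
include h

theorem card_centralizer_le [Finite G] :
    Nat.card (M ⊓ centralizer {u} : Subgroup G) ≤ 2 * Nat.card Q := by
  let f : (M ⊓ centralizer {u} : Subgroup G) → Bool × Q := fun g =>
    if hg : (g : G) ∈ Q then (true, ⟨g, hg⟩) else
      (false, ⟨(g : G) * u, (h.cent g g.2.1
        (mem_centralizer_singleton_iff.mp g.2.2)).resolve_left hg⟩)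
  have hf : Function.Injective f := by
    intro g g' e
    simp only [f] at e
    split_ifs at e with h1 h2 h2 <;> simp at e
    · exact e
    · exact e
  have := Nat.card_le_card_of_injective f hf
  rwa [Nat.card_prod, Nat.card_eq_fintype_card (α := Bool), Fintype.card_bool] at this

/-- The Frattini part is smaller than `⁅M, A⁆`. -/
theorem nxt_lt_commutator [Finite G] : nxt M M < ⁅M, A⁆ := by
  refine lt_of_le_of_ne h.nxt_le_commutator fun he => ?_
  set N := nxt M M with hN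
  have hMN : M ≤ normalizer (N : Set G) := norm_nxt le_normalizer le_normalizer
  have hsq : ∀ g ∈ M, g * g ∈ nxt N M := by
    intro g hg
    rcases h.mem_or_mul_mem hg with h1 | h1
    · rw [← he] at h1
      exact sq_mem_nxt h1
    · rw [← he] at h1
      have e : g * g = g * u * (g * u) * ⁅(g * u)⁻¹, u⁆ := by
        rw [commutatorElement_def]
        calc g * g = g * (u * u) * g * (u * u⁻¹) := by rw [h.sq_u]; group
          _ = _ := by group
      rw [e]
      exact mul_mem (sq_mem_nxt h1) (comm_mem_nxt (inv_mem h1) h.u_mem)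
  by_cases hne : N = ⊥
  · obtain ⟨e, he', he1⟩ := h.exists_ne_one
    have h2 := h.E_le_commutator he'
    rw [← he, hne, mem_bot] at h2
    exact he1 h2
  · exact (nxt_lt h.two (nxt_le le_normalizer) hMN hne).not_ge (h.nxt_le_of_sq hsq)

/-- `Q ≤ Z2`: every element of the Frattini part is a commutator with `u`. -/
theorem exists_comm_of_le_zTwo [Finite G] (hs : Squaring Q E) (hQX : Q ≤ h.zTwo)
    (hmulti : u ∉ h.zTwo) : ∀ y ∈ nxt M M, ∃ g ∈ M, ⁅g, u⁆ = y := by
  obtain ⟨huH, R, htd, hcardE⟩ := h.exists_torusData hs hQX hmulti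
  set K := ⁅M, A⁆ with hK
  have hKM : K ≤ M := h.commutator_le
  have hQK : Q ≤ K := h.Q_le_commutator
  set H := normalizer (Q : Set G) with hH
  have hMH : M ≤ H := h.M_le_normalizer_Q hQX
  set π := QuotientGroup.mk' (Q.subgroupOf H) with hπ
  have hKbar : img Q K = ⁅img Q M, img Q A⁆ := by
    rw [img, img, img, ← map_commutator]
    congr 1
    apply map_injective H.subtype_injective
    rw [map_commutator, map_subgroupOf_eq_of_le hMH, map_subgroupOf_eq_of_le h.normQ,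
      map_subgroupOf_eq_of_le (hKM.trans hMH)]
  set N := nxt (img Q M) (img Q M) with hN
  have hcardK : Nat.card K = Nat.card Q * (Nat.card E * Nat.card N) := by
    rw [card_img hQK (hKM.trans hMH), hKbar, htd.frattini_data.1, hcardE]
  have hle : nxt M M ≤ (N.comap π).map H.subtype := h.nxt_le_of_sq fun g hg =>
    ⟨⟨g, hMH hg⟩ * ⟨g, hMH hg⟩, by
      show π _ ∈ N
      rw [map_mul]
      exact sq_mem_nxt (mem_img_iff.mpr ⟨⟨g, hMH hg⟩, hg, rfl⟩), rfl⟩
  have hcardN : Nat.card (nxt M M : Subgroup G) ≤ Nat.card E * Nat.card N := by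
    have hnH : nxt M M ≤ H := (nxt_le le_normalizer).trans hMH
    let θ : (nxt M M : Subgroup G) →* H ⧸ Q.subgroupOf H := π.comp (Subgroup.inclusion hnH)
    have hrange : Nat.card θ.range ≤ Nat.card N := card_le_of_le fun z ⟨t, ht⟩ => by
      obtain ⟨x, hx, hxe⟩ := hle t.2
      rw [← ht]
      show π (Subgroup.inclusion hnH t) ∈ N
      rw [show Subgroup.inclusion hnH t = x from Subtype.ext hxe.symm]
      exact hx
    have hker : Nat.card θ.ker ≤ Nat.card E := by
      refine Nat.card_le_card_of_injective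
        (fun t => (⟨((t : (nxt M M : Subgroup G)) : G), ?_⟩ : E)) fun a b e =>
          Subtype.ext (Subtype.ext (congrArg (fun z : E => (z : G)) e :))
      have h1 : ((t : (nxt M M : Subgroup G)) : G) ∈ Q :=
        mem_subgroupOf.mp ((QuotientGroup.eq_one_iff (Subgroup.inclusion hnH _)).mp t.2)
      refine h.abelian_le (Or.inl hs) (B := Q ⊓ centralizer (Q : Set G)) inf_le_left ?_
        (le_inf h.le_E fun e he => mem_centralizer_iff.mpr fun q hq =>
          ((h.central e he q (h.le hq)).symm).eq)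
        (fun a ha b hb => (mem_centralizer_iff.mp hb.2 a ha.1))
        ⟨h1, mem_centralizer_iff.mpr fun q hq => (h.commute_nxt (hQX hq) t.1.2).symm.eq⟩
      refine inf_norm h.normQ (le_normalizer_iff.mpr fun a ha c hc => ?_)
      refine mem_centralizer_iff.mpr fun q hq => ?_
      have h1 := mem_centralizer_iff.mp hc _
        ((mem_normalizer_iff.mp (h.normQ (inv_mem ha)) q).mp hq)
      have h2 := commute_conj (show Commute _ c from h1) a
      rw [show a * (a⁻¹ * q * a⁻¹⁻¹) * a⁻¹ = q by group] at h2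
      exact h2.eq
    have h1 := θ.ker.card_mul_index
    rw [Subgroup.index_ker] at h1
    rw [← h1]
    exact Nat.mul_le_mul hker hrange
  refine (card_le_centralized_mul (K := M) (T := nxt M M) u fun g hg =>
    comm_mem_nxt hg h.u_mem).2 ?_
  rw [h.card_eq_two_mul (h.u_notMem_commutator (Or.inl hs)), ← hK, hcardK, ← mul_assoc]
  exact Nat.mul_le_mul h.card_centralizer_le hcardN

/-- `Q` outside `Z2`: the Frattini part moves `Q` inside `E`. -/
theorem comm_nxt_Q_mem [Finite G] (hs : Squaring Q E) (hQE : ¬ Q ≤ E) (hmulti : u ∉ h.zTwo)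
    (hQX : ¬ Q ≤ h.zTwo) : ∀ y ∈ nxt M M, ∀ q ∈ Q, ⁅y, q⁆ ∈ E := by
  have hME : M ≤ normalizer (E : Set G) := le_normalizer_iff.mpr fun r hr e he => by
    rw [h.conj_E hr he]; exact he
  obtain ⟨T, -, hT⟩ := exists_into (P := Q) (K := M) hME h.normQ h.normM h.normE
  intro y hy q hq
  rw [← commutatorElement_inv]
  refine inv_mem (((hT y).mp (h.nxt_le_of_sq (fun g hg => (hT _).mpr ⟨M.mul_mem hg hg,
    fun k hk => ?_⟩) hy)).2 q hq)
  rw [← commutatorElement_inv]
  refine inv_mem ?_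
  set x := ⁅g, k⁆ with hx
  have hxX : x ∈ h.zTwo := h.comm_Q_mem_zTwo hs hQE hmulti hQX g hg k hk
  have h1 : g * k * g⁻¹ = x * k := by rw [hx, commutatorElement_def, inv_mul_cancel_right]
  have h2 : ⁅g * g, k⁆ = ⁅g, x⁆ * (x * x) := by
    rw [commutatorElement_def, commutatorElement_def]
    calc g * g * k * (g * g)⁻¹ * k⁻¹ = g * (g * k * g⁻¹) * g⁻¹ * k⁻¹ := by group
      _ = g * (x * k) * g⁻¹ * k⁻¹ := by rw [h1]
      _ = g * x * g⁻¹ * (g * k * g⁻¹) * k⁻¹ := by group
      _ = g * x * g⁻¹ * (x * k) * k⁻¹ := by rw [h1]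
      _ = g * x * g⁻¹ * x⁻¹ * (x * x) := by group
  rw [h2, h.sq_zTwo hs hQE hmulti hQX hxX, mul_one]
  exact hxX.2 g hg

/-- An element of the Frattini part inverted by `u` is a product `x q` with `⁅x, u⁆ = q²`. -/
theorem exists_graph [Finite G] (hs : Squaring Q E) (hQE : ¬ Q ≤ E) (hmulti : u ∉ h.zTwo)
    (hQX : ¬ Q ≤ h.zTwo) {y : G} (hy : y ∈ nxt M M) (hy2 : y * u * (y * u) = 1) :
    ∃ x ∈ h.zTwo, ∃ q ∈ Q, y = x * q ∧ ⁅x, u⁆ = q * q := by
  have hyM : y ∈ M := nxt_le le_normalizer hy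
  have hinv : u * y * u = y⁻¹ := by
    calc u * y * u = y⁻¹ * (y * u * (y * u)) := by group
      _ = _ := by rw [hy2, mul_one]
  have hyX : ∀ x ∈ h.zTwo, Commute y x := fun x hx => h.commute_nxt hx hy
  have hsqX : y * y ∈ h.zTwo := by
    refine h.mem_zTwo_of_centralizes hs hQE hmulti hQX
      (h.nxt_le_commutator (mul_mem hy hy)) (fun q hq => ?_)
      fun x hx => (hyX x hx).mul_left (hyX x hx)
    have h1 := h.comm_nxt_Q_mem hs hQE hmulti hQX y hy q hq
    refine commutatorElement_eq_one_iff_mul_comm.mp ?_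
    rw [h.comm_mul_left hyM h1, h.sq _ h1]
  have hyu : ⁅y, u⁆ = y * y := by
    rw [commutatorElement_def, h.inv_u]
    have h2 : u * y⁻¹ * u = y := by
      have := congrArg (·⁻¹) hinv
      simp only [mul_inv_rev, inv_inv, h.inv_u] at this
      rw [← mul_assoc] at this
      exact this
    calc y * u * y⁻¹ * u = y * (u * y⁻¹ * u) := by group
      _ = _ := by rw [h2]
  have hsqE : y * y ∈ E := by
    refine h.mem_E_of_commute hs hQE hmulti hQX hsqX ?_
    refine commutatorElement_eq_one_iff_mul_comm.mpr ?_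
    have h2 : u * (y * y) * u = (y * y)⁻¹ := by
      calc u * (y * y) * u = u * y * (u * u) * y * u := by rw [h.sq_u]; group
        _ = (u * y * u) * (u * y * u) := by group
        _ = _ := by rw [hinv]; group
    rw [inv_eq_of_mul_eq_one_right (h.sq_zTwo hs hQE hmulti hQX hsqX)] at h2
    calc y * y * u = u * u * (y * y) * u := by rw [h.sq_u, one_mul]
      _ = u * (u * (y * y) * u) := by group
      _ = _ := by rw [h2]
  obtain ⟨x, hx, q, hq, rfl⟩ :=
    h.exists_mul_eq hs hQE hmulti hQX (h.nxt_le_commutator hy) (hyu ▸ hsqE)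
  refine ⟨x, hx, q, hq, rfl, ?_⟩
  have hqu : ⁅q, u⁆ = 1 := commutatorElement_eq_one_iff_mul_comm.mpr (h.commute q hq).eq
  have h3 : ⁅x * q, u⁆ = ⁅x, u⁆ := by
    rw [h.comm_mul_left (h.zTwo_le hx) (hqu ▸ E.one_mem), hqu, one_mul]
  rw [← h3, hyu, h.mul_self_mul hs hQE hmulti hQX hx hq, h.sq_zTwo hs hQE hmulti hQX hx, one_mul]

/-- Several layers: the involutions of the coset of `u` modulo the Frattini part are conjugates of
`u`. -/
theorem exists_conj_of_nxt [Finite G] (hs : Squaring Q E) (hQE : ¬ Q ≤ E) (hmulti : u ∉ h.zTwo)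
    {y : G} (hy : y ∈ nxt M M) (hy2 : y * u * (y * u) = 1) :
    ∃ m ∈ M, m * u * m⁻¹ = y * u := by
  suffices ∃ m ∈ M, ⁅m, u⁆ = y by
    obtain ⟨m, hm, he⟩ := this
    exact ⟨m, hm, by rw [← he, commutatorElement_def, inv_mul_cancel_right]⟩
  by_cases hQX : Q ≤ h.zTwo
  · exact h.exists_comm_of_le_zTwo hs hQX hmulti y hy
  obtain ⟨x, hx, q, hq, rfl, hxq⟩ := h.exists_graph hs hQE hmulti hQX hy hy2
  by_cases hqE : q ∈ E
  · have hyE : x * q ∈ E := by
      refine E.mul_mem (h.mem_E_of_commute hs hQE hmulti hQX hx ?_) hqE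
      rw [hxq, h.sq q hqE]
    obtain ⟨m, hm, hme⟩ := h.exists_comm_eq hs hQE hmulti hQX hyE
    exact ⟨m, hm.1, hme⟩
  -- a commutator with `u` outside `E`
  obtain ⟨g, hg, hgu⟩ : ∃ g ∈ M, ⁅g, u⁆ ∉ E := by
    by_contra hcon
    push Not at hcon
    exact hmulti ⟨h.u_mem, fun r hr => hcon r hr⟩
  have hzinv : ⁅g, u⁆ * u * (⁅g, u⁆ * u) = 1 := by
    rw [show ⁅g, u⁆ * u * (⁅g, u⁆ * u) = ⁅g, u⁆ * (u * ⁅g, u⁆ * u) by group, h.comm_comm_u,
      mul_inv_cancel]
  obtain ⟨x₀, hx₀, q₀, hq₀, he₀, hxq₀⟩ :=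
    h.exists_graph hs hQE hmulti hQX (comm_mem_nxt hg h.u_mem) hzinv
  have hq₀E : q₀ ∉ E := fun hq0 => hgu (by
    rw [he₀]
    refine E.mul_mem (h.mem_E_of_commute hs hQE hmulti hQX hx₀ ?_) hq0
    rw [hxq₀, h.sq q₀ hq0])
  obtain ⟨a, ha, had⟩ := h.trans_Q hs hq₀ hq₀E hq hqE
  have hax₀ : a * x₀ * a⁻¹ ∈ h.zTwo := (mem_normalizer_iff.mp (h.normA_zTwo ha) _).mp hx₀
  have haq₀ : a * q₀ * a⁻¹ ∈ Q := (mem_normalizer_iff.mp (h.normQ ha) _).mp hq₀
  set d := (a * q₀ * a⁻¹)⁻¹ * q with hd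
  have hqd : q = a * q₀ * a⁻¹ * d := (mul_inv_cancel_left _ _).symm
  have hsq : q * q = a * (q₀ * q₀) * a⁻¹ := by
    rw [hqd, (h.central d had _ (h.le haq₀)).mul_mul_mul_comm, h.sq d had, mul_one]
    group
  have hd' : (a * x₀ * a⁻¹)⁻¹ * x ∈ E := h.inv_mul_mem_of_comm_eq hs hQE hmulti hQX hax₀ hx (by
    rw [← h.conj_comm_u ha, hxq₀, hxq, hsq])
  set z := ⁅a * g * a⁻¹, u⁆ with hz
  have hgM : a * g * a⁻¹ ∈ M := h.conj_mem_M ha hg
  have hzN : z ∈ nxt M M := comm_mem_nxt hgM h.u_mem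
  have hze : z = a * x₀ * a⁻¹ * (a * q₀ * a⁻¹) := by
    rw [hz, ← h.conj_comm_u ha, he₀]; group
  set e := z⁻¹ * (x * q) with he
  have heE : e ∈ E := by
    set d' := (a * x₀ * a⁻¹)⁻¹ * x with hd''
    have hxd : x = a * x₀ * a⁻¹ * d' := (mul_inv_cancel_left _ _).symm
    rw [he, hze, hxd, hqd]
    have hc : a * x₀ * a⁻¹ * d' * (a * q₀ * a⁻¹ * d) =
        a * x₀ * a⁻¹ * (a * q₀ * a⁻¹) * (d' * d) := by
      calc a * x₀ * a⁻¹ * d' * (a * q₀ * a⁻¹ * d)
          = a * x₀ * a⁻¹ * (d' * (a * q₀ * a⁻¹)) * d := by group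
        _ = a * x₀ * a⁻¹ * ((a * q₀ * a⁻¹) * d') * d := by rw [(h.central d' hd' _ (h.le haq₀)).eq]
        _ = _ := by group
    rw [hc, inv_mul_cancel_left]
    exact E.mul_mem hd' had
  obtain ⟨x', hx', hx'e⟩ := h.exists_comm_eq hs hQE hmulti hQX heE
  refine ⟨x' * (a * g * a⁻¹), M.mul_mem hx'.1 hgM, ?_⟩
  have hexp : ⁅x' * (a * g * a⁻¹), u⁆ = x' * z * x'⁻¹ * ⁅x', u⁆ := by
    rw [hz]; simp [commutatorElement_def, mul_assoc]
  rw [hexp, ← (h.commute_nxt hx' hzN).eq, mul_inv_cancel_right, hx'e, he, mul_inv_cancel_left]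

end ShapeData

end Cfsg.Agent.H14.Asch
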