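import Cfsg.Agent.H14.Asch.ShapesFill
import Cfsg.Agent.H6.Asch.EigenOrbit
import Cfsg.Agent.H51.Asch.Climb

/-!
GAMMA of P4 (shape two): the odd elements of the normaliser of `M` in a group centralising `E` fix
`u` modulo the Frattini part, so the Sylow subgroup is transitive on the conjugates of `u`.
-/

set_option autoImplicit false
set_option linter.style.haveILetI false
set_option linter.unusedSectionVars false

namespace Cfsg.Agent.H14.Asch

open Subgroup
open Cfsg.Agent.H51.Asch (nxt nxt_le nxt_lt sq_mem_nxt comm_mem_nxt comm_mem_nxt' norm_nxt inf_norm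
  card_le_centralized_mul MaxTwo)
open scoped commutatorElement Classical

universe u

variable {G : Type u} [Group G]

/-- An odd element with a fixed set of involutions in an abelian invariant `2`-group fixes it. -/
theorem commute_of_abelian_two {N : Subgroup G} [Finite G] (hN : IsPGroup 2 N)
    (hc : ∀ a ∈ N, ∀ b ∈ N, Commute a b) {d : G} (hd : Odd (orderOf d))
    (hdN : d ∈ normalizer (N : Set G)) (h2 : ∀ t ∈ N, t * t = 1 → Commute d t) :
    ∀ y ∈ N, Commute d y := by
  haveI : Fact (Nat.Prime 2) := ⟨Nat.prime_two⟩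
  suffices key : ∀ n : ℕ, ∀ y ∈ N, y ^ 2 ^ n = 1 → Commute d y by
    intro y hy
    obtain ⟨n, hn⟩ := hN ⟨y, hy⟩
    exact key n y hy (congrArg Subtype.val hn)
  intro n
  induction n with
  | zero =>
    intro y _ hy
    rw [pow_zero, pow_one] at hy
    rw [hy]; exact Commute.one_right d
  | succ n ih =>
    intro y hy hyn
    have hyy : Commute d (y * y) := ih _ (N.mul_mem hy hy) (by
      rw [← pow_two, ← pow_mul, ← pow_succ']; exact hyn)
    have hy' : d * y * d⁻¹ ∈ N := (mem_normalizer_iff.mp hdN y).mp hy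
    have ht : y⁻¹ * (d * y * d⁻¹) * (y⁻¹ * (d * y * d⁻¹)) = 1 := by
      rw [(hc _ hy' _ (N.inv_mem hy)).mul_mul_mul_comm,
        show d * y * d⁻¹ * (d * y * d⁻¹) = d * (y * y) * d⁻¹ by group, hyy.eq, mul_inv_cancel_right]
      group
    exact commute_of_sq_commutator hd ht (h2 _ (N.mul_mem (N.inv_mem hy) hy') ht)

namespace ShapeData

variable {M Q E A : Subgroup G} {u : G} (h : ShapeData M Q E A u)
include h

theorem sup_zpowers_le : Q ⊔ zpowers u ≤ M := sup_le h.le (zpowers_le.mpr h.u_mem)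

theorem inf_centralizer_eq : M ⊓ centralizer {u} = Q ⊔ zpowers u := by
  refine le_antisymm (fun g hg => ?_) (le_inf h.sup_zpowers_le (sup_le (fun q hq =>
    mem_centralizer_singleton_iff.mpr (h.commute q hq).eq)
    (zpowers_le.mpr (mem_centralizer_singleton_iff.mpr rfl))))
  rcases h.cent g hg.1 (mem_centralizer_singleton_iff.mp hg.2) with h1 | h1
  · exact mem_sup_left h1
  · have h2 := mul_mem (mem_sup_left (T := zpowers u) h1)
      (mem_sup_right (S := Q) (mem_zpowers u))
    rwa [mul_assoc, h.sq_u, mul_one] at h2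

theorem E_le_nxt (hQE : ¬ Q ≤ E) : E ≤ nxt M M := fun e he => by
  obtain ⟨g, hg, rfl⟩ := h.exists_sq hQE he
  exact sq_mem_nxt (h.le hg)

variable [Finite G]

/-- An odd automorphism of `M` fixing `E` and `u` is trivial. -/
theorem centralizes_of_commute (hs : Squaring Q E) {d : G} (hd : Odd (orderOf d))
    (hdM : d ∈ normalizer (M : Set G)) (hdE : ∀ e ∈ E, Commute d e) (hdu : Commute d u) :
    ∀ m ∈ M, Commute d m := by
  haveI : Fact (Nat.Prime 2) := ⟨Nat.prime_two⟩
  have hQ : ∀ q ∈ Q, Commute d q := by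
    intro q hq
    set w := d * q * d⁻¹ with hw
    have hwM : w ∈ M := (mem_normalizer_iff.mp hdM q).mp (h.le hq)
    have hwu : Commute w u := (hdu.mul_left (h.commute q hq)).mul_left hdu.inv_left
    have hsq : w * w = q * q := by
      rw [hw, show d * q * d⁻¹ * (d * q * d⁻¹) = d * (q * q) * d⁻¹ by group,
        (hdE _ (h.sq_mem q hq)).eq, mul_inv_cancel_right]
    rcases h.cent w hwM hwu with h1 | h1
    · have he := hs.inj w h1 q hq hsq
      set e := w * q⁻¹ with hedef
      have hwe : w = e * q := (inv_mul_cancel_right _ _).symm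
      have ht : q⁻¹ * w = e := by
        rw [hwe, (h.central e he q (h.le hq)).eq, inv_mul_cancel_left]
      refine commute_of_sq_commutator hd ?_ ?_ <;> rw [ht]
      exacts [h.sq e he, hdE e he]
    · have hsq' : w * u * (w * u) = q * q := by
        rw [hwu.symm.mul_mul_mul_comm, h.sq_u, mul_one, hsq]
      have he := hs.inj _ h1 q hq hsq'
      set e := w * u * q⁻¹ with hedef
      have hwe : w = e * q * u := by
        rw [hedef, inv_mul_cancel_right, mul_assoc, h.sq_u, mul_one]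
      have ht : q⁻¹ * w = e * u := by
        rw [hwe, (h.central e he q (h.le hq)).eq, mul_assoc q, inv_mul_cancel_left]
      refine commute_of_sq_commutator hd ?_ ?_ <;> rw [ht]
      · rw [(h.central e he u h.u_mem).symm.mul_mul_mul_comm, h.sq e he, h.sq_u, mul_one]
      · exact (hdE e he).mul_right hdu
  have hcop : (Nat.card (zpowers d)).Coprime 2 := by
    rw [Nat.card_zpowers]; exact Nat.coprime_two_right.mpr hd
  have hu2 : IsPGroup 2 (zpowers u) := h.two.to_le (zpowers_le.mpr h.u_mem)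
  have hle := Coprime.thompson_AxB hu2 hcop (zpowers_le.mpr (mem_centralizer_iff.mpr fun y hy => by
      obtain ⟨i, rfl⟩ := mem_zpowers_iff.mp hy
      exact (hdu.zpow_left i).eq)) M h.two
    (zpowers_le.mpr (le_normalizer h.u_mem)) (zpowers_le.mpr hdM) fun g hg => by
      refine mem_centralizer_iff.mpr fun y hy => ?_
      obtain ⟨i, rfl⟩ := mem_zpowers_iff.mp hy
      refine (Commute.zpow_left ?_ i).eq
      have hgu : Commute g u := mem_centralizer_iff.mp hg.2 u (mem_zpowers u) |>.symm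
      rcases h.cent g hg.1 hgu with h1 | h1
      · exact hQ g h1
      · have h2 := (hQ _ h1).mul_right hdu
        rwa [mul_assoc, h.sq_u, mul_one] at h2
  exact fun m hm => (mem_centralizer_iff.mp (hle (mem_zpowers d)) m hm).symm

/-- Either `u` is central in `M`, or the involutions of its coset modulo the Frattini part are
conjugates of `u`. -/
theorem base_or_fill (hs : Squaring Q E) (hQE : ¬ Q ≤ E) :
    (∀ g ∈ M, Commute g u) ∨
      ∀ y ∈ nxt M M, y * u * (y * u) = 1 → ∃ m ∈ M, m * u * m⁻¹ = y * u := by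
  by_cases hmulti : u ∈ h.zTwo
  swap
  · exact Or.inr fun y hy hy2 => h.exists_conj_of_nxt hs hQE hmulti hy hy2
  by_cases hbase : ∀ g ∈ M, Commute g u
  · exact Or.inl hbase
  push Not at hbase
  obtain ⟨g, hg, hgu⟩ := hbase
  refine Or.inr fun y hy _ => ?_
  have hyE : y ∈ E := h.nxt_le_of_sq (h.sq_mem_E_of_layer hs hmulti.2) hy
  by_cases hy1 : y = 1
  · exact ⟨1, M.one_mem, by rw [hy1]; group⟩
  obtain ⟨a, ha, hae⟩ := h.trans _ (hmulti.2 g hg)
    (fun e => hgu (commutatorElement_eq_one_iff_mul_comm.mp e)) y hyE hy1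
  refine ⟨a * g * a⁻¹, h.conj_mem_M ha hg, ?_⟩
  rw [← hae, h.conj_comm_u ha, commutatorElement_def, inv_mul_cancel_right]

section

variable (hs : Squaring Q E) (hQE : ¬ Q ≤ E) {X : Subgroup G} (hMX : M ≤ X)
  (hXE : ∀ e ∈ E, ∀ g ∈ X, Commute e g) (hAX : A ≤ normalizer (X : Set G))
  (hT : MaxTwo (X ⊓ centralizer ({u} : Set G)) (Q ⊔ zpowers u))
include hs hQE hMX hXE hAX hT

/-- The two-part of an element of `X` centralising `u` and normalising `M` lies in `M`. -/
theorem two_part_mem {c : G} (hcX : c ∈ X) (hcM : c ∈ normalizer (M : Set G)) (hcu : Commute c u)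
    {k : ℕ} (hk : c ^ 2 ^ k = 1) : c ∈ M := by
  haveI : Fact (Nat.Prime 2) := ⟨Nat.prime_two⟩
  have hcV : c ∈ normalizer ((Q ⊔ zpowers u : Subgroup G) : Set G) := by
    rw [← h.inf_centralizer_eq]
    refine mem_normalizer_iff.mpr fun g => ?_
    rw [mem_inf, mem_inf, mem_centralizer_singleton_iff, mem_centralizer_singleton_iff]
    refine and_congr (mem_normalizer_iff.mp hcM g) ⟨fun hg => ?_, fun hg => ?_⟩
    · exact ((hcu.mul_left hg).mul_left hcu.inv_left).eq
    · have h1 := ((hcu.inv_left.mul_left hg).mul_left hcu).eq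
      rwa [show c⁻¹ * (c * g * c⁻¹) * c = g by group] at h1
  have h2 : IsPGroup 2 (zpowers c) := by
    intro y
    refine ⟨k, Subtype.ext ?_⟩
    obtain ⟨i, hi⟩ := mem_zpowers_iff.mp y.2
    push_cast
    rw [← hi, ← zpow_natCast (c ^ i) (2 ^ k), ← zpow_mul, mul_comm, zpow_mul, zpow_natCast, hk,
      one_zpow]
  have h3 := hT.2.2 ((Q ⊔ zpowers u) ⊔ zpowers c)
    (hT.1.to_sup_of_normal_left' h2 (zpowers_le.mpr hcV))
    (sup_le hT.2.1 (zpowers_le.mpr ⟨hcX, mem_centralizer_singleton_iff.mpr hcu.eq⟩)) le_sup_left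
  exact h.sup_zpowers_le (h3 ▸ mem_sup_right (mem_zpowers c))

/-- An odd element of `X` normalising `M` fixes `u` modulo the Frattini part. -/
theorem fixed_of_odd : ∀ l ∈ X ⊓ normalizer (M : Set G), Odd (orderOf l) →
    l * u * l⁻¹ * u ∈ nxt M M := by
  haveI : Fact (Nat.Prime 2) := ⟨Nat.prime_two⟩
  intro d₀ hd₀ hd₀odd
  have huK : u ∉ ⁅M, A⁆ := h.u_notMem_commutator (Or.inl hs)
  set F := nxt M M with hF
  have hFK : F ≤ ⁅M, A⁆ := h.nxt_le_commutator
  have hFM : F ≤ M := nxt_le le_normalizer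
  rcases h.base_or_fill hs hQE with hbase | hfill
  · -- the involutions of `Q ⟨u⟩`
    set w := d₀ * u * d₀⁻¹ with hw
    have hwM : w ∈ M := (mem_normalizer_iff.mp hd₀.2 u).mp h.u_mem
    have hw2 : w * w = 1 := by
      rw [hw, show d₀ * u * d₀⁻¹ * (d₀ * u * d₀⁻¹) = d₀ * (u * u) * d₀⁻¹ by group, h.sq_u]; group
    rcases h.cent w hwM (hbase w hwM) with h1 | h1
    · exfalso
      have h2 := h.omega w h1 hw2
      refine h.u_notMem_E ?_
      have h3 : u = w := by
        calc u = d₀⁻¹ * w * d₀ := by rw [hw]; group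
          _ = w := by rw [mul_assoc, (hXE w h2 d₀ hd₀.1).eq, inv_mul_cancel_left]
      rwa [h3]
    · refine h.E_le_nxt hQE (h.omega _ h1 ?_)
      rw [(hbase w hwM).symm.mul_mul_mul_comm, hw2, h.sq_u, mul_one]
  by_contra hcon
  -- the action on `M / Φ`
  set N := normalizer (M : Set G) with hN
  have hNF : N ≤ normalizer (F : Set G) := norm_nxt le_rfl le_rfl
  haveI hFn : (F.subgroupOf M).Normal :=
    ⟨fun g hg m => (mem_normalizer_iff.mp (hNF (le_normalizer m.2)) _).mp hg⟩
  have hcommM : ∀ a b : M ⧸ F.subgroupOf M, a * b = b * a := fun a b => by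
    induction a using QuotientGroup.induction_on with
    | _ x =>
      induction b using QuotientGroup.induction_on with
      | _ y =>
        rw [← QuotientGroup.mk_mul, ← QuotientGroup.mk_mul, QuotientGroup.eq, mem_subgroupOf]
        have h1 := comm_mem_nxt (R := M) (M.inv_mem y.2) (M.inv_mem x.2)
        simpa [commutatorElement_def, mul_assoc] using h1
  letI : CommGroup (M ⧸ F.subgroupOf M) :=
    { (inferInstance : Group (M ⧸ F.subgroupOf M)) with mul_comm := hcommM }
  let cj : N → M →* M := fun l =>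
    { toFun := fun m => ⟨(l : G) * m * (l : G)⁻¹, (mem_normalizer_iff.mp l.2 _).mp m.2⟩
      map_one' := Subtype.ext (by simp)
      map_mul' := fun m m' => Subtype.ext (by simp [mul_assoc]) }
  let act : N → (M ⧸ F.subgroupOf M) →* M ⧸ F.subgroupOf M := fun l =>
    QuotientGroup.map _ _ (cj l) fun m hm => (mem_normalizer_iff.mp (hNF l.2) _).mp hm
  have hact : ∀ (l : N) (m : M), act l m = ((cj l m : M) : M ⧸ F.subgroupOf M) := fun _ _ => rfl
  have hact_mul : ∀ (l l' : N) v, act l (act l' v) = act (l * l') v := fun l l' v => by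
    induction v using QuotientGroup.induction_on with
    | _ m =>
      rw [hact, hact, hact]
      exact congrArg _ (Subtype.ext (by simp [cj, mul_assoc]))
  have hact_one : ∀ v, act 1 v = v := fun v => by
    induction v using QuotientGroup.induction_on with
    | _ m => rw [hact]; exact congrArg _ (Subtype.ext (by simp [cj]))
  let ρ : N →* MulAut (M ⧸ F.subgroupOf M) :=
    { toFun := fun l =>
        { toFun := act l
          invFun := act l⁻¹
          left_inv := fun v => by rw [hact_mul, inv_mul_cancel, hact_one]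
          right_inv := fun v => by rw [hact_mul, mul_inv_cancel, hact_one]
          map_mul' := (act l).map_mul }
      map_one' := MulEquiv.ext hact_one
      map_mul' := fun l l' => MulEquiv.ext fun v => (hact_mul l l' v).symm }
  have hρ : ∀ (l : N) (m : M), ρ l m = ((cj l m : M) : M ⧸ F.subgroupOf M) := fun _ _ => rfl
  have hρone : ∀ l : N, (∀ m : M, Commute (l : G) m) → ρ l = 1 := fun l hl =>
    MulEquiv.ext fun v => by
      induction v using QuotientGroup.induction_on with
      | _ m =>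
        rw [hρ, MulAut.one_apply]
        exact congrArg _ (Subtype.ext (by
          show (l : G) * m * (l : G)⁻¹ = m
          rw [(hl m).eq, mul_inv_cancel_right]))
  have hρM : ∀ l : N, (l : G) ∈ M → ρ l = 1 := fun l hl => MulEquiv.ext fun v => by
    induction v using QuotientGroup.induction_on with
    | _ m =>
      rw [hρ, MulAut.one_apply, QuotientGroup.eq, mem_subgroupOf]
      have h1 := comm_mem_nxt (R := M) hl (M.inv_mem m.2)
      push_cast
      show ((l : G) * m * (l : G)⁻¹)⁻¹ * m ∈ F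
      simpa [commutatorElement_def, mul_assoc] using h1
  -- the stabiliser of the class of `u`
  set ub : M ⧸ F.subgroupOf M := ((⟨u, h.u_mem⟩ : M) : M ⧸ F.subgroupOf M) with hub
  have hfixu : ∀ l : N, ρ l ub = ub ↔ (l : G) * u * (l : G)⁻¹ * u ∈ F := fun l => by
    rw [hub, hρ, QuotientGroup.eq, mem_subgroupOf]
    show ((l : G) * u * (l : G)⁻¹)⁻¹ * u ∈ F ↔ _
    rw [show ((l : G) * u * (l : G)⁻¹)⁻¹ = (l : G) * u * (l : G)⁻¹ by
      simp [mul_inv_rev, h.inv_u, mul_assoc]]
  have hstab : ∀ l : N, (l : G) ∈ X → ρ l ub = ub → ρ l = 1 := by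
    intro l hlX hl
    set y := (l : G) * u * (l : G)⁻¹ * u with hy
    have hyF : y ∈ F := (hfixu l).mp hl
    have hyu : y * u = (l : G) * u * (l : G)⁻¹ := by rw [hy, mul_assoc _ u u, h.sq_u, mul_one]
    obtain ⟨m, hm, hme⟩ := hfill y hyF (by
      rw [hyu, show (l : G) * u * (l : G)⁻¹ * ((l : G) * u * (l : G)⁻¹) =
        (l : G) * (u * u) * (l : G)⁻¹ by group, h.sq_u]; group)
    set c : N := ⟨m⁻¹, le_normalizer (M.inv_mem hm)⟩ * l with hc
    have hcu : Commute (c : G) u := by
      refine mul_inv_eq_iff_eq_mul.mp ?_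
      calc (c : G) * u * (c : G)⁻¹ = m⁻¹ * ((l : G) * u * (l : G)⁻¹) * m := by rw [hc]; push_cast; group
        _ = m⁻¹ * (m * u * m⁻¹) * m := by rw [← hyu, hme]
        _ = u := by group
    have hρc : ρ c = ρ l := by rw [hc, _root_.map_mul, hρM _ (M.inv_mem hm), one_mul]
    rw [← hρc]
    have hcX : (c : G) ∈ X := X.mul_mem (hMX (M.inv_mem hm)) hlX
    set n := orderOf (c : G) with hn
    set v := n.factorization 2 with hv
    have hdiv : 2 ^ v ∣ n := Nat.ordProj_dvd _ _
    have hodd : ¬ 2 ∣ n / 2 ^ v := Nat.not_dvd_ordCompl Nat.prime_two (orderOf_pos (c : G)).ne'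
    have h1 : ρ c ^ 2 ^ v = 1 := by
      rw [← map_pow]
      refine hρone _ fun m' => ?_
      push_cast
      refine h.centralizes_of_commute hs ?_ (pow_mem c.2 _)
        (fun e he => ((hXE e he _ (X.pow_mem hcX _))).symm) (hcu.pow_left _) m' m'.2
      rw [orderOf_pow' _ (by positivity), Nat.gcd_eq_right hdiv, Nat.odd_iff, ← Nat.two_dvd_ne_zero]
      exact hodd
    have h2 : ρ c ^ (n / 2 ^ v) = 1 := by
      rw [← map_pow]
      refine hρM _ ?_
      push_cast
      refine h.two_part_mem hs hQE hMX hXE hAX hT (X.pow_mem hcX _) (pow_mem c.2 _)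
        (hcu.pow_left _) (k := v) ?_
      rw [← pow_mul, Nat.div_mul_cancel hdiv, hn, pow_orderOf_eq_one]
    have hco : Nat.Coprime (2 ^ v) (n / 2 ^ v) :=
      (Nat.prime_two.coprime_iff_not_dvd.mpr hodd).pow_left v
    exact orderOf_eq_one_iff.mp (Nat.eq_one_of_dvd_coprimes hco (orderOf_dvd_of_pow_eq_one h1)
      (orderOf_dvd_of_pow_eq_one h2))
  set Γ : Subgroup (MulAut (M ⧸ F.subgroupOf M)) := ((X ⊓ N).subgroupOf N).map ρ with hΓ
  set Ab : Subgroup (MulAut (M ⧸ F.subgroupOf M)) := (A.subgroupOf N).map ρ with hAb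
  have hAN : A ≤ N := h.normM
  have hmove : ∀ a : N, (a : G) ∈ A → ρ a ≠ 1 → ∃ e ∈ E, (a : G) * e * (a : G)⁻¹ ≠ e := by
    intro a ha hne
    by_contra hfx
    push Not at hfx
    exact hne (hρone a fun m => h.centralizes_of_commute hs (h.odd_orderOf ha) a.2
      (fun e he => mul_inv_eq_iff_eq_mul.mp (hfx e he)) (h.commute_A ha) m m.2)
  have hfree : ∀ α ∈ Ab, α ≠ 1 → ∀ γ ∈ Γ, α * γ * α⁻¹ = γ → γ = 1 := by
    rintro _ ⟨a, ha, rfl⟩ hne _ ⟨l, hl, rfl⟩ hcm
    have haA : (a : G) ∈ A := mem_subgroupOf.mp ha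
    have hlL := mem_subgroupOf.mp hl
    obtain ⟨e, he, hmv⟩ := hmove a haA hne
    refine hstab l hlL.1 ((hfixu l).mpr ?_)
    set w := (l : G) * u * (l : G)⁻¹ with hw
    have hwM : w ∈ M := (mem_normalizer_iff.mp l.2 u).mp h.u_mem
    have hau : ρ a ub = ub := by
      rw [hub, hρ]
      exact congrArg _ (Subtype.ext (h.fix _ haA))
    have hpowfix : ∀ b ∈ zpowers a, ρ b (ρ l ub) = ρ l ub := by
      rintro b ⟨i, rfl⟩
      have h1 : Commute (ρ a ^ i) (ρ l) := (show Commute (ρ a) (ρ l) from mul_inv_eq_iff_eq_mul.mp hcm).zpow_left i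
      have h2 : (ρ a ^ i) ub = ub := by
        have h3 : ρ a ∈ MulAction.stabilizer (MulAut (M ⧸ F.subgroupOf M)) ub := hau
        exact zpow_mem h3 i
      rw [map_zpow]
      show ((ρ a ^ i) * ρ l) ub = _
      rw [h1.eq, MulAut.mul_apply, h2]
    obtain ⟨c, hc, hcs⟩ := Coprime.exists_centralizer_mem_coset
      ((zpowers_le.mpr haA).trans h.normM) (h.coprime_zpowers haA) (Or.inr h.isSolvable)
      (N := F) hFM ((zpowers_le.mpr haA).trans (hAN.trans hNF)) hwM fun b hb => by
        obtain ⟨i, rfl⟩ := mem_zpowers_iff.mp hb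
        have h1 := hpowfix (a ^ i) ⟨i, rfl⟩
        rw [hub, hρ l, hρ, QuotientGroup.eq, mem_subgroupOf] at h1
        have h1' := F.inv_mem h1
        simp [cj, mul_assoc] at h1'
        simpa [w, mul_assoc] using h1'
    have hca : (a : G) * c * (a : G)⁻¹ = c := by
      rw [mem_centralizer_iff.mp hc.2 _ (mem_zpowers _), mul_inv_cancel_right]
    rcases h.eq_one_or_eq haA he hmv hc.1 hca with hc1 | hc1 <;> rw [hc1] at hcs
    · exfalso
      rw [mul_one] at hcs
      have h1 : w ∈ F := inv_mem_iff.mp hcs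
      exact huK (hFK ((mem_normalizer_iff.mp (hNF l.2) u).mpr h1))
    · have h1 : w⁻¹ * u = w * u := by
        rw [hw, mul_inv_rev, mul_inv_rev, inv_inv, h.inv_u]; group
      rwa [h1] at hcs
  -- the bound
  obtain ⟨LE, hLE⟩ := IsPGroup.iff_card.mp (h.two.to_le h.le_M)
  have hV2 : IsPGroup 2 (M ⧸ F.subgroupOf M) := h.two.to_quotient _
  obtain ⟨n, hn⟩ := IsPGroup.iff_card.mp hV2
  have hcardM : Nat.card M = Nat.card (M ⧸ F.subgroupOf M) * Nat.card F := by
    rw [Subgroup.card_eq_card_quotient_mul_card_subgroup (F.subgroupOf M),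
      Nat.card_congr (Subgroup.subgroupOfEquivOfLe hFM).toEquiv]
  have hcnt := card_le_centralized_mul (K := M) (T := F) u fun g hg => comm_mem_nxt hg h.u_mem
  have hVle : Nat.card (M ⧸ F.subgroupOf M) ≤ 2 * Nat.card Q := by
    refine Nat.le_of_mul_le_mul_right ?_ (Nat.card_pos (α := F))
    rw [← hcardM]
    exact hcnt.1.trans (Nat.mul_le_mul_right _ h.card_centralizer_le)
  have hAlow : Nat.card E ≤ Nat.card Ab + 1 := by
    obtain ⟨e₀, he₀, he₀1⟩ := h.exists_ne_one
    have hb : ∀ e : E, ∃ a ∈ A, (e : G) ≠ 1 → a * e₀ * a⁻¹ = e := fun e => by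
      by_cases he : (e : G) = 1
      · exact ⟨1, A.one_mem, fun hn => absurd he hn⟩
      · obtain ⟨a, ha, hae⟩ := h.trans e₀ he₀ he₀1 e e.2 he
        exact ⟨a, ha, fun _ => hae⟩
    choose b hbA hbe using hb
    let f : E → Option Ab := fun e => if (e : G) = 1 then none else
      some ⟨ρ ⟨b e, hAN (hbA e)⟩, mem_map_of_mem _ (mem_subgroupOf.mpr (hbA e))⟩
    have hf : Function.Injective f := by
      intro e e' he
      simp only [f] at he
      split_ifs at he with h1 h2 h2
      · exact Subtype.ext (h1.trans h2.symm)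
      · have h3 : ρ ⟨b e, hAN (hbA e)⟩ = ρ ⟨b e', hAN (hbA e')⟩ :=
          congrArg Subtype.val (Option.some.inj he)
        refine Subtype.ext ?_
        by_contra hne
        set a : N := ⟨b e, hAN (hbA e)⟩⁻¹ * ⟨b e', hAN (hbA e')⟩ with hadef
        have haA : (a : G) ∈ A := A.mul_mem (A.inv_mem (hbA e)) (hbA e')
        have hmv : (a : G) * e₀ * (a : G)⁻¹ ≠ e₀ := fun hfx => hne (by
          calc (e : G) = b e * e₀ * (b e)⁻¹ := (hbe e h1).symm
            _ = b e * ((a : G) * e₀ * (a : G)⁻¹) * (b e)⁻¹ := by rw [hfx]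
            _ = b e' * e₀ * (b e')⁻¹ := by simp [hadef, mul_assoc]
            _ = e' := hbe e' h2)
        have hρa : ρ a = 1 := by rw [hadef, _root_.map_mul, _root_.map_inv, h3, inv_mul_cancel]
        obtain ⟨g, hg, hgF⟩ := SetLike.exists_of_lt h.nxt_lt_commutator
        have hgM := h.commutator_le hg
        obtain ⟨c, hc, hcs⟩ := Coprime.exists_centralizer_mem_coset
          ((zpowers_le.mpr haA).trans h.normM) (h.coprime_zpowers haA) (Or.inr h.isSolvable)
          (N := F) hFM ((zpowers_le.mpr haA).trans (hAN.trans hNF)) hgM fun b' hb' => by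
            obtain ⟨i, rfl⟩ := mem_zpowers_iff.mp hb'
            have h4 := congrArg (fun φ : MulAut (M ⧸ F.subgroupOf M) =>
              φ ((⟨g, hgM⟩ : M) : M ⧸ F.subgroupOf M))
              (show ρ (a ^ i) = 1 by rw [map_zpow, hρa, one_zpow])
            simp only [hρ, MulAut.one_apply] at h4
            rw [QuotientGroup.eq, mem_subgroupOf] at h4
            have h5 := F.inv_mem h4
            simp [cj, mul_assoc] at h5
            simpa [mul_assoc] using h5
        have hca : (a : G) * c * (a : G)⁻¹ = c := by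
          rw [mem_centralizer_iff.mp hc.2 _ (mem_zpowers _), mul_inv_cancel_right]
        rcases h.eq_one_or_eq haA he₀ hmv hc.1 hca with hc1 | hc1 <;> rw [hc1] at hcs
        · exact hgF (inv_mem_iff.mp (by simpa using hcs))
        · refine huK ?_
          have h4 := (⁅M, A⁆).mul_mem hg (hFK hcs)
          rwa [mul_inv_cancel_left] at h4
    have := Nat.card_le_card_of_injective f hf
    rwa [Finite.card_option] at this
  have hd₀N : d₀ ∈ N := hd₀.2
  set δ := ρ ⟨d₀, hd₀N⟩ with hδ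
  have hδΓ : δ ∈ Γ := mem_map_of_mem _ (mem_subgroupOf.mpr ⟨hd₀.1, hd₀N⟩)
  have hδ1 : δ ≠ 1 := fun e => hcon ((hfixu ⟨d₀, hd₀N⟩).mp (by
    show δ ub = ub
    rw [e]; rfl))
  have hδodd : Odd (orderOf δ) := hd₀odd.of_dvd_nat ((orderOf_map_dvd ρ _).trans (by
    rw [← orderOf_injective N.subtype N.subtype_injective]; rfl))
  have hne1 : orderOf δ ≠ 1 := fun e => hδ1 (orderOf_eq_one_iff.mp e)
  set p := (orderOf δ).minFac with hp
  haveI hpp : Fact p.Prime := ⟨Nat.minFac_prime hne1⟩
  have hp2 : p ≠ 2 := fun e => Nat.not_even_iff_odd.mpr hδodd (even_iff_two_dvd.mpr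
    (e ▸ Nat.minFac_dvd (orderOf δ)))
  have hpΓ : p ∣ Nat.card Γ :=
    (Nat.minFac_dvd _).trans (Subgroup.orderOf_dvd_natCard Γ hδΓ)
  have hAbΓ : Ab ≤ normalizer (Γ : Set (MulAut (M ⧸ F.subgroupOf M))) := by
    rintro _ ⟨a, ha, rfl⟩
    refine Cfsg.Agent.H39.mem_normalizer_of_conj_mem ?_
    rintro _ ⟨l, hl, rfl⟩
    rw [← _root_.map_inv, ← _root_.map_mul, ← _root_.map_mul]
    refine mem_map_of_mem _ (mem_subgroupOf.mpr ⟨?_, (a * l * a⁻¹).2⟩)
    exact (mem_normalizer_iff.mp (hAX (mem_subgroupOf.mp ha)) _).mp (mem_subgroupOf.mp hl).1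
  have hcop : (Nat.card Ab).Coprime (Nat.card Γ) := by
    refine Nat.coprime_of_dvd fun r hr hrA hrΓ => ?_
    haveI : Fact r.Prime := ⟨hr⟩
    obtain ⟨α, hα⟩ := exists_prime_orderOf_dvd_card' r hrA
    have hα1 : (α : MulAut (M ⧸ F.subgroupOf M)) ≠ 1 := fun e => hr.ne_one (by
      rw [← hα, orderOf_eq_one_iff]; exact Subtype.ext e)
    set Z := zpowers (α : MulAut (M ⧸ F.subgroupOf M)) with hZ
    have hZr : IsPGroup r Z := IsPGroup.of_card (n := 1) (by
      rw [Nat.card_zpowers, orderOf_coe, hα, pow_one])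
    have hZΓ : Z ≤ normalizer (Γ : Set (MulAut (M ⧸ F.subgroupOf M))) :=
      zpowers_le.mpr (hAbΓ α.2)
    letI : MulAction Z Γ :=
      { smul := fun z g => ⟨(z : MulAut (M ⧸ F.subgroupOf M)) * g * (z : MulAut (M ⧸ F.subgroupOf M))⁻¹,
          (mem_normalizer_iff.mp (hZΓ z.2) _).mp g.2⟩
        one_smul := fun g => Subtype.ext (by simp [HSMul.hSMul, SMul.smul])
        mul_smul := fun z z' g => Subtype.ext (by simp [HSMul.hSMul, SMul.smul, mul_assoc]) }
    have hfp : Nat.card (MulAction.fixedPoints Z Γ) = 1 := by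
      refine Nat.card_eq_one_iff_unique.mpr ⟨⟨fun g g' => ?_⟩, ⟨⟨1, fun z => Subtype.ext ?_⟩⟩⟩
      · have h0 : ∀ g : MulAction.fixedPoints Z Γ, ((g : Γ) : MulAut (M ⧸ F.subgroupOf M)) = 1 :=
          fun g => hfree α α.2 hα1 _ g.1.2
            (congrArg Subtype.val (g.2 ⟨α, mem_zpowers _⟩))
        exact Subtype.ext (Subtype.ext ((h0 g).trans (h0 g').symm))
      · show (z : MulAut (M ⧸ F.subgroupOf M)) * ((1 : Γ) : MulAut (M ⧸ F.subgroupOf M)) * (z : MulAut (M ⧸ F.subgroupOf M))⁻¹ = _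
        simp
    have hmod := hZr.card_modEq_card_fixedPoints Γ
    rw [hfp] at hmod
    have := (Nat.ModEq.of_dvd (dvd_refl r) hmod).symm.trans (Nat.modEq_zero_iff_dvd.mpr hrΓ)
    exact hr.not_dvd_one (Nat.modEq_zero_iff_dvd.mp this)
  have hAbcomm : ∀ a b : Ab, a * b = b * a := by
    rintro ⟨_, a, ha, rfl⟩ ⟨_, b, hb, rfl⟩
    refine Subtype.ext ?_
    show ρ a * ρ b = ρ b * ρ a
    rw [← _root_.map_mul, ← _root_.map_mul]
    exact congrArg ρ (Subtype.ext (congrArg Subtype.val
      (h.comm ⟨_, mem_subgroupOf.mp ha⟩ ⟨_, mem_subgroupOf.mp hb⟩) : (a : G) * b = b * a))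
  haveI : IsMulCommutative Ab := ⟨⟨hAbcomm⟩⟩
  obtain ⟨P, hP⟩ := Coprime.exists_invariant_sylow hAbΓ hcop
    (Or.inl Coprime.isSolvable_of_isMulCommutative) p
  have hPne : (P : Subgroup Γ) ≠ ⊥ := P.ne_bot_of_dvd_card hpΓ
  haveI : Nontrivial (P : Subgroup Γ) := (Subgroup.nontrivial_iff_ne_bot _).mpr hPne
  haveI := P.2.center_nontrivial
  set PG : Subgroup (MulAut (M ⧸ F.subgroupOf M)) := (P : Subgroup Γ).map Γ.subtype with hPG
  set W : Subgroup (MulAut (M ⧸ F.subgroupOf M)) :=
    ((center (P : Subgroup Γ)).map (P : Subgroup Γ).subtype).map Γ.subtype with hW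
  have hWΓ : W ≤ Γ := map_subtype_le _
  have hmemW : ∀ w, w ∈ W ↔ w ∈ PG ∧ ∀ g ∈ PG, g * w = w * g := by
    intro w
    constructor
    · rintro ⟨_, ⟨z, hz, rfl⟩, rfl⟩
      refine ⟨⟨z, z.2, rfl⟩, ?_⟩
      rintro _ ⟨g, hg, rfl⟩
      exact congrArg (fun x : (P : Subgroup Γ) => ((x : Γ) : MulAut (M ⧸ F.subgroupOf M)))
        (mem_center_iff.mp hz ⟨g, hg⟩)
    · rintro ⟨⟨x, hx, rfl⟩, hcomm⟩
      exact ⟨x, ⟨⟨x, hx⟩, mem_center_iff.mpr fun g => Subtype.ext (Subtype.ext
        (hcomm _ ⟨g, g.2, rfl⟩)), rfl⟩, rfl⟩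
  have hexp : ∀ v : M ⧸ F.subgroupOf M, v ^ 2 = 1 := fun v => by
    induction v using QuotientGroup.induction_on with
    | _ m =>
      rw [← QuotientGroup.mk_pow, QuotientGroup.eq_one_iff, mem_subgroupOf, pow_two]
      exact sq_mem_nxt m.2
  have hD : H6.Asch.EigenOrbit.Data W Ab :=
    { exp := hexp
      comm := fun a ha b hb => ((hmemW b).mp hb).2 a ((hmemW a).mp ha).1
      odd := by
        rw [hW, Subgroup.card_map_of_injective Γ.subtype_injective,
          Subgroup.card_map_of_injective (P : Subgroup Γ).subtype_injective]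
        obtain ⟨k, hk⟩ := IsPGroup.iff_card.mp (P.2.to_subgroup (center (P : Subgroup Γ)))
        rw [hk]
        exact (hpp.out.odd_of_ne_two hp2).pow
      ne := fun e => by
        rw [hW, Subgroup.map_eq_bot_iff_of_injective _ Γ.subtype_injective,
          Subgroup.map_eq_bot_iff_of_injective _ (P : Subgroup Γ).subtype_injective] at e
        exact (Subgroup.nontrivial_iff_ne_bot _).mp ‹_› e
      norm := fun a ha w hw => by
        obtain ⟨h1, h2⟩ := (hmemW w).mp hw
        refine (hmemW _).mpr ⟨(mem_normalizer_iff.mp (hP ha) w).mp h1, fun g hg => ?_⟩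
        have h3 := h2 _ ((mem_normalizer_iff.mp (hP (Ab.inv_mem ha)) g).mp hg)
        calc g * (a * w * a⁻¹) = a * (a⁻¹ * g * a⁻¹⁻¹ * w) * a⁻¹ := by group
          _ = a * (w * (a⁻¹ * g * a⁻¹⁻¹)) * a⁻¹ := by rw [h3]
          _ = _ := by group
      free := fun a ha ha1 w hw hfx => hfree a ha ha1 w (hWΓ hw) hfx }
  have hAn := H6.Asch.EigenOrbit.card_le hD hn
  have h5 := h.five_le hs hQE
  have hnL : n ≤ 2 * LE + 1 := by
    rw [hn, h.card_Q hs hQE, hLE, ← pow_add, ← pow_succ'] at hVle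
    have := (Nat.pow_le_pow_iff_right (by norm_num)).mp hVle
    omega
  have hL3 : 3 ≤ LE := by
    by_contra hlt
    push Not at hlt
    have : 2 ^ LE ≤ 2 ^ 2 := Nat.pow_le_pow_right (by norm_num) (by omega)
    omega
  have hgrow : ∀ k, 4 ≤ k → 2 * k + 3 ≤ 2 ^ k := fun k hk => by
    induction k, hk using Nat.le_induction with
    | base => norm_num
    | succ k _ ih => rw [pow_succ]; omega
  have hLeq : LE = 3 := by
    by_contra hne
    have := hgrow LE (by omega)
    omega
  subst hLeq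
  have hn7 : n = 7 := by omega
  subst hn7
  have hA7 : Nat.card Ab = 7 := by omega
  -- every element of the Frattini part is a commutator with `u`
  have hsurj : ∀ y ∈ F, ∃ g ∈ M, ⁅g, u⁆ = y := hcnt.2 (by
    rw [hcardM, hn]
    refine Nat.mul_le_mul_right _ (h.card_centralizer_le.trans ?_)
    rw [h.card_Q hs hQE, hLE]; norm_num)
  have hinvF : ∀ y ∈ F, u * y * u = y⁻¹ := fun y hy => by
    obtain ⟨g, -, rfl⟩ := hsurj y hy
    exact h.comm_comm_u
  have hFcomm : ∀ a ∈ F, ∀ b ∈ F, Commute a b := fun a ha b hb => by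
    have h1 := hinvF _ (F.mul_mem ha hb)
    rw [show u * (a * b) * u = u * a * u * (u * b * u) by
      calc u * (a * b) * u = u * a * (u * u) * b * u := by rw [h.sq_u]; group
        _ = _ := by group, hinvF a ha, hinvF b hb, mul_inv_rev] at h1
    have h2 : Commute a⁻¹ b⁻¹ := h1
    simpa using h2.inv_inv
  have hFom : ∀ t ∈ F, t * t = 1 → t ∈ E := fun t ht ht2 => by
    refine h.omega t (h.mem_Q_of_commute huK (hFK ht) ?_) ht2
    have h1 := hinvF t ht
    rw [inv_eq_of_mul_eq_one_right ht2] at h1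
    calc t * u = u * u * t * u := by rw [h.sq_u, one_mul]
      _ = u * (u * t * u) := by group
      _ = _ := by rw [h1]
  set F2 := nxt F M with hF2
  have hMF : M ≤ normalizer (F : Set G) := le_normalizer.trans hNF
  have hF2F : F2 ≤ F := nxt_le hMF
  have hMF2 : M ≤ normalizer (F2 : Set G) := norm_nxt hMF le_normalizer
  haveI hF2n : (F2.subgroupOf F).Normal :=
    ⟨fun g hg m => (mem_normalizer_iff.mp (hMF2 (hFM m.2)) _).mp hg⟩
  letI : CommGroup (F ⧸ F2.subgroupOf F) :=
    { (inferInstance : Group (F ⧸ F2.subgroupOf F)) with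
      mul_comm := fun a b => by
        induction a using QuotientGroup.induction_on with
        | _ x =>
          induction b using QuotientGroup.induction_on with
          | _ y =>
            rw [← QuotientGroup.mk_mul, ← QuotientGroup.mk_mul]
            exact congrArg _ (Subtype.ext (hFcomm x x.2 y y.2).eq) }
  have hU : ∀ a : F ⧸ F2.subgroupOf F, a ^ 2 = 1 := fun a => by
    induction a using QuotientGroup.induction_on with
    | _ x =>
      rw [← QuotientGroup.mk_pow, QuotientGroup.eq_one_iff, mem_subgroupOf, pow_two]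
      exact sq_mem_nxt x.2
  let br : M → M → F ⧸ F2.subgroupOf F := fun a b =>
    ((⟨⁅(a : G), (b : G)⁆, comm_mem_nxt a.2 b.2⟩ : F) : F ⧸ F2.subgroupOf F)
  have hbr0 : ∀ {a b : M}, ⁅(a : G), (b : G)⁆ ∈ F2 → br a b = 1 := fun hab =>
    (QuotientGroup.eq_one_iff _).mpr (mem_subgroupOf.mpr hab)
  have hconjF : ∀ (a : M) (y : F), ((⟨(a : G) * y * (a : G)⁻¹,
      (mem_normalizer_iff.mp (hMF a.2) _).mp y.2⟩ : F) : F ⧸ F2.subgroupOf F) = y := fun a y => by
    rw [QuotientGroup.eq, mem_subgroupOf]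
    have h1 := comm_mem_nxt' (R := M) (F.inv_mem y.2) a.2
    simpa [commutatorElement_def, mul_assoc] using h1
  have hbr1 : ∀ a b c : M, br (a * b) c = br a c * br b c := fun a b c => by
    have e : ⁅((a * b : M) : G), (c : G)⁆ = (a : G) * ⁅(b : G), (c : G)⁆ * (a : G)⁻¹ * ⁅(a : G), (c : G)⁆ := by
      simp [commutatorElement_def, mul_assoc]
    rw [mul_comm (br a c)]
    simp only [br]
    rw [← hconjF a ⟨⁅(b : G), (c : G)⁆, comm_mem_nxt b.2 c.2⟩, ← QuotientGroup.mk_mul]
    exact congrArg _ (Subtype.ext e)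
  have hbr2 : ∀ a b c : M, br a (b * c) = br a b * br a c := fun a b c => by
    have e : ⁅(a : G), ((b * c : M) : G)⁆ = ⁅(a : G), (b : G)⁆ * ((b : G) * ⁅(a : G), (c : G)⁆ * (b : G)⁻¹) := by
      simp [commutatorElement_def, mul_assoc]
    simp only [br]
    rw [← hconjF b ⟨⁅(a : G), (c : G)⁆, comm_mem_nxt a.2 c.2⟩, ← QuotientGroup.mk_mul]
    exact congrArg _ (Subtype.ext e)
  let β₁ : M → (M ⧸ F.subgroupOf M) →* F ⧸ F2.subgroupOf F := fun a =>
    QuotientGroup.lift _ (MonoidHom.mk' (br a) (hbr2 a)) fun b hb =>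
      hbr0 (comm_mem_nxt' (mem_subgroupOf.mp hb) a.2)
  let β₀ : M →* (M ⧸ F.subgroupOf M) →* F ⧸ F2.subgroupOf F :=
    MonoidHom.mk' β₁ fun a b => MonoidHom.ext fun v => by
      induction v using QuotientGroup.induction_on with
      | _ c => exact hbr1 a b c
  let β : (M ⧸ F.subgroupOf M) →* (M ⧸ F.subgroupOf M) →* F ⧸ F2.subgroupOf F :=
    QuotientGroup.lift _ β₀ fun a ha => MonoidHom.ext fun v => by
      induction v using QuotientGroup.induction_on with
      | _ c => exact hbr0 (comm_mem_nxt (mem_subgroupOf.mp ha) c.2)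
  have hβ : ∀ a b : M, β a b = br a b := fun _ _ => rfl
  have hinvar : ∀ w ∈ W, ∀ a b, β (w a) (w b) = β a b := by
    intro w hw a b
    obtain ⟨l, hl, hlw⟩ := hWΓ hw
    have hlX := (mem_subgroupOf.mp hl).1
    set v := (orderOf (l : G)).factorization 2 with hv
    have hwodd : Odd (orderOf w) := hD.odd.of_dvd_nat (Subgroup.orderOf_dvd_natCard W hw)
    obtain ⟨j, hj⟩ := exists_pow_eq_self_of_coprime (n := 2 ^ v) (x := w)
      ((Nat.coprime_two_left.mpr hwodd).pow_left v)
    set l' : N := (l ^ 2 ^ v) ^ j with hl'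
    have hρl : ρ l' = w := by rw [hl', map_pow, map_pow, hlw, hj]
    have hl'odd : Odd (orderOf (l' : G)) := by
      have h1 : Odd (orderOf ((l : G) ^ 2 ^ v)) := by
        rw [orderOf_pow' _ (by positivity), Nat.gcd_eq_right (Nat.ordProj_dvd _ _), Nat.odd_iff,
          ← Nat.two_dvd_ne_zero]
        exact Nat.not_dvd_ordCompl Nat.prime_two (orderOf_pos (l : G)).ne'
      refine h1.of_dvd_nat ?_
      rw [hl']; push_cast
      exact orderOf_pow_dvd j
    have hl'X : (l' : G) ∈ X := by rw [hl']; push_cast; exact X.pow_mem (X.pow_mem hlX _) _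
    have hl'F := commute_of_abelian_two (h.two.to_le hFM) hFcomm hl'odd (hNF l'.2)
      fun t ht ht2 => (hXE t (hFom t ht ht2) _ hl'X).symm
    subst hρl
    induction a using QuotientGroup.induction_on with
    | _ a =>
      induction b using QuotientGroup.induction_on with
      | _ b =>
        rw [hρ, hρ, hβ, hβ]
        refine congrArg (QuotientGroup.mk (s := F2.subgroupOf F)) (Subtype.ext ?_)
        show ⁅(l' : G) * a * (l' : G)⁻¹, (l' : G) * b * (l' : G)⁻¹⁆ = ⁅(a : G), (b : G)⁆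
        rw [← h.conj_comm, (hl'F _ (comm_mem_nxt a.2 b.2)).eq, mul_inv_cancel_right]
  have hzero := H6.Asch.EigenOrbit.pairing_eq_one hD hn hA7 (by decide) hU β hinvar
  have hle : F ≤ F2 := fun y hy => by
    obtain ⟨g, hg, rfl⟩ := hsurj y hy
    have h1 := hzero ((⟨g, hg⟩ : M) : M ⧸ F.subgroupOf M) ub
    rw [hub, hβ] at h1
    exact mem_subgroupOf.mp ((QuotientGroup.eq_one_iff _).mp h1)
  obtain ⟨e, he, he1⟩ := h.exists_ne_one
  refine (nxt_lt h.two hFM hMF fun hbot => he1 ?_).not_ge hle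
  rw [← mem_bot, ← hbot]
  exact h.E_le_nxt hQE he

/-- An odd element of `X` normalising `M` centralises `u` up to `M`. -/
theorem exists_commute_of_odd {l : G} (hl : l ∈ X ⊓ normalizer (M : Set G))
    (hlo : Odd (orderOf l)) : ∃ m ∈ M, Commute (m * l) u := by
  have hy := h.fixed_of_odd hs hQE hMX hXE hAX hT l hl hlo
  set y := l * u * l⁻¹ * u with hydef
  have hyu : y * u = l * u * l⁻¹ := by rw [hydef, mul_assoc _ u u, h.sq_u, mul_one]
  have hy2 : y * u * (y * u) = 1 := by
    rw [hyu, show l * u * l⁻¹ * (l * u * l⁻¹) = l * (u * u) * l⁻¹ by group, h.sq_u]; group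
  rcases h.base_or_fill hs hQE with hbase | hfill
  · refine ⟨1, M.one_mem, ?_⟩
    rw [one_mul]
    have hyE : y ∈ E := by
      refine h.nxt_le_of_sq (h.sq_mem_E_of_layer hs fun g hg => ?_) hy
      rw [commutatorElement_eq_one_iff_mul_comm.mpr (hbase g hg).eq]; exact E.one_mem
    refine commute_of_sq_commutator hlo ?_ ?_ <;>
      rw [show u⁻¹ * (l * u * l⁻¹) = y by
        rw [← hyu, h.inv_u, (h.central y hyE u h.u_mem).eq, ← mul_assoc, h.sq_u, one_mul]]
    exacts [h.sq y hyE, (hXE y hyE l hl.1).symm]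
  · obtain ⟨m, hm, hme⟩ := hfill y hy hy2
    refine ⟨m⁻¹, M.inv_mem hm, mul_inv_eq_iff_eq_mul.mp ?_⟩
    calc m⁻¹ * l * u * (m⁻¹ * l)⁻¹ = m⁻¹ * (l * u * l⁻¹) * m := by group
      _ = m⁻¹ * (m * u * m⁻¹) * m := by rw [← hyu, hme]
      _ = u := by group

/-- **GAMMA**: the Sylow subgroup of the normaliser is transitive on the conjugates of `u`. -/
theorem orbit {P : Subgroup G} (hP : MaxTwo (X ⊓ normalizer (M : Set G)) P) (hMP : M ≤ P) :
    ∀ l ∈ X ⊓ normalizer (M : Set G), ∃ p ∈ P, Commute (p * l) u := by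
  haveI : Fact (Nat.Prime 2) := ⟨Nat.prime_two⟩
  set L := X ⊓ normalizer (M : Set G) with hL
  obtain ⟨S, hS⟩ : ∃ S : Sylow 2 L, (S : Subgroup L) = P.subgroupOf L := by
    refine ⟨⟨P.subgroupOf L, hP.1.comap_of_injective L.subtype L.subtype_injective,
      fun {R} hR hle => ?_⟩, rfl⟩
    have h1 := hP.2.2 (R.map L.subtype) (hR.map L.subtype) (map_subtype_le _) (by
      rw [← map_subgroupOf_eq_of_le hP.2.1]
      exact map_mono hle)
    rw [← h1, subgroupOf, comap_map_eq_self_of_injective L.subtype_injective]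
  let H₀ : Subgroup L :=
    { carrier := {l | ∃ m ∈ M, Commute (m * l) u}
      one_mem' := ⟨1, M.one_mem, by simp⟩
      mul_mem' := fun {a b} ⟨m, hm, hma⟩ ⟨k, hk, hkb⟩ =>
        ⟨m * (a * k * (a : G)⁻¹), M.mul_mem hm ((mem_normalizer_iff.mp a.2.2 k).mp hk), by
          push_cast
          rw [show m * ((a : G) * k * (a : G)⁻¹) * ((a : G) * b) = (m * a) * (k * b) by group]
          exact hma.mul_left hkb⟩
      inv_mem' := fun {a} ⟨m, hm, hma⟩ =>
        ⟨(a : G)⁻¹ * m⁻¹ * a, by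
          have := (mem_normalizer_iff.mp (inv_mem a.2.2) _).mp (M.inv_mem hm)
          rwa [inv_inv] at this, by
          push_cast
          rw [mul_inv_cancel_right, ← mul_inv_rev]
          exact hma.inv_left⟩ }
  set O := normalClosure {x : L | Odd (orderOf x)} with hO
  have hOH : O ≤ H₀ := by
    rw [hO, normalClosure, closure_le]
    intro x hx
    obtain ⟨y, hy, hc⟩ := Group.mem_conjugatesOfSet_iff.mp hx
    obtain ⟨g, hg⟩ := isConj_iff.mp hc
    refine h.exists_commute_of_odd hs hQE hMX hXE hAX hT x.2 ?_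
    have hxy : orderOf x = orderOf y := by
      rw [← hg]; exact (MulAut.conj g).orderOf_eq y
    rw [orderOf_coe, hxy]
    exact hy
  have hquot : IsPGroup 2 (L ⧸ O) := fun z => by
    induction z using QuotientGroup.induction_on with
    | _ x =>
      refine ⟨(orderOf x).factorization 2, ?_⟩
      rw [← QuotientGroup.mk_pow, QuotientGroup.eq_one_iff]
      refine subset_normalClosure ?_
      show Odd (orderOf (x ^ _))
      rw [orderOf_pow' _ (by positivity), Nat.gcd_eq_right (Nat.ordProj_dvd _ _), Nat.odd_iff,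
        ← Nat.two_dvd_ne_zero]
      exact Nat.not_dvd_ordCompl Nat.prime_two (orderOf_pos x).ne'
  have htop : O ⊔ (S : Subgroup L) = ⊤ := by
    refine index_eq_one.mp ?_
    obtain ⟨k, hk⟩ := IsPGroup.iff_card.mp hquot
    have h1 : (O ⊔ (S : Subgroup L)).index ∣ 2 ^ k := by
      rw [← hk, ← index_eq_card]; exact index_dvd_of_le le_sup_left
    obtain ⟨j, -, hj⟩ := (Nat.dvd_prime_pow Nat.prime_two).mp h1
    rcases j with _ | j
    · simpa using hj
    · exfalso
      refine S.not_dvd_index (dvd_trans ?_ (index_dvd_of_le (le_sup_right : (S : Subgroup L) ≤ O ⊔ S)))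
      rw [hj]; exact dvd_pow_self 2 (by omega)
  intro l hl
  have hlmem : (⟨l, hl⟩ : L) ∈ O ⊔ (S : Subgroup L) := htop ▸ mem_top _
  obtain ⟨o, ho, s, hs', hos⟩ := (Coprime.mem_sup_iff le_normalizer_of_normal).mp hlmem
  have ho' : s⁻¹ * o * s ∈ O := by
    have := normalClosure_normal.conj_mem o ho s⁻¹
    simpa using this
  obtain ⟨m, hm, hmc⟩ := hOH ho'
  rw [hS, mem_subgroupOf] at hs'
  refine ⟨m * (s : G)⁻¹, P.mul_mem (hMP hm) (P.inv_mem hs'), ?_⟩
  have hls : l = (o : G) * s := (congrArg Subtype.val hos).symm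
  rw [hls]
  push_cast at hmc
  rwa [show m * (s : G)⁻¹ * ((o : G) * s) = m * ((s : G)⁻¹ * o * s) by group]

/-- At the top of the climb the elements normalising `M` fix `u` modulo the Frattini part. -/
theorem fixed (hM : MaxTwo X M) :
    ∀ l ∈ X ⊓ normalizer (M : Set G), l * u * l⁻¹ * u ∈ nxt M M := by
  intro l hl
  obtain ⟨m, hm, hc⟩ := h.orbit hs hQE hMX hXE hAX hT (P := M)
    ⟨hM.1, le_inf hM.2.1 le_normalizer, fun P h1 h2 h3 => hM.2.2 P h1 (h2.trans inf_le_left) h3⟩
    le_rfl l hl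
  have h1 : l * u * l⁻¹ = m⁻¹ * u * m := by
    calc l * u * l⁻¹ = m⁻¹ * (m * l * u * (m * l)⁻¹) * m := by group
      _ = _ := by rw [hc.eq, mul_inv_cancel_right]
  rw [h1, show m⁻¹ * u * m * u = ⁅m⁻¹, u⁆ by simp [commutatorElement_def, h.inv_u]]
  exact comm_mem_nxt (M.inv_mem hm) h.u_mem

end

end ShapeData

end Cfsg.Agent.H14.Asch
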